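import Cfsg.Agent.Lib.Solv.Partition.Action
import Cfsg.Agent.Lib.Solv.Zipper
import Cfsg.Agent.Lib.OddChar.FT.Final
import Cfsg.Agent.Lib.OddChar.FT.NoMinimal

/-!
# A complement element with nontrivial norm

An irreducible linear group over `GF(q)` whose `q'`-elements are fixed-point-free and in which no
`q`-element commutes with a `q'`-element has an element of order `q` with nontrivial norm.
-/

set_option autoImplicit false
set_option linter.style.haveILetI false
set_option linter.unusedSectionVars false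

namespace Cfsg.Agent.Solv.Partition

open Finset

universe u v

theorem odd_solvable {H : Type u} [Group H] [Finite H] (h : Odd (Nat.card H)) : Group.IsSolvable H :=
  Cfsg.Agent.OddFT.odd_solvable_of_no_min (fun K _ _ => Cfsg.Agent.OddFT.no_minSimple K) h

variable {X : Type u} [Group X] [Finite X] {V : Type v} [CommGroup V] (φ : X →* MulAut V)

/-- Coprime orders and prime power exponent force triviality. -/
theorem eq_one_of_coprime_pows {v : V} {m n : ℕ} (hm : v ^ m = 1) (hn : v ^ n = 1) (h : m.Coprime n) : v = 1 :=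
  orderOf_eq_one_iff.1 (Nat.eq_one_of_dvd_coprimes h (orderOf_dvd_of_pow_eq_one hm) (orderOf_dvd_of_pow_eq_one hn))

theorem exists_norm_ne_one (hφ : Function.Injective φ) {q : ℕ} [hqf : Fact q.Prime] [Nontrivial V]
    (hexp : ∀ v : V, v ^ q = 1)
    (hfpf : ∀ z : X, z ≠ 1 → ¬ q ∣ orderOf z → ∀ v : V, φ z v = v → v = 1)
    (hmix : ∀ z : X, q ∣ orderOf z → ∀ r : ℕ, r.Prime → r ∣ orderOf z → r = q)
    (hO : ∀ Q : Subgroup X, Q.Normal → IsPGroup q Q → Q = ⊥) (hq : q ∣ Nat.card X) :
    ∃ (x : X) (v : V), orderOf x = q ∧ ∏ i ∈ range q, φ (x ^ i) v ≠ 1 ∧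
      (q = 2 → ∃ h : X, h ≠ 1 ∧ Odd (orderOf h) ∧ x * h * x⁻¹ = h⁻¹) := by
  classical
  have hqp := hqf.out
  obtain ⟨v₀, hv₀⟩ := exists_ne (1 : V)
  have finish : ∀ (R : Subgroup X) (x : X), R ≠ ⊥ → ¬ q ∣ Nat.card R → orderOf x = q →
      x ∈ Subgroup.normalizer (R : Set X) → ∃ v : V, ∏ i ∈ range q, φ (x ^ i) v ≠ 1 := by
    intro R x hR hcop hx hxR
    haveI := Fintype.ofFinite R
    by_contra hall
    push Not at hall
    have hRq : ∀ r ∈ R, ¬ q ∣ orderOf r := fun r hr h => hcop (h.trans (Subgroup.orderOf_dvd_natCard R hr))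
    have h1 := pow_card_eq_one_of_norm φ R hR x hqp.ne_zero
      (fun r hr hr1 => hfpf r hr1 (hRq r hr)) hxR (fun i hi0 hiq r hr hcomm => by
        by_contra hr1
        have hxi : orderOf (x ^ i) = q := by
          refine orderOf_eq_prime (by rw [← pow_mul, mul_comm, pow_mul, ← hx, pow_orderOf_eq_one, one_pow])
            fun e => ?_
          have := Nat.le_of_dvd hi0 (hx ▸ orderOf_dvd_of_pow_eq_one e)
          omega
        have hcop' : (orderOf (x ^ i)).Coprime (orderOf r) := by
          rw [hxi, hqp.coprime_iff_not_dvd]; exact hRq r hr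
        have hprod := Commute.orderOf_mul_eq_mul_orderOf_of_coprime hcomm hcop'
        obtain ⟨l, hl, hld⟩ := Nat.exists_prime_and_dvd (n := orderOf r) fun e => hr1 (orderOf_eq_one_iff.1 e)
        have := hmix (x ^ i * r) (by rw [hprod, hxi]; exact dvd_mul_right _ _) l hl
          (by rw [hprod]; exact hld.trans (dvd_mul_left _ _))
        exact hRq r hr (this ▸ hld)) hall v₀
    exact hv₀ (eq_one_of_coprime_pows h1 (hexp v₀) (by
      rw [← Nat.card_eq_fintype_card]
      exact ((hqp.coprime_iff_not_dvd).2 hcop).symm))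
  obtain ⟨x, hx⟩ := exists_prime_orderOf_dvd_card' q hq
  by_cases hq2 : q = 2
  · subst hq2
    have hxc : x ∉ Cfsg.pCore 2 X := by
      intro hmem
      have h := hO (Cfsg.pCore 2 X) (Cfsg.Agent.Solv.pCore_normal 2) (Cfsg.Agent.Solv.pCore_isPGroup 2)
      rw [h, Subgroup.mem_bot] at hmem
      rw [hmem, orderOf_one] at hx
      omega
    obtain ⟨h, hh1, hhodd, hinv⟩ := Cfsg.Agent.Solv.exists_odd_inverted hx hxc
    obtain ⟨v, hv⟩ := finish (Subgroup.zpowers h) x (by simpa using hh1)
      (by rw [Nat.card_zpowers]; exact hhodd.not_two_dvd_nat) hx (by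
        refine Cfsg.Agent.Solv.mem_normalizer_of_conj_smul ?_
        rw [Cfsg.Agent.Solv.conj_smul_eq_map, MonoidHom.map_zpowers]
        show Subgroup.zpowers (x * h * x⁻¹) = _
        rw [hinv, Subgroup.zpowers_inv])
    exact ⟨x, v, hx, hv, fun _ => ⟨h, hh1, hhodd, hinv⟩⟩
  · have hodd : Odd (Nat.card X) := by
      by_contra he
      obtain ⟨t, ht⟩ := exists_prime_orderOf_dvd_card' 2 (Nat.not_odd_iff_even.1 he).two_dvd
      have ht1 : t ≠ 1 := fun e => by rw [e, orderOf_one] at ht; omega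
      have hnq : ¬ q ∣ orderOf t := by
        rw [ht]
        exact fun h => hq2 ((Nat.prime_dvd_prime_iff_eq hqp Nat.prime_two).1 h)
      have hinv : ∀ v : V, φ t v = v⁻¹ := fun v => by
        refine eq_inv_of_mul_eq_one_left (hfpf t ht1 hnq _ ?_)
        rw [map_mul, ← MulAut.mul_apply, ← map_mul, show t * t = 1 by rw [← pow_two, ← ht, pow_orderOf_eq_one],
          map_one, MulAut.one_apply, mul_comm]
      have hcomm : Commute x t := by
        refine hφ (MulEquiv.ext fun v => ?_)
        rw [map_mul, map_mul, MulAut.mul_apply, MulAut.mul_apply, hinv, hinv, map_inv]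
      have hcop : (orderOf x).Coprime (orderOf t) := by
        rw [hx, ht, hqp.coprime_iff_not_dvd]
        exact fun h => hq2 ((Nat.prime_dvd_prime_iff_eq hqp Nat.prime_two).1 h)
      have hprod := hcomm.orderOf_mul_eq_mul_orderOf_of_coprime hcop
      exact hq2 (hmix (x * t) (by rw [hprod, hx]; exact dvd_mul_right _ _) 2 Nat.prime_two
        (by rw [hprod, ht]; exact dvd_mul_left _ _)).symm
    haveI := odd_solvable hodd
    haveI : Nontrivial X := ⟨⟨x, 1, fun e => hqp.ne_one (by rw [← hx, e, orderOf_one])⟩⟩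
    obtain ⟨R, hRn, hR1, hRmin⟩ := Cfsg.Agent.Solv.exists_minimal_normal (G := X)
    haveI := hRn
    obtain ⟨-, r, hr, -, hRp⟩ := Cfsg.Agent.Solv.minimal_normal_elementaryAbelian R inferInstance hR1 hRmin
    haveI := Fact.mk hr
    have hrq : r ≠ q := fun e => hR1 (hO R hRn (e ▸ hRp))
    obtain ⟨k, hk⟩ := IsPGroup.iff_card.1 hRp
    obtain ⟨v, hv⟩ := finish R x hR1 (fun h => by
      rw [hk] at h
      exact hrq ((Nat.prime_dvd_prime_iff_eq hqp hr).1 (hqp.dvd_of_dvd_pow h)).symm) hx
      (by rw [Subgroup.normalizer_eq_top]; exact Subgroup.mem_top x)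
    exact ⟨x, v, hx, hv, fun e => absurd e hq2⟩

end Cfsg.Agent.Solv.Partition
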