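import Mathlib

/-!
# Facts on finite fields with an automorphism
-/

set_option autoImplicit false
set_option linter.style.haveILetI false

namespace Cfsg.Agent.Solv.Partition.FieldFacts

variable {F : Type*} [Field F] [Fintype F]

/-- The cardinality is a power with exponent any order of an automorphism. -/
theorem exists_pow_eq_card {p : ℕ} (σ : F ≃+* F) (hσ : orderOf σ = p) :
    ∃ r : ℕ, 2 ≤ r ∧ Fintype.card F = r ^ p := by
  obtain ⟨l, hl⟩ := CharP.exists F
  haveI := hl
  obtain ⟨f', hlp, hcard⟩ := FiniteField.card F l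
  obtain ⟨f, hf⟩ : ∃ f : ℕ, f = (f' : ℕ) := ⟨_, rfl⟩
  rw [← hf] at hcard
  haveI := Fact.mk hlp
  letI := ZMod.algebra F l
  let φ : (F ≃+* F) →* (F ≃ₐ[ZMod l] F) :=
    MonoidHom.mk' (fun σ => AlgEquiv.ofRingEquiv (f := σ) fun x =>
      RingHom.congr_fun (RingHom.ext_zmod ((σ : F →+* F).comp (algebraMap (ZMod l) F)) (algebraMap (ZMod l) F)) x)
      fun σ τ => AlgEquiv.ext fun _ => rfl
  have hφ : Function.Injective φ := fun σ τ h => RingEquiv.ext fun x => DFunLike.congr_fun h x
  have hp : p ∣ f := by
    have hfin : Nat.card (F ≃ₐ[ZMod l] F) = f := by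
      rw [IsGalois.card_aut_eq_finrank]
      refine Nat.pow_right_injective hlp.two_le ?_
      show l ^ Module.finrank (ZMod l) F = l ^ f
      rw [← hcard, Module.card_eq_pow_finrank (K := ZMod l), ZMod.card]
    rw [← hσ, ← orderOf_injective φ hφ σ, ← hfin]
    exact orderOf_dvd_natCard _
  obtain ⟨k, hk⟩ := hp
  refine ⟨l ^ k, ?_, ?_⟩
  · have hk0 : k ≠ 0 := by
      rintro rfl
      rw [mul_zero] at hk
      subst hk
      have := Fintype.one_lt_card (α := F)
      rw [hcard] at this
      simp at this
    exact le_trans hlp.two_le (Nat.le_self_pow hk0 l)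
  · rw [hcard, ← pow_mul]
    rw [hk, mul_comm]

/-- An involutory automorphism of a field of more than four elements in characteristic two moves less
than everything: some element other than `0, 1` is fixed. -/
theorem exists_fixed_ne (h2 : (2 : F) = 0) (σ : F ≃+* F) (hσ : ∀ x, σ (σ x) = x) (hq : 4 < Fintype.card F) :
    ∃ a : F, σ a = a ∧ a ≠ 0 ∧ a ≠ 1 := by
  by_contra hno
  push Not at hno
  classical
  let f : F →+ F :=
    { toFun := fun x => x + σ x
      map_zero' := by simp
      map_add' := fun x y => by rw [map_add]; ring }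
  have hmem : ∀ x, f x ∈ ({0, 1} : Finset F) := fun x => by
    simp only [Finset.mem_insert, Finset.mem_singleton]
    have hfx : σ (x + σ x) = x + σ x := by rw [map_add, hσ, add_comm]
    rcases eq_or_ne (f x) 0 with h | h
    · exact Or.inl h
    · exact Or.inr (hno _ hfx h)
  have hfib : ∀ b ∈ ({0, 1} : Finset F), (Finset.univ.filter fun x => f x = b).card ≤ 2 := by
    intro b _
    by_cases hex : ∃ x₀, f x₀ = b
    · obtain ⟨x₀, hx₀⟩ := hex
      refine (Finset.card_le_card (t := ({x₀, x₀ + 1} : Finset F)) fun x hx => ?_).trans Finset.card_le_two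
      rw [Finset.mem_filter] at hx
      have hd : σ (x - x₀) = x - x₀ := by
        have h1 : x + σ x = x₀ + σ x₀ := hx.2.trans hx₀.symm
        rw [map_sub]
        linear_combination h1 + (x₀ - x) * h2
      simp only [Finset.mem_insert, Finset.mem_singleton]
      rcases eq_or_ne (x - x₀) 0 with h | h
      · exact Or.inl (sub_eq_zero.1 h)
      · exact Or.inr (by linear_combination hno _ hd h)
    · rw [Finset.card_eq_zero.2 (Finset.filter_eq_empty_iff.2 fun x _ h => hex ⟨x, h⟩)]
      omega
  have h3 : Fintype.card F ≤ 2 * ({0, 1} : Finset F).card :=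
    Finset.card_le_mul_card_image_of_maps_to (s := Finset.univ) (f := f) (fun x _ => hmem x) 2 hfib
  have h4 : ({0, 1} : Finset F).card ≤ 2 := Finset.card_le_two
  omega

omit [Fintype F] in
/-- Every odd integer power minus one, with odd exponent, has an odd prime factor. -/
theorem exists_odd_prime_dvd {x : ℤ} (hx : Odd x) (hx1 : 1 < |x|) {p : ℕ} (hp : Odd p) (hp1 : 1 < p) :
    ∃ s : ℕ, s.Prime ∧ s ≠ 2 ∧ (s : ℤ) ∣ x ^ p - 1 := by
  set S := ∑ i ∈ Finset.range p, x ^ i
  have hS : S * (x - 1) = x ^ p - 1 := geom_sum_mul x p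
  have hodd : Odd S := by
    change Odd (∑ i ∈ Finset.range p, x ^ i)
    have key : ∀ n : ℕ, Odd (∑ i ∈ Finset.range n, x ^ i) ↔ Odd n := by
      intro n
      induction n with
      | zero => simp
      | succ n ih =>
        rw [Finset.sum_range_succ, Int.odd_add, ih, Nat.odd_add_one]
        simp [Int.not_even_iff_odd.2 (hx.pow (n := n))]
    exact (key p).2 hp
  have hne : S.natAbs ≠ 1 := by
    intro h
    have h1 := congrArg Int.natAbs hS
    rw [Int.natAbs_mul, h, one_mul] at h1
    have hx2 : 2 ≤ x.natAbs := by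
      rw [Int.abs_eq_natAbs] at hx1
      omega
    have h2 : 4 * x.natAbs ≤ (x ^ p).natAbs := by
      rw [Int.natAbs_pow]
      have hxo : x.natAbs % 2 = 1 := Nat.odd_iff.1 (Int.natAbs_odd.2 hx)
      have hx3 : 3 ≤ x.natAbs := by omega
      calc 4 * x.natAbs ≤ x.natAbs ^ 2 * x.natAbs := Nat.mul_le_mul_right _ (by nlinarith)
        _ = x.natAbs ^ 3 := by ring
        _ ≤ x.natAbs ^ p := Nat.pow_le_pow_right (by omega) (by obtain ⟨j, rfl⟩ := hp; omega)
    omega
  obtain ⟨s, hs, hsd⟩ := Nat.exists_prime_and_dvd hne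
  refine ⟨s, hs, ?_, (Int.natCast_dvd.2 hsd).trans ⟨x - 1, hS.symm⟩⟩
  rintro rfl
  exact (Nat.not_even_iff_odd.2 (Int.natAbs_odd.2 hodd)) (even_iff_two_dvd.2 hsd)

/-- The unit circle of a finite field of odd order `r ^ p` has a point of odd prime order. -/
theorem exists_circle_prime (h2 : (2 : F) ≠ 0) {r p : ℕ} (hr : 2 ≤ r) (hp : Odd p) (hp1 : 1 < p)
    (hF : Fintype.card F = r ^ p) :
    ∃ s : ℕ, s.Prime ∧ s ≠ 2 ∧ s ∣ Nat.card {v : F × F // v.1 * v.1 + v.2 * v.2 = 1} := by
  classical
  have hrodd : Odd r := by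
    have hc : Fintype.card F % 2 = 1 := by
      refine Nat.two_dvd_ne_zero.1 fun hd => h2 ?_
      obtain ⟨l, hl⟩ := CharP.exists F
      haveI := hl
      obtain ⟨f, hlp, hcard⟩ := FiniteField.card F l
      rw [hcard] at hd
      have hl2 : l = 2 := ((Nat.prime_dvd_prime_iff_eq Nat.prime_two hlp).1
        (Nat.prime_two.dvd_of_dvd_pow hd)).symm
      subst hl2
      exact_mod_cast CharP.cast_eq_zero F 2
    rw [hF, ← Nat.odd_iff] at hc
    exact (Nat.odd_pow_iff (by omega)).1 hc
  -- the rational parametrisation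
  let T := {t : F // 1 + t * t ≠ 0}
  let C := {v : F × F // v.1 * v.1 + v.2 * v.2 = 1}
  let f : Option T → C := fun o => match o with
    | none => ⟨(-1, 0), by simp⟩
    | some t => ⟨((1 - t.1 * t.1) / (1 + t.1 * t.1), 2 * t.1 / (1 + t.1 * t.1)), by
        have ht : 1 + t.1 * t.1 ≠ 0 := t.2
        rw [div_mul_div_comm, div_mul_div_comm, ← add_div, div_eq_one_iff_eq (mul_ne_zero ht ht)]
        ring⟩
  have hne : ∀ t : T, (1 - t.1 * t.1) / (1 + t.1 * t.1) ≠ -1 := fun t h => by
    rw [div_eq_iff t.2] at h
    exact h2 (by linear_combination h)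
  have hf : Function.Bijective f := by
    constructor
    · rintro (_ | t) (_ | t') h
      · rfl
      · exact absurd (congrArg (fun v : C => v.1.1) h).symm (hne t')
      · exact absurd (congrArg (fun v : C => v.1.1) h) (hne t)
      · have hy := congrArg (fun v : C => v.1.2) h
        have hx := congrArg (fun v : C => v.1.1) h
        simp only [f] at hx hy
        have key : ∀ u : T, u.1 = (2 * u.1 / (1 + u.1 * u.1)) / (1 + (1 - u.1 * u.1) / (1 + u.1 * u.1)) := by
          intro u
          have hu : 1 + u.1 * u.1 ≠ 0 := u.2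
          have e1 : 1 + (1 - u.1 * u.1) / (1 + u.1 * u.1) = 2 / (1 + u.1 * u.1) := by
            rw [eq_div_iff hu, add_mul, div_mul_cancel₀ _ hu]
            ring
          rw [e1, div_div_div_cancel_right₀ hu, mul_div_cancel_left₀ _ h2]
        refine congrArg some (Subtype.ext ?_)
        rw [key t, key t', hx, hy]
    · rintro ⟨⟨x, y⟩, hxy⟩
      by_cases hx : x = -1
      · refine ⟨none, Subtype.ext (Prod.ext hx.symm ?_)⟩
        have : y * y = 0 := by
          have e : x * x + y * y = 1 := hxy
          rw [hx] at e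
          linear_combination e
        exact (mul_self_eq_zero.1 this).symm
      · have hx1 : 1 + x ≠ 0 := fun e => hx (by linear_combination e)
        have e0 : x * x + y * y = 1 := hxy
        have e1 : 1 + y / (1 + x) * (y / (1 + x)) = 2 / (1 + x) := by
          field_simp
          linear_combination e0
        have ht : 1 + y / (1 + x) * (y / (1 + x)) ≠ 0 := by rw [e1]; exact div_ne_zero h2 hx1
        refine ⟨some ⟨y / (1 + x), ht⟩, Subtype.ext (Prod.ext ?_ ?_)⟩
        · show (1 - y / (1 + x) * (y / (1 + x))) / (1 + y / (1 + x) * (y / (1 + x))) = x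
          rw [e1]
          field_simp
          linear_combination -e0
        · show 2 * (y / (1 + x)) / (1 + y / (1 + x) * (y / (1 + x))) = y
          rw [e1]
          field_simp
  have hcard : Nat.card C = Nat.card T + 1 := by
    rw [← Nat.card_eq_of_bijective f hf, Nat.card_eq_fintype_card, Fintype.card_option, Nat.card_eq_fintype_card]
  have hT : Nat.card T + (Finset.univ.filter fun t : F => 1 + t * t = 0).card = Fintype.card F := by
    rw [Nat.card_eq_fintype_card, Fintype.card_subtype, ← Finset.card_univ,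
      ← Finset.card_filter_add_card_filter_not (s := (Finset.univ : Finset F)) (fun t : F => 1 + t * t ≠ 0)]
    congr 2
    ext t
    simp
  by_cases hi : ∃ i : F, i * i = -1
  · obtain ⟨i, hi⟩ := hi
    have hroots : (Finset.univ.filter fun t : F => 1 + t * t = 0) = {i, -i} := by
      ext t
      simp only [Finset.mem_filter, Finset.mem_univ, true_and, Finset.mem_insert, Finset.mem_singleton]
      constructor
      · intro h
        exact mul_self_eq_mul_self_iff.1 (by linear_combination h - hi)
      · rintro (rfl | rfl) <;> linear_combination hi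
    have hne2 : i ≠ -i := fun e => by
      have h0 : (2 : F) * i = 0 := by linear_combination e
      rcases mul_eq_zero.1 h0 with h | h
      · exact h2 h
      · rw [h, mul_zero] at hi
        exact one_ne_zero (α := F) (by linear_combination hi)
    rw [hroots, Finset.card_pair hne2] at hT
    obtain ⟨s, hs, hs2, hsd⟩ := exists_odd_prime_dvd (x := (r : ℤ)) (by exact_mod_cast hrodd)
      (by rw [Int.abs_eq_natAbs]; simp; omega) hp hp1
    refine ⟨s, hs, hs2, Int.natCast_dvd_natCast.1 ?_⟩
    have e : ((Nat.card C : ℕ) : ℤ) = (r : ℤ) ^ p - 1 := by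
      rw [show Nat.card C = r ^ p - 1 by omega, Nat.cast_sub (Nat.one_le_pow _ _ (by omega))]
      push_cast; ring
    rw [e]; exact hsd
  · have hroots : (Finset.univ.filter fun t : F => 1 + t * t = 0) = ∅ :=
      Finset.filter_eq_empty_iff.2 fun t _ h => hi ⟨t, by linear_combination h⟩
    rw [hroots, Finset.card_empty] at hT
    obtain ⟨s, hs, hs2, hsd⟩ := exists_odd_prime_dvd (x := -(r : ℤ)) (by rw [odd_neg]; exact_mod_cast hrodd)
      (by rw [abs_neg, Int.abs_eq_natAbs]; simp; omega) hp hp1
    refine ⟨s, hs, hs2, Int.natCast_dvd_natCast.1 ?_⟩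
    have e : ((Nat.card C : ℕ) : ℤ) = -((-(r : ℤ)) ^ p - 1) := by
      rw [hp.neg_pow, show Nat.card C = r ^ p + 1 by omega]
      push_cast; ring
    rw [e]; exact hsd.neg_right

end Cfsg.Agent.Solv.Partition.FieldFacts
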