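import Cfsg.Agent.Lib.Solv.Partition.AutBase
import Cfsg.Agent.Lib.Solv.Partition.FieldFacts
import Cfsg.Agent.Lib.Small.PSL2

/-!
# Overgroups of `PSL₂` with a nilpotent partition
-/

set_option autoImplicit false
set_option linter.style.haveILetI false
set_option linter.unusedSectionVars false

namespace Cfsg.Agent.Solv.Partition.AutPSL

open Cfsg.Agent.Small.PSL2

universe u

variable {F : Type} [Field F] [Fintype F]

local notation "P2" => Matrix.ProjectiveSpecialLinearGroup (Fin 2) F
local notation "SL2" => Matrix.SpecialLinearGroup (Fin 2) F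

theorem mul_conj_mul_inv (f : MulAut P2) (a : P2) : f * MulAut.conj a * f⁻¹ = MulAut.conj (f a) := by
  refine MulEquiv.ext fun b => ?_
  simp only [MulAut.mul_apply, MulAut.conj_apply, map_mul, map_inv, MulAut.apply_inv_self]

theorem conjP_of_scalar {g h : GL (Fin 2) F} {c : F} (e : g.val = c • h.val) : conjP g = conjP h := by
  have h1 : conjSL (h⁻¹ * g) = 1 := by
    refine MulEquiv.ext fun A => Subtype.ext ?_
    rw [conjSL_val, MulAut.one_apply]
    have e1 : (h⁻¹ * g : GL (Fin 2) F).val = c • (1 : Matrix (Fin 2) (Fin 2) F) := by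
      rw [Units.val_mul, e, Matrix.mul_smul, Units.inv_mul]
    calc (h⁻¹ * g : GL (Fin 2) F).val * A.1 * (h⁻¹ * g)⁻¹.val
        = A.1 * (h⁻¹ * g : GL (Fin 2) F).val * (h⁻¹ * g)⁻¹.val := by rw [e1]; simp
      _ = A.1 := by rw [mul_assoc, Units.mul_inv, mul_one]
  have h2 : conjP (h⁻¹ * g) = 1 := by
    show descend (conjSL (h⁻¹ * g)) = 1
    rw [h1, map_one]
  rw [map_mul, map_inv, inv_mul_eq_one] at h2
  exact h2.symm

/-- Up to inner automorphisms only the class of the determinant matters. -/
theorem exists_dGL (g : GL (Fin 2) F) :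
    ∃ (t : Fˣ) (a : P2), conjP g = conjP (dGL t) * MulAut.conj a := by
  set t := Units.mk0 g.val.det (Matrix.GeneralLinearGroup.det_ne_zero g)
  have hdet : (((dGL t)⁻¹ * g : GL (Fin 2) F).val).det = 1 := by
    have h1 : (((dGL t)⁻¹ * g : GL (Fin 2) F).val).det * (t : F) = (t : F) := by
      calc (((dGL t)⁻¹ * g : GL (Fin 2) F).val).det * (t : F)
          = (dGL t).val.det * (((dGL t)⁻¹ * g : GL (Fin 2) F).val).det := by rw [det_dGL, mul_comm]
        _ = (t : F) := by rw [← Matrix.det_mul, ← Units.val_mul, mul_inv_cancel_left]; rfl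
    exact mul_right_cancel₀ t.ne_zero (h1.trans (one_mul _).symm)
  let A : SL2 := ⟨_, hdet⟩
  refine ⟨t, pr A, ?_⟩
  rw [← conjP_toGL, ← map_mul]
  congr 1
  refine Units.ext ?_
  show g.val = (dGL t).val * ((dGL t)⁻¹ * g : GL (Fin 2) F).val
  rw [← Units.val_mul, mul_inv_cancel_left]

theorem conjP_dGL_sq (s : Fˣ) : conjP (dGL (s * s)) = MulAut.conj (pr (hS s)) := by
  rw [← conjP_toGL]
  refine conjP_of_scalar (c := (s : F)) ?_
  show !![((s * s : Fˣ) : F), 0; 0, 1] = (s : F) • !![(s : F), 0; 0, (s : F)⁻¹]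
  simp

theorem glField_dGL (σ : F ≃+* F) (t : Fˣ) : glField σ (dGL t) = dGL (Units.map (σ : F →* F) t) := by
  refine Units.ext (Matrix.ext fun i j => ?_)
  fin_cases i <;> fin_cases j <;> simp [glField, dGL]

theorem hS_mul (a b : Fˣ) : hS (a * b) = hS a * hS b := by
  apply Subtype.ext
  rw [val_mul, hS_val, hS_val, hS_val]
  simp [Matrix.mul_fin_two, mul_comm]

theorem hS_one : hS (1 : Fˣ) = 1 := by
  apply Subtype.ext
  simp [Matrix.one_fin_two]

/-- The torus. -/
noncomputable def hP : Fˣ →* P2 where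
  toFun a := pr (hS a)
  map_one' := by rw [hS_one, map_one]
  map_mul' a b := by rw [hS_mul, map_mul]

theorem hP_eq_iff (a b : Fˣ) : hP a = hP b ↔ (a : F) = b ∨ (a : F) = -b := by
  show pr (hS a) = pr (hS b) ↔ _
  rw [pr_eq_iff]
  constructor
  · rintro ⟨ε, hε, h⟩
    have h00 := congrFun (congrFun h 0) 0
    simp at h00
    rcases mul_self_eq_one_iff.1 hε with rfl | rfl
    · exact Or.inl (by simpa using h00)
    · exact Or.inr (by simpa using h00)
  · rintro (h | h)
    · exact ⟨1, one_mul 1, by rw [one_smul, Units.ext h]⟩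
    · refine ⟨-1, by ring, ?_⟩
      rw [hS_val, hS_val, h]
      simp [inv_neg]

variable {σ : F ≃+* F}

theorem fieldP_fix {A : SL2} (h : ∀ i j, σ (A.1 i j) = A.1 i j) : fieldP σ (pr A) = pr A := by
  rw [fieldP_apply]
  congr 1
  ext i j
  rw [fieldSL_apply, h]

theorem fieldP_injective : Function.Injective (fieldP (F := F)) := by
  refine (injective_iff_map_eq_one _).2 fun τ hτ => (field_eq_one (h := 1) ?_).1
  rw [map_one, hτ]

theorem orderOf_pr {A : SL2} {n : ℕ} (hn : n.Prime) (h : A ^ n = 1) (h1 : pr A ≠ 1) : orderOf (pr A) = n := by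
  haveI := Fact.mk hn
  exact orderOf_eq_prime (by rw [← map_pow, h, map_one]) h1

variable {Γ : Subgroup (MulAut (Matrix.ProjectiveSpecialLinearGroup (Fin 2) F))}
  (hin : ∀ a : Matrix.ProjectiveSpecialLinearGroup (Fin 2) F, MulAut.conj a ∈ Γ)

/-- Inner automorphisms inside `Γ`. -/
noncomputable def cj : P2 →* Γ where
  toFun a := ⟨MulAut.conj a, hin a⟩
  map_one' := Subtype.ext (map_one MulAut.conj)
  map_mul' a b := Subtype.ext (map_mul MulAut.conj a b)

theorem cj_injective (hc : Subgroup.center P2 = ⊥) : Function.Injective (cj hin) := fun _ _ h =>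
  conj_injective hc (congrArg Subtype.val h)

theorem conj_cj (f : Γ) (a : P2) : f * cj hin a * f⁻¹ = cj hin ((f : MulAut P2) a) :=
  Subtype.ext (mul_conj_mul_inv _ a)

include hin in
/-- No field automorphism of prime order. -/
theorem false_of_field [Finite Γ] (P : Part Γ) (hnil : ∀ x : Γ, x ≠ 1 → Group.IsNilpotent (P.A x))
    (hc : Subgroup.center P2 = ⊥) (h5 : 4 < Fintype.card F) {p : ℕ} (hp : p.Prime) (hσ : orderOf σ = p)
    (hmem : fieldP σ ∈ Γ) : False := by
  classical
  haveI := Fact.mk hp
  set s : Γ := ⟨fieldP σ, hmem⟩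
  have hso : orderOf s = p := by
    rw [Subgroup.orderOf_mk, orderOf_injective fieldP fieldP_injective, hσ]
  have hs1 : s ≠ 1 := fun e => hp.ne_one (by rw [← hso, e, orderOf_one])
  have hn := hnil s hs1
  have hinj := cj_injective hin hc
  have hmemA : ∀ a : P2, fieldP σ a = a → orderOf a ≠ p → cj hin a ∈ P.A s := by
    intro a ha ho
    refine P.mem_of_commute ?_ hs1 (Or.inr (by rw [orderOf_injective _ hinj, hso]; exact ho))
    have h := conj_cj hin s a
    rw [show ((s : MulAut P2) a) = a from ha] at h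
    exact mul_inv_eq_iff_eq_mul.1 h
  have hcomm : ∀ a b : P2, cj hin a ∈ P.A s → cj hin b ∈ P.A s → (orderOf a).Coprime (orderOf b) → Commute a b := by
    intro a b ha hb hab
    refine hinj ?_
    rw [map_mul, map_mul]
    exact P.commute_of_mem_nilpotent hn ha hb (by rwa [orderOf_injective _ hinj, orderOf_injective _ hinj])
  have hu : fieldP σ (pr (uS (1 : F))) = pr (uS 1) := fieldP_fix fun i j => by fin_cases i <;> fin_cases j <;> simp
  have hv : fieldP σ (pr (vS (-1 : F))) = pr (vS (-1)) :=
    fieldP_fix fun i j => by fin_cases i <;> fin_cases j <;> simp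
  have hw : fieldP σ (pr (wS : SL2)) = pr wS := fieldP_fix fun i j => by fin_cases i <;> fin_cases j <;> simp
  have hu1 : pr (uS (1 : F)) ≠ 1 := fun e => one_ne_zero (α := F) (pr_uS_inj (y := 0) (by
    rw [e, show uS (0 : F) = 1 by apply Subtype.ext; simp [Matrix.one_fin_two], map_one]))
  have hw1 : pr (wS : SL2) ≠ 1 := by
    intro e
    rw [← map_one pr, pr_eq_iff] at e
    obtain ⟨ε, -, h⟩ := e
    have h01 := congrFun (congrFun h 0) 1
    simp at h01
  have hw2 : orderOf (pr (wS : SL2)) = 2 := by
    refine orderOf_eq_prime ?_ hw1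
    rw [pow_two, ← map_mul, ← map_one pr, pr_eq_iff]
    exact ⟨-1, by ring, by rw [val_mul, wS_val]; simp [Matrix.mul_fin_two, Matrix.one_fin_two]⟩
  obtain ⟨l, hl⟩ := CharP.exists F
  haveI := hl
  have hlp : l.Prime := CharP.char_is_prime F l
  haveI := Fact.mk hlp
  have hl0 : (l : F) = 0 := CharP.cast_eq_zero F l
  have hupow : ∀ n : ℕ, (uS (1 : F)) ^ n = uS (n : F) := fun n => by
    induction n with
    | zero => apply Subtype.ext; simp [Matrix.one_fin_two]
    | succ n ih => rw [pow_succ, ih, ← uS_add, Nat.cast_succ]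
  have huo : orderOf (pr (uS (1 : F))) = l := orderOf_pr hlp (by
    rw [hupow, hl0]; apply Subtype.ext; simp [Matrix.one_fin_two]) hu1
  have hvo : orderOf (pr (vS (-1 : F))) = l := by
    have hconj : pr (vS (-1 : F)) = pr wS * pr (uS 1) * (pr wS)⁻¹ := by
      rw [eq_mul_inv_iff_mul_eq, ← map_mul, ← map_mul, wS_uS]
    rw [hconj, ← huo]
    exact orderOf_injective (MulAut.conj (pr (wS : SL2))).toMonoidHom (MulAut.conj (pr (wS : SL2))).injective _
  by_cases hp2 : p = 2
  · by_cases hl2 : l = 2
    · subst hl2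
      have h20 : (2 : F) = 0 := by exact_mod_cast hl0
      have hσσ : ∀ x, σ (σ x) = x := fun x => by
        have h : σ ^ 2 = 1 := by rw [← hp2, ← hσ, pow_orderOf_eq_one]
        rw [pow_two] at h
        exact RingEquiv.congr_fun h x
      obtain ⟨a, haσ, ha0, ha1⟩ := FieldFacts.exists_fixed_ne h20 σ hσσ h5
      set t := Units.mk0 a ha0
      have hneg : ∀ x : F, -x = x := fun x => by linear_combination -x * h20
      have ha2 : a * a ≠ 1 := fun e => by
        rcases mul_self_eq_one_iff.1 e with h | h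
        · exact ha1 h
        · exact ha1 (h.trans (hneg 1))
      have hh : fieldP σ (hP t) = hP t := fieldP_fix fun i j => by
        fin_cases i <;> fin_cases j <;> simp [t, haσ]
      have hho : Odd (orderOf (hP t)) := by
        refine Odd.of_dvd_nat ?_ ((orderOf_map_dvd hP t).trans (orderOf_dvd_card (x := t)))
        rw [Fintype.card_units]
        obtain ⟨n, -, hcard⟩ := FiniteField.card F 2
        have h2n : 2 ∣ Fintype.card F := hcard ▸ dvd_pow_self 2 n.ne_zero
        exact Nat.odd_iff.2 (by omega)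
      have hne2 : ∀ b : P2, Odd (orderOf b) → orderOf b ≠ p := fun b hb e => by
        rw [e, hp2] at hb; exact absurd hb (by decide)
      have hk : cj hin (hP t) ∈ P.A s := hmemA _ hh (hne2 _ hho)
      have hko : orderOf (pr (uS (1 : F)) * hP t * (pr (uS 1))⁻¹) = orderOf (hP t) :=
        orderOf_injective (MulAut.conj (pr (uS (1 : F)))).toMonoidHom (MulAut.conj (pr (uS (1 : F)))).injective _
      have hk' : cj hin (pr (uS (1 : F)) * hP t * (pr (uS 1))⁻¹) ∈ P.A s :=
        hmemA _ (by rw [map_mul, map_mul, map_inv, hu, hh]) (hne2 _ (hko.symm ▸ hho))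
      have he : hP t * (pr (uS (1 : F)) * hP t * (pr (uS 1))⁻¹)⁻¹ = pr (uS (a * a + 1)) := by
        have hinv : (pr (uS (1 : F)))⁻¹ = pr (uS 1) := inv_eq_of_mul_eq_one_right (by
          rw [← map_mul, ← uS_add, show (1 : F) + 1 = 0 by linear_combination h20,
            show uS (0 : F) = 1 by apply Subtype.ext; simp [Matrix.one_fin_two], map_one])
        rw [mul_inv_rev, mul_inv_rev, inv_inv, hinv, ← mul_assoc, ← mul_assoc,
          show hP t * pr (uS (1 : F)) = pr (uS (a ^ 2 * 1)) * hP t by
            show pr (hS t) * _ = _ * pr (hS t)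
            rw [← map_mul, hS_uS, map_mul]; rfl,
          mul_inv_cancel_right, ← map_mul, ← uS_add]
        congr 2; ring
      have hne : a * a + 1 ≠ 0 := fun e => ha2 (by linear_combination e - h20)
      have hmem' : cj hin (pr (uS (a * a + 1))) ∈ P.A s := by
        rw [← he, map_mul, map_inv]
        exact mul_mem hk (inv_mem hk')
      have hee : pr (uS (a * a + 1)) * pr (uS (a * a + 1)) = 1 := by
        rw [← map_mul, ← uS_add, show a * a + 1 + (a * a + 1) = 0 by linear_combination (a * a + 1) * h20,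
          show uS (0 : F) = 1 by apply Subtype.ext; simp [Matrix.one_fin_two], map_one]
      have hc2 := hcomm _ _ hk hmem' (hho.coprime_two_right.coprime_dvd_right
        (orderOf_dvd_of_pow_eq_one (by rw [pow_two, hee])))
      have h1 : pr (uS (a ^ 2 * (a * a + 1))) * hP t = pr (uS (a * a + 1)) * hP t := by
        rw [← hc2.eq]
        show _ = pr (hS t) * _
        rw [← map_mul, hS_uS, map_mul]; rfl
      have h2 := pr_uS_inj (mul_right_cancel h1)
      exact ha2 (mul_right_cancel₀ hne (by linear_combination h2))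
    · have hA := hmemA _ hu (by rw [huo, hp2]; exact hl2)
      have hB := hmemA _ hv (by rw [hvo, hp2]; exact hl2)
      have hwA : cj hin (pr (wS : SL2)) ∈ P.A s := by
        rw [← uS_vS_uS, map_mul, map_mul, map_mul, map_mul]
        exact mul_mem (mul_mem hA hB) hA
      have hc2 := hcomm _ _ hA hwA (by
        rw [huo, hw2, Nat.coprime_two_right]
        exact hlp.odd_of_ne_two hl2)
      have h1 : pr (uS 1 * wS : SL2) = pr (wS * uS 1) := by rw [map_mul, map_mul]; exact hc2.eq
      obtain ⟨ε, -, h⟩ := (pr_eq_iff _ _).1 h1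
      have h00 := congrFun (congrFun h 0) 0
      simp [val_mul, Matrix.mul_apply, Fin.sum_univ_two] at h00
  · have hpodd : Odd p := hp.odd_of_ne_two hp2
    by_cases hl2 : l = 2
    · subst hl2
      have h20 : (2 : F) = 0 := by exact_mod_cast hl0
      have hA := hmemA _ hu (by rw [huo]; exact Ne.symm hp2)
      have hB := hmemA _ hv (by rw [hvo]; exact Ne.symm hp2)
      set c := pr (uS (1 : F)) * pr (vS (-1))
      have hcA : cj hin c ∈ P.A s := by rw [map_mul]; exact mul_mem hA hB
      have h3 : c ^ 3 = 1 := by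
        show (pr (uS (1 : F)) * pr (vS (-1))) ^ 3 = 1
        rw [← map_mul, ← map_pow, ← map_one pr, pr_eq_iff]
        refine ⟨-1, by ring, ?_⟩
        rw [pow_succ, pow_two, val_mul, val_mul, val_mul, uS_val, vS_val, Matrix.SpecialLinearGroup.coe_one]
        ext i j
        fin_cases i <;> fin_cases j <;> simp [Matrix.mul_apply, Fin.sum_univ_two]
      have hc2 := hcomm _ _ hA hcA (by
        rw [huo]
        exact Nat.Coprime.coprime_dvd_right (orderOf_dvd_of_pow_eq_one h3) (by norm_num))
      have h1 : pr (uS (1 : F) * vS (-1) : SL2) = pr (vS (-1) * uS 1) := by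
        have h := hc2.eq
        simp only [c] at h
        rw [mul_assoc] at h
        rw [map_mul, map_mul]
        exact mul_left_cancel h
      obtain ⟨ε, hε, h⟩ := (pr_eq_iff _ _).1 h1
      have h00 := congrFun (congrFun h 0) 0
      have h11 := congrFun (congrFun h 1) 1
      simp [val_mul, Matrix.mul_apply, Fin.sum_univ_two] at h00 h11
    · have h2 : (2 : F) ≠ 0 := fun e => by
        have h1 : ((2 : ℕ) : F) = 0 := by exact_mod_cast e
        rw [CharP.cast_eq_zero_iff F l] at h1
        exact hl2 ((Nat.prime_dvd_prime_iff_eq hlp Nat.prime_two).1 h1)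
      obtain ⟨a₀, b₀, hab⟩ := ZMod.sq_add_sq l (-1)
      set f := ZMod.castHom (dvd_refl l) F
      set a := f a₀
      set b := f b₀
      have hab' : a * a + b * b = -1 := by
        have h := congrArg f hab
        rw [map_add, map_pow, map_pow, map_neg, map_one] at h
        linear_combination h
      have hfix : ∀ z : ZMod l, σ (f z) = f z := fun z =>
        RingHom.congr_fun (RingHom.ext_zmod ((σ : F →+* F).comp f) f) z
      obtain ⟨M, hM⟩ : ∃ M : SL2, M.1 = !![a, b; b, -a] :=
        ⟨⟨!![a, b; b, -a], by simp [Matrix.det_fin_two]; linear_combination -hab'⟩, rfl⟩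
      have hMfix : fieldP σ (pr M) = pr M := fieldP_fix fun i j => by
        fin_cases i <;> fin_cases j <;> simp [hM, a, b, hfix]
      have hMM : pr M * pr M = 1 := by
        rw [← map_mul, ← map_one pr, pr_eq_iff]
        refine ⟨-1, by ring, ?_⟩
        rw [val_mul, Matrix.SpecialLinearGroup.coe_one]
        ext i j
        fin_cases i <;> fin_cases j <;> simp [hM, Matrix.mul_apply, Fin.sum_univ_two] <;>
          first
            | linear_combination hab'
            | ring
      have hMA : cj hin (pr M) ∈ P.A s := by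
        by_cases h1 : pr M = 1
        · rw [h1, map_one]; exact one_mem _
        · refine hmemA _ hMfix ?_
          rw [orderOf_eq_prime (by rw [pow_two, hMM]) h1]
          exact Ne.symm hp2
      obtain ⟨r, hr, hF⟩ := FieldFacts.exists_pow_eq_card σ hσ
      obtain ⟨q, hqp, hq2, hqd⟩ := FieldFacts.exists_circle_prime h2 hr hpodd hp.one_lt hF
      haveI := Fact.mk hqp
      let C : Subgroup SL2 := Subgroup.centralizer {wS}
      have hmemC : ∀ A : SL2, A ∈ C ↔ A.1 1 1 = A.1 0 0 ∧ A.1 1 0 = -A.1 0 1 := by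
        intro A
        rw [Subgroup.mem_centralizer_singleton_iff]
        constructor
        · intro h
          have h01 := congrFun (congrFun (congrArg Subtype.val h) 0) 1
          have h00 := congrFun (congrFun (congrArg Subtype.val h) 0) 0
          simp [val_mul, Matrix.mul_apply, Fin.sum_univ_two] at h01 h00
          exact ⟨h01.symm, by linear_combination -h00⟩
        · rintro ⟨h1, h2⟩
          refine Subtype.ext (Matrix.ext fun i j => ?_)
          fin_cases i <;> fin_cases j <;> simp [val_mul, Matrix.mul_apply, Fin.sum_univ_two, h1, h2]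
      have hcard : Nat.card C = Nat.card {v : F × F // v.1 * v.1 + v.2 * v.2 = 1} := by
        refine Nat.card_congr
          { toFun := fun A => ⟨(A.1.1 0 0, A.1.1 0 1), by
              obtain ⟨h1, h3⟩ := (hmemC A.1).1 A.2
              have hd := det_two A.1
              rw [h1, h3] at hd
              linear_combination hd⟩
            invFun := fun v => ⟨⟨!![v.1.1, v.1.2; -v.1.2, v.1.1], by
                simp [Matrix.det_fin_two]; exact v.2⟩, (hmemC _).2 ⟨by simp, by simp⟩⟩
            left_inv := fun A => by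
              obtain ⟨h1, h3⟩ := (hmemC A.1).1 A.2
              refine Subtype.ext (Subtype.ext (Matrix.ext fun i j => ?_))
              fin_cases i <;> fin_cases j <;> simp [h1, h3]
            right_inv := fun v => by simp }
      haveI : Finite SL2 := inferInstance
      obtain ⟨⟨y, hy⟩, hyo⟩ := exists_prime_orderOf_dvd_card' (G := C) q (hcard.symm ▸ hqd)
      rw [Subgroup.orderOf_mk] at hyo
      have hy1 : pr y ≠ 1 := by
        intro e
        rw [← map_one pr, pr_eq_iff] at e
        obtain ⟨ε, hε, h⟩ := e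
        have h2 : y ^ 2 = 1 := by
          apply Subtype.ext
          rw [pow_two, val_mul, h, Matrix.SpecialLinearGroup.coe_one, Matrix.smul_mul, Matrix.one_mul,
            smul_smul, hε, one_smul]
        rw [← hyo] at hqp hq2
        exact hq2 ((Nat.prime_dvd_prime_iff_eq hqp Nat.prime_two).1 (orderOf_dvd_of_pow_eq_one h2))
      have hypo : orderOf (pr y) = q := orderOf_pr hqp (hyo ▸ pow_orderOf_eq_one y) hy1
      have hwA : cj hin (pr (wS : SL2)) ∈ P.A s := hmemA _ hw (by rw [hw2]; exact Ne.symm hp2)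
      have hw1' : cj hin (pr (wS : SL2)) ≠ 1 := fun e => hw1 (hinj (e.trans (map_one _).symm))
      have hyA : cj hin (pr y) ∈ P.A s := by
        have h1 := P.mem_of_commute (a := cj hin (pr (wS : SL2))) (b := cj hin (pr y))
          ((show Commute (wS : SL2) y from (Subgroup.mem_centralizer_singleton_iff.1 hy).symm).map
            ((cj hin).comp pr)) hw1'
          (Or.inr (by rw [orderOf_injective _ hinj, orderOf_injective _ hinj, hypo, hw2]; exact hq2))
        rwa [P.eq hwA hw1'] at h1
      have hMo : (orderOf (pr y)).Coprime (orderOf (pr M)) := by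
        rw [hypo]
        exact ((Nat.coprime_primes hqp Nat.prime_two).2 hq2).coprime_dvd_right
          (orderOf_dvd_of_pow_eq_one (by rw [pow_two, hMM]))
      have hc2 := hcomm _ _ hyA hMA hMo
      have hflip : M * y = y⁻¹ * M := by
        obtain ⟨h1, h3⟩ := (hmemC y).1 hy
        refine eq_inv_mul_iff_mul_eq.2 ?_
        have hd := det_two y
        rw [h1, h3] at hd
        refine Subtype.ext (Matrix.ext fun i j => ?_)
        fin_cases i <;> fin_cases j <;> simp [val_mul, hM, Matrix.mul_apply, Fin.sum_univ_two, Matrix.vecMul, dotProduct, h1, h3]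
        · linear_combination a * hd
        · linear_combination b * hd
        · linear_combination b * hd
        · linear_combination -a * hd
      have h1 : pr y = (pr y)⁻¹ := by
        have e := congrArg pr hflip
        rw [map_mul, map_mul, map_inv, ← hc2.eq] at e
        exact mul_right_cancel e
      have h22 : (pr y) ^ 2 = 1 := by rw [pow_two]; nth_rw 2 [h1]; exact mul_inv_cancel _
      have := orderOf_dvd_of_pow_eq_one h22
      rw [hypo] at this
      exact hq2 ((Nat.prime_dvd_prime_iff_eq hqp Nat.prime_two).1 this)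

include hin in
/-- No semilinear involution with a nonsquare diagonal part. -/
theorem false_of_mixed [Finite Γ] (P : Part Γ) (hnil : ∀ x : Γ, x ≠ 1 → Group.IsNilpotent (P.A x))
    (hc : Subgroup.center P2 = ⊥) (h2 : (2 : F) ≠ 0) (hσ : orderOf σ = 2) {δ : Fˣ} (hδ : ¬ IsSquare (δ : F))
    (hmem : conjP (dGL δ) * fieldP σ ∈ Γ) : False := by
  classical
  have hσσ : ∀ z, σ (σ z) = z := fun z => by
    have h : σ ^ 2 = 1 := by rw [← hσ, pow_orderOf_eq_one]
    rw [pow_two] at h
    exact RingEquiv.congr_fun h z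
  obtain ⟨r, hr, hF⟩ := FieldFacts.exists_pow_eq_card σ hσ
  have hFodd : Fintype.card F % 2 = 1 := FiniteField.odd_card_of_char_ne_two fun e => h2 (by
    haveI : CharP F 2 := ringChar.of_eq e
    exact_mod_cast CharP.cast_eq_zero F 2)
  have hrodd : r % 2 = 1 := by
    rw [hF] at hFodd
    rcases Nat.mod_two_eq_zero_or_one r with h | h
    · rw [Nat.pow_mod, h] at hFodd; simp at hFodd
    · exact h
  have hq8 : 8 ∣ Fintype.card F - 1 := by
    obtain ⟨k, rfl⟩ := Nat.odd_iff.2 hrodd
    rw [hF, show (2 * k + 1) ^ 2 - 1 = 4 * (k * (k + 1)) by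
      have : (2 * k + 1) ^ 2 = 4 * (k * (k + 1)) + 1 := by ring
      omega]
    exact mul_dvd_mul_left 4 (Nat.even_mul_succ_self k).two_dvd
  have hinj := cj_injective hin hc
  -- the norm of `δ`
  have hσsq : ∀ c : F, IsSquare (σ c) → IsSquare c := fun c ⟨d, hd⟩ =>
    ⟨σ d, by rw [← map_mul, ← hd, hσσ]⟩
  have hsq_iff : ∀ a b : F, a ≠ 0 → b ≠ 0 → ¬ IsSquare a → ¬ IsSquare b → IsSquare (a * b) := by
    intro a b ha hb hna hnb
    rw [← quadraticChar_one_iff_isSquare (mul_ne_zero ha hb), map_mul,
      quadraticChar_neg_one_iff_not_isSquare.2 hna, quadraticChar_neg_one_iff_not_isSquare.2 hnb]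
    ring
  have hσδ0 : σ (δ : F) ≠ 0 := fun e => δ.ne_zero (σ.injective (e.trans (map_zero σ).symm))
  have hn1 : (δ : F) * σ δ ≠ 1 := by
    intro e
    by_cases hc0 : (1 : F) + δ = 0
    · refine hδ ?_
      rw [show (δ : F) = -1 by linear_combination hc0, FiniteField.isSquare_neg_one_iff]
      omega
    · have hc' : σ ((1 : F) + δ) ≠ 0 := fun h => hc0 (σ.injective (h.trans (map_zero σ).symm))
      have e1 : σ ((1 : F) + δ) * δ = 1 + δ := by rw [map_add, map_one]; linear_combination e
      by_cases hsc : IsSquare ((1 : F) + δ)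
      · refine hδ ?_
        have h3 : IsSquare (σ ((1 : F) + δ)) := hsc.map σ
        have h4 : (δ : F) = (1 + δ) * (σ ((1 : F) + δ))⁻¹ := by
          rw [eq_mul_inv_iff_mul_eq₀ hc']; linear_combination e1
        rw [h4]
        exact hsc.mul h3.inv
      · refine hδ ?_
        have h3 : ¬ IsSquare (σ ((1 : F) + δ)) := fun h => hsc (hσsq _ h)
        have h4 : (δ : F) = (1 + δ) * (σ ((1 : F) + δ))⁻¹ := by
          rw [eq_mul_inv_iff_mul_eq₀ hc']; linear_combination e1
        rw [h4]
        refine hsq_iff _ _ hc0 (inv_ne_zero hc') hsc fun h => h3 ?_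
        simpa using h.inv
  obtain ⟨n₀, hn₀⟩ : IsSquare ((δ : F) * σ δ) :=
    hsq_iff _ _ δ.ne_zero hσδ0 hδ fun h => hδ (hσsq _ h)
  have hn00 : n₀ ≠ 0 := fun e => mul_ne_zero δ.ne_zero hσδ0 (by rw [hn₀, e, mul_zero])
  set n := Units.mk0 n₀ hn00
  set x : Γ := ⟨_, hmem⟩
  have hfdf : fieldP σ * conjP (dGL δ) * fieldP σ = conjP (dGL (Units.map (σ : F →* F) δ)) := by
    have h : σ ^ 2 = 1 := by rw [← hσ, pow_orderOf_eq_one]
    rw [pow_two] at h
    rw [fieldP_conjP, glField_dGL, mul_assoc, ← map_mul fieldP, h, map_one, mul_one]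
  have hxx : x * x = cj hin (hP n) := by
    apply Subtype.ext
    show conjP (dGL δ) * fieldP σ * (conjP (dGL δ) * fieldP σ) = MulAut.conj (pr (hS n))
    rw [mul_assoc, ← mul_assoc (fieldP σ), hfdf, ← map_mul, ← map_mul, ← conjP_dGL_sq]
    congr 2
    exact Units.ext (by simpa [n] using hn₀)
  have hxx1 : x * x ≠ 1 := by
    intro e
    rw [hxx] at e
    have h1 : hP n = hP 1 := (hinj (e.trans (map_one _).symm)).trans (map_one hP).symm
    rcases (hP_eq_iff n 1).1 h1 with h | h <;> simp [n] at h <;> refine hn1 ?_ <;> rw [hn₀, h] <;> ring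
  have hx1 : x ≠ 1 := fun e => hxx1 (by rw [e, one_mul])
  have hxno : ¬ (orderOf x).Prime := by
    intro hpr
    have h1 : (x : MulAut P2) ^ orderOf x = 1 := by rw [← Subgroup.coe_pow, pow_orderOf_eq_one]; rfl
    have key : ∀ m : ℕ, ∃ g, (conjP (dGL δ) * fieldP σ : MulAut P2) ^ m = conjP g * fieldP (σ ^ m) := by
      intro m
      induction m with
      | zero => exact ⟨1, by simp⟩
      | succ m ih =>
        obtain ⟨g, hg⟩ := ih
        refine ⟨g * glField (σ ^ m) (dGL δ), ?_⟩
        rw [pow_succ, hg, mul_assoc, ← mul_assoc (fieldP (σ ^ m)), fieldP_conjP, pow_succ, map_mul, map_mul]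
        simp only [mul_assoc]
    obtain ⟨g, hg⟩ := key (orderOf x)
    have h3 : conjP (1 : GL (Fin 2) F) * fieldP (1 : F ≃+* F) = conjP g * fieldP (σ ^ orderOf x) := by
      rw [← hg, h1]; simp
    have h4 := orderOf_dvd_of_pow_eq_one (field_unique h3).symm
    rw [hσ] at h4
    have h5 := (Nat.prime_dvd_prime_iff_eq Nat.prime_two hpr).1 h4
    have h6 := pow_orderOf_eq_one x
    rw [← h5, pow_two] at h6
    exact hxx1 h6
  have hAxx : P.A (x * x) = P.A x := by rw [← pow_two]; exact P.A_pow (by rw [pow_two]; exact hxx1)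
  set H := P.A x
  -- the element of order four
  obtain ⟨g₀, hg₀⟩ := IsCyclic.exists_generator (α := Fˣ)
  have hg₀o : orderOf g₀ = Fintype.card F - 1 := by
    rw [orderOf_eq_card_of_forall_mem_zpowers hg₀, Nat.card_eq_fintype_card, Fintype.card_units]
  set ζ := g₀ ^ (orderOf g₀ / 8)
  have hζo : orderOf ζ = 8 := orderOf_pow_orderOf_div (orderOf_pos g₀).ne' (hg₀o ▸ hq8)
  have hζ4 : (ζ : F) ^ 4 = -1 := by
    have h8 : (ζ : F) ^ 8 = 1 := by rw [← Units.val_pow_eq_pow_val, ← hζo, pow_orderOf_eq_one]; rfl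
    have h4 : (ζ : F) ^ 4 ≠ 1 := fun e => by
      have := orderOf_dvd_of_pow_eq_one (Units.ext (by rw [Units.val_pow_eq_pow_val, e, Units.val_one]) : ζ ^ 4 = 1)
      rw [hζo] at this
      norm_num at this
    rcases mul_self_eq_one_iff.1 (show (ζ : F) ^ 4 * (ζ : F) ^ 4 = 1 by rw [← pow_add, h8]) with h | h
    · exact absurd h h4
    · exact h
  set y := hP ζ
  have hy4 : y ^ 4 = 1 := by
    rw [← map_pow, ← map_one hP, hP_eq_iff]
    exact Or.inr (by simpa using hζ4)
  have hy2 : y ^ 2 ≠ 1 := by
    rw [← map_pow, ← map_one hP, Ne, hP_eq_iff]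
    have hm : (-1 : F) ≠ 1 := fun e => h2 (by linear_combination -e)
    rintro (h | h) <;> rw [Units.val_pow_eq_pow_val, Units.val_one] at h <;> refine hm ?_
    · linear_combination -hζ4 + ((ζ : F) ^ 2 + 1) * h
    · linear_combination -hζ4 + ((ζ : F) ^ 2 - 1) * h
  have hyo : orderOf (cj hin y) = 4 := by
    rw [orderOf_injective _ hinj]
    exact orderOf_eq_prime_pow (p := 2) (n := 1) (by simpa using hy2) (by simpa using hy4)
  have hy1 : cj hin y ≠ 1 := fun e => by rw [e, orderOf_one] at hyo; omega
  have hynp : ¬ (orderOf (cj hin y)).Prime := by rw [hyo]; norm_num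
  have hyA : P.A (cj hin y) = H := by
    rw [← hAxx, hxx]
    exact P.A_eq_of_commute (((Commute.all ζ n).map hP).map (cj hin)) hy1
      (fun e => hxx1 (hxx.trans e)) (Or.inl hynp)
  have hyH : cj hin y ∈ H := hyA ▸ P.mem _
  have htorus : ∀ a : Fˣ, cj hin (hP a) ∈ H := fun a =>
    hyA ▸ P.mem_of_commute (((Commute.all ζ a).map hP).map (cj hin)) hy1 (Or.inl hynp)
  set w := pr (wS : SL2)
  have hwy : w * y * w⁻¹ = y⁻¹ := by
    rw [mul_inv_eq_iff_eq_mul, eq_inv_mul_iff_mul_eq]
    show pr (hS ζ) * (pr wS * pr (hS ζ)) = pr wS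
    rw [← map_mul, ← map_mul]
    congr 1
    apply Subtype.ext
    ext i j
    fin_cases i <;> fin_cases j <;> simp [val_mul, Matrix.mul_apply, Fin.sum_univ_two]
  have hwN : cj hin w ∈ Subgroup.normalizer (H : Set Γ) := by
    refine P.normalizes_of (x := x) hyH hy1 ?_
    rw [← map_inv, ← map_mul, ← map_mul, hwy, map_inv]
    exact inv_mem hyH
  have hw2 : w * w = 1 := by
    rw [← map_mul, ← map_one pr, pr_eq_iff]
    exact ⟨-1, by ring, by rw [val_mul, wS_val]; simp [Matrix.mul_fin_two, Matrix.one_fin_two]⟩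
  by_cases hwH : cj hin w ∈ H
  · -- an element of order three in a nilpotent component
    set s := (ζ : F) + (ζ : F)⁻¹
    have hζ0 := ζ.ne_zero
    have hs2 : s * s = 2 := by
      show ((ζ : F) + (ζ : F)⁻¹) * ((ζ : F) + (ζ : F)⁻¹) = 2
      field_simp
      linear_combination hζ4
    have hs0 : s ≠ 0 := fun e => h2 (by rw [← hs2, e, mul_zero])
    set c := s⁻¹
    have hc2 : c * c * 2 = 1 := by
      show s⁻¹ * s⁻¹ * 2 = 1
      rw [← hs2]; field_simp
    obtain ⟨Z, hZ⟩ : ∃ Z : SL2, Z.1 = !![c, c; -c, c] :=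
      ⟨⟨!![c, c; -c, c], by simp [Matrix.det_fin_two]; linear_combination hc2⟩, rfl⟩
    have hZZ : pr Z * pr Z = w := by
      show pr Z * pr Z = pr wS
      rw [← map_mul]
      congr 1
      apply Subtype.ext
      ext i j
      fin_cases i <;> fin_cases j <;> simp [val_mul, hZ, Matrix.mul_apply, Fin.sum_univ_two]
      · linear_combination hc2
      · linear_combination -hc2
    have hw1 : w ≠ 1 := fun e => by
      rw [← map_one pr, pr_eq_iff] at e
      obtain ⟨ε, -, h⟩ := e
      have h01 := congrFun (congrFun h 0) 1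
      simp at h01
    have hzH : cj hin (pr Z) ∈ H := P.mem_of_pow_mem (n := 2) (by rw [pow_two, ← map_mul, hZZ]; exact hwH)
      (by rw [pow_two, ← map_mul, hZZ]; exact fun e => hw1 (hinj (e.trans (map_one _).symm)))
    obtain ⟨E, hE⟩ : ∃ E : SL2, E = hS ζ * Z := ⟨_, rfl⟩
    have hEv : E.1 = !![(ζ : F) * c, (ζ : F) * c; -((ζ : F)⁻¹ * c), (ζ : F)⁻¹ * c] := by
      rw [hE, val_mul, hS_val, hZ]
      simp [Matrix.mul_fin_two]
    have hEc : c * ((ζ : F) + (ζ : F)⁻¹) = 1 := inv_mul_cancel₀ hs0
    have hzz' : (ζ : F) * (ζ : F)⁻¹ = 1 := mul_inv_cancel₀ hζ0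
    have hE2 : (E * E).1 = E.1 - 1 := by
      rw [val_mul, hEv]
      ext i j
      fin_cases i <;> fin_cases j <;> simp [Matrix.mul_apply, Fin.sum_univ_two]
      · linear_combination (c * (ζ : F)) * hEc - hc2 - (c * c * 2) * hzz'
      · linear_combination (c * (ζ : F)) * hEc
      · linear_combination (-(c * (ζ : F)⁻¹)) * hEc
      · linear_combination (c * (ζ : F)⁻¹) * hEc - hc2 - (c * c * 2) * hzz'
    have hE3 : pr E ^ 3 = 1 := by
      rw [← map_pow, ← map_one pr, pr_eq_iff]
      refine ⟨-1, by ring, ?_⟩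
      rw [pow_succ, pow_two, val_mul, hE2, sub_mul, ← val_mul, hE2, one_mul, Matrix.SpecialLinearGroup.coe_one,
        neg_smul, one_smul]
      abel
    have hE1 : pr E ≠ 1 := fun e => by
      rw [← map_one pr, pr_eq_iff] at e
      obtain ⟨ε, -, h⟩ := e
      have h01 := congrFun (congrFun h 0) 1
      simp [hEv] at h01
      exact inv_ne_zero hs0 h01
    have hEeq : pr E = y * pr Z := hE ▸ map_mul pr _ _
    have hEH : cj hin (pr E) ∈ H := by rw [hEeq, map_mul]; exact mul_mem hyH hzH
    have hcm := P.commute_of_mem_nilpotent (hnil x hx1) hyH hEH (by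
      rw [hyo, orderOf_injective _ hinj]
      exact Nat.Coprime.coprime_dvd_right (orderOf_dvd_of_pow_eq_one hE3) (by norm_num))
    have hyz : Commute y (pr Z) := by
      refine hinj ?_
      rw [map_mul, map_mul]
      have h := hcm.eq
      rw [hEeq, map_mul, mul_assoc] at h
      exact mul_left_cancel h
    have hw4 : pr Z ^ 4 = 1 := by
      rw [show pr Z ^ 4 = (pr Z * pr Z) * (pr Z * pr Z) by simp [pow_succ, mul_assoc], hZZ, hw2]
    have hE4 : pr E ^ 4 = 1 := by rw [hEeq, hyz.mul_pow, hy4, hw4, one_mul]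
    refine hE1 ?_
    calc pr E = pr E ^ 4 * (pr E ^ 3)⁻¹ := by rw [pow_succ' (pr E) 3]; group
      _ = 1 := by rw [hE4, hE3, inv_one, one_mul]
  · -- `w` inverts the component
    have hwsq : cj hin w * cj hin w = 1 := by rw [← map_mul, hw2, map_one]
    have hinvH : ∀ k ∈ H, cj hin w * k * (cj hin w)⁻¹ = k⁻¹ := by
      intro k hk
      have ho := P.coset_pow Nat.prime_two hwN hwH (by rw [pow_two, hwsq]; exact one_mem _) hk
      have h2 : (k * cj hin w) * (k * cj hin w) = 1 := by
        have h6 := pow_orderOf_eq_one (k * cj hin w)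
        rwa [ho, pow_two] at h6
      calc cj hin w * k * (cj hin w)⁻¹ = k⁻¹ * (k * cj hin w * (k * cj hin w)) * (cj hin w * cj hin w)⁻¹ := by group
        _ = k⁻¹ := by rw [h2, hwsq]; group
    have hab : ∀ k ∈ H, ∀ k' ∈ H, Commute k k' := by
      intro k hk k' hk'
      have h1 := hinvH (k * k') (mul_mem hk hk')
      rw [show cj hin w * (k * k') * (cj hin w)⁻¹ =
        (cj hin w * k * (cj hin w)⁻¹) * (cj hin w * k' * (cj hin w)⁻¹) by group, hinvH k hk, hinvH k' hk',
        ← mul_inv_rev, inv_inj] at h1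
      exact h1.symm
    have hpm : ∀ a : Fˣ, σ (a : F) = a ∨ σ (a : F) = -(a : F) := by
      intro a
      have h1 := conj_cj hin x (hP a)
      rw [(hab x (P.mem x) _ (htorus a)).eq, mul_inv_cancel_right] at h1
      have h2 : (x : MulAut P2) (hP a) = hP (Units.map (σ : F →* F) a) := by
        show conjP (dGL δ) (fieldP σ (pr (hS a))) = pr (hS (Units.map (σ : F →* F) a))
        have e1 : fieldSL σ (hS a) = hS (Units.map (σ : F →* F) a) := by
          refine Subtype.ext (Matrix.ext fun i j => ?_)
          rw [fieldSL_apply]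
          fin_cases i <;> fin_cases j <;> simp
        rw [fieldP_apply, e1, conjP_apply]
        congr 1
        apply Subtype.ext
        rw [conjSL_val, hS_val, ← map_inv]
        simp [dGL, Matrix.mul_fin_two]
        field_simp
      rw [h2] at h1
      rcases (hP_eq_iff _ _).1 (hinj h1) with h | h
      · exact Or.inl h.symm
      · refine Or.inr ?_
        simp at h
        linear_combination h
    have hid : σ = 1 := by
      ext b
      show σ b = b
      by_cases hb : b = 0
      · rw [hb, map_zero]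
      rcases hpm (Units.mk0 b hb) with h | h <;> simp at h
      · exact h
      by_cases hb1 : b + 1 = 0
      · rw [show b = -1 by linear_combination hb1, map_neg, map_one]
      rcases hpm (Units.mk0 _ hb1) with h' | h' <;> simp [map_add] at h'
      · exact h'
      · exfalso
        exact h2 (by linear_combination h' - h)
    rw [hid, orderOf_one] at hσ
    omega

/-- The main dichotomy. -/
theorem main {G : Type u} [Group G] [Finite G] (P : Part G)
    (hnil : ∀ x : G, x ≠ 1 → Group.IsNilpotent (P.A x)) (N : Subgroup G) [N.Normal]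
    (hC : Subgroup.centralizer (N : Set G) = ⊥) (h5 : 4 < Fintype.card F) (hc : Subgroup.center P2 = ⊥)
    (e : N ≃* P2) :
    Nonempty (G ≃* P2) ∨
      (Odd (Fintype.card F) ∧ Nonempty (G ≃* (GL (Fin 2) F ⧸ Subgroup.center (GL (Fin 2) F)))) := by
  classical
  obtain ⟨Γ, ⟨iso⟩, hin, htop⟩ := exists_aut_embedding N hC e
  haveI : Finite Γ := Finite.of_equiv G iso.toEquiv
  obtain ⟨Q, hQ⟩ := exists_part_congr iso P hnil
  obtain ⟨l, hl⟩ := CharP.exists F
  haveI := hl
  obtain ⟨nf, hlp, hcard⟩ := FiniteField.card F l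
  haveI := Fact.mk hlp
  have hdecomp : ∀ f : MulAut P2, ∃ (t : Fˣ) (a : P2) (τ : F ≃+* F),
      f = conjP (dGL t) * fieldP τ * MulAut.conj a := by
    intro f
    obtain ⟨g, τ, rfl⟩ := aut_eq hcard f
    obtain ⟨t, a, hg⟩ := exists_dGL g
    refine ⟨t, (fieldP τ)⁻¹ a, τ, ?_⟩
    rw [hg, ← mul_conj_mul_inv, inv_inv]
    group
  have hsqmem : ∀ t : Fˣ, IsSquare (t : F) → ∃ a, conjP (dGL t) = MulAut.conj (a : P2) := by
    rintro t ⟨s, hs⟩
    have hs0 : s ≠ 0 := fun e => t.ne_zero (by rw [hs, e, mul_zero])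
    refine ⟨pr (hS (Units.mk0 s hs0)), ?_⟩
    rw [← conjP_dGL_sq]
    congr 2
    exact Units.ext (by simpa using hs)
  have hnsq : ∀ a b : F, a ≠ 0 → b ≠ 0 → ¬ IsSquare a → ¬ IsSquare b → IsSquare (a * b) := by
    intro a b ha hb hna hnb
    rw [← quadraticChar_one_iff_isSquare (mul_ne_zero ha hb), map_mul,
      quadraticChar_neg_one_iff_not_isSquare.2 hna, quadraticChar_neg_one_iff_not_isSquare.2 hnb]
    ring
  -- one nonsquare gives every diagonal automorphism
  have hall : ∀ δ : Fˣ, ¬ IsSquare (δ : F) → conjP (dGL δ) ∈ Γ → ∀ t : Fˣ, conjP (dGL t) ∈ Γ := by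
    intro δ hδ hδm t
    by_cases ht : IsSquare (t : F)
    · obtain ⟨a, ha⟩ := hsqmem t ht
      rw [ha]; exact hin a
    · obtain ⟨a, ha⟩ := hsqmem (t * δ) (by rw [Units.val_mul]; exact hnsq _ _ t.ne_zero δ.ne_zero ht hδ)
      rw [map_mul, map_mul] at ha
      rw [eq_mul_inv_of_mul_eq ha]
      exact mul_mem (hin a) (inv_mem hδm)
  by_cases hfield : ∀ (t : Fˣ) (τ : F ≃+* F), conjP (dGL t) * fieldP τ ∈ Γ → τ = 1
  · by_cases hdiag : ∀ t : Fˣ, conjP (dGL t) ∈ Γ → IsSquare (t : F)
    · left
      have hN : N = ⊤ := htop.2 fun f hf => by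
        obtain ⟨t, a, τ, rfl⟩ := hdecomp f
        have h1 := mul_mem hf (inv_mem (hin a))
        rw [mul_inv_cancel_right] at h1
        have hτ := hfield t τ h1
        subst hτ
        rw [map_one, mul_one] at h1 ⊢
        obtain ⟨b, hb⟩ := hsqmem t (hdiag t h1)
        exact ⟨b * a, by rw [hb, map_mul]⟩
      exact ⟨((MulEquiv.subgroupCongr hN).trans Subgroup.topEquiv).symm.trans e⟩
    · push Not at hdiag
      obtain ⟨δ, hδm, hδ⟩ := hdiag
      refine Or.inr ⟨?_, ?_⟩
      · by_contra he
        refine hδ (FiniteField.isSquare_of_char_two ?_ _)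
        by_contra h
        exact he (Nat.odd_iff.2 (FiniteField.odd_card_of_char_ne_two h))
      · have hrange : Γ = (conjP (F := F)).range := by
          ext f
          constructor
          · intro hf
            obtain ⟨t, a, τ, rfl⟩ := hdecomp f
            have h1 := mul_mem hf (inv_mem (hin a))
            rw [mul_inv_cancel_right] at h1
            have hτ := hfield t τ h1
            subst hτ
            obtain ⟨A, rfl⟩ := pr_surjective a
            exact ⟨dGL t * Matrix.SpecialLinearGroup.toGL A, by rw [map_mul, conjP_toGL, map_one, mul_one]⟩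
          · rintro ⟨g, rfl⟩
            obtain ⟨t, a, hg⟩ := exists_dGL g
            rw [hg]
            exact mul_mem (hall δ hδ hδm t) (hin a)
        have hker : (conjP (F := F)).ker = Subgroup.center (GL (Fin 2) F) := by
          ext g
          rw [MonoidHom.mem_ker]
          constructor
          · intro hg
            have hs := scalar_of_conjP_eq_one hg
            rw [Subgroup.mem_center_iff]
            intro h
            refine Units.ext ?_
            rw [Units.val_mul, Units.val_mul, hs]
            simp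
          · intro hg
            have hcm : conjSL g = 1 := by
              refine MulEquiv.ext fun A => Subtype.ext ?_
              rw [conjSL_val, MulAut.one_apply]
              have h := congrArg Units.val (Subgroup.mem_center_iff.1 hg (Matrix.SpecialLinearGroup.toGL A))
              rw [Units.val_mul, Units.val_mul] at h
              rw [show g.val * A.1 = A.1 * g.val from h.symm, mul_assoc, Units.mul_inv, mul_one]
            show descend (conjSL g) = 1
            rw [hcm, map_one]
        exact ⟨(iso.trans (MulEquiv.subgroupCongr hrange)).trans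
          ((QuotientGroup.quotientMulEquivOfEq hker.symm).trans
            (QuotientGroup.quotientKerEquivRange (conjP (F := F)))).symm⟩
  · exfalso
    push Not at hfield
    obtain ⟨t₀, τ, hm₀, hτ⟩ := hfield
    haveI : Finite (F ≃+* F) := Finite.of_injective (fun f : F ≃+* F => (f : F → F)) DFunLike.coe_injective
    obtain ⟨p, hp, hpd⟩ := Nat.exists_prime_and_dvd (n := orderOf τ) fun e => hτ (orderOf_eq_one_iff.1 e)
    have key : ∀ (t : Fˣ) (τ : F ≃+* F) (m : ℕ), ∃ g, (conjP (dGL t) * fieldP τ : MulAut P2) ^ m =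
        conjP (dGL g) * fieldP (τ ^ m) ∧ ((¬ IsSquare (t : F)) → Odd m → ¬ IsSquare (g : F)) ∧
        quadraticChar F (g : F) = quadraticChar F (t : F) ^ m := by
      intro t τ m
      induction m with
      | zero => exact ⟨1, by simp, fun _ h => absurd h (by decide), by simp⟩
      | succ m ih =>
        obtain ⟨g, hg, -, hχ⟩ := ih
        have hχσ : quadraticChar F ((τ ^ m) (t : F)) = quadraticChar F (t : F) := by
          have hne : (τ ^ m) (t : F) ≠ 0 := fun e => t.ne_zero ((τ ^ m).injective (e.trans (map_zero _).symm))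
          by_cases hs : IsSquare (t : F)
          · rw [(quadraticChar_one_iff_isSquare t.ne_zero).2 hs,
              (quadraticChar_one_iff_isSquare hne).2 (hs.map (τ ^ m))]
          · rw [quadraticChar_neg_one_iff_not_isSquare.2 hs, quadraticChar_neg_one_iff_not_isSquare.2]
            intro h
            have h' := h.map (τ ^ m).symm
            rw [RingEquiv.symm_apply_apply] at h'
            exact hs h'
        have hχ' : quadraticChar F ((g * Units.map ((τ ^ m : F ≃+* F) : F →* F) t : Fˣ) : F) =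
            quadraticChar F (t : F) ^ (m + 1) := by
          rw [Units.val_mul, map_mul, hχ, pow_succ]
          congr 1
        refine ⟨g * Units.map ((τ ^ m : F ≃+* F) : F →* F) t, ?_, fun hts hodd => ?_, hχ'⟩
        · rw [pow_succ, hg, mul_assoc, ← mul_assoc (fieldP (τ ^ m)), fieldP_conjP, glField_dGL, pow_succ, map_mul,
            map_mul, map_mul]
          simp only [mul_assoc]
        · rw [quadraticChar_neg_one_iff_not_isSquare.2 hts, hodd.neg_one_pow] at hχ'
          exact quadraticChar_neg_one_iff_not_isSquare.1 hχ'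
    obtain ⟨t, hmt, -, -⟩ := key t₀ τ (orderOf τ / p)
    set σ := τ ^ (orderOf τ / p)
    have hσ : orderOf σ = p := orderOf_pow_orderOf_div (orderOf_pos τ).ne' hpd
    have hmem : conjP (dGL t) * fieldP σ ∈ Γ := hmt ▸ pow_mem hm₀ _
    by_cases hts : IsSquare (t : F)
    · obtain ⟨a, ha⟩ := hsqmem t hts
      rw [ha] at hmem
      refine false_of_field hin Q hQ hc h5 hp hσ ?_
      have h := mul_mem (inv_mem (hin a)) hmem
      rwa [inv_mul_cancel_left] at h
    · have h2 : (2 : F) ≠ 0 := fun e => by
        refine hts (FiniteField.isSquare_of_char_two ?_ _)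
        haveI : CharP F 2 := CharTwo.of_one_ne_zero_of_two_eq_zero one_ne_zero e
        exact ringChar.eq F 2
      by_cases hp2 : p = 2
      · exact false_of_mixed hin Q hQ hc h2 (hp2 ▸ hσ) hts hmem
      · obtain ⟨g, hg, hgs, -⟩ := key t σ p
        have hgm : conjP (dGL g) ∈ Γ := by
          have h := pow_mem hmem p
          rw [hg, ← hσ, pow_orderOf_eq_one, map_one, mul_one] at h
          exact h
        refine false_of_field hin Q hQ hc h5 hp hσ ?_
        have h := mul_mem (inv_mem (hall g (hgs hts (hp.odd_of_ne_two hp2)) hgm t)) hmem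
        rwa [inv_mul_cancel_left] at h

end Cfsg.Agent.Solv.Partition.AutPSL
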