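import Cfsg.Agent.Lib.Solv.Partition.AutBase
import Cfsg.Agent.Lib.Solv.Partition.FieldFacts
import Cfsg.Agent.Lib.Small.SuzukiAut

/-!
# Overgroups of a Suzuki group with a nilpotent partition
-/

set_option autoImplicit false
set_option linter.style.haveILetI false
set_option linter.unusedSectionVars false

namespace Cfsg.Agent.Solv.Partition.AutSuz

open Cfsg.Agent.Lie.Suzuki Cfsg.Agent.Small.SuzukiAut

universe u

variable {F : Type} [Field F] [Fintype F] {m : ℕ}

/-- The Suzuki groups have no proper overgroup with a nilpotent partition. -/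
theorem main {G : Type u} [Group G] [Finite G] (hF : Fintype.card F = 2 ^ (2 * m + 1)) (hm : 1 ≤ m) (P : Part G)
    (hnil : ∀ x : G, x ≠ 1 → Group.IsNilpotent (P.A x)) (N : Subgroup G) [N.Normal]
    (hC : Subgroup.centralizer (N : Set G) = ⊥) (hc : Subgroup.center (Cfsg.Sz F m) = ⊥)
    (e : N ≃* Cfsg.Sz F m) : Nonempty (G ≃* Cfsg.Sz F m) := by
  classical
  obtain ⟨Γ, ⟨iso⟩, hin, htop⟩ := exists_aut_embedding N hC e
  haveI : Finite Γ := Finite.of_equiv G iso.toEquiv
  by_cases hall : ∀ f ∈ Γ, ∃ a : Cfsg.Sz F m, f = MulAut.conj a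
  · exact ⟨((MulEquiv.subgroupCongr (htop.2 hall)).trans Subgroup.topEquiv).symm.trans e⟩
  exfalso
  push Not at hall
  obtain ⟨f, hf, hfne⟩ := hall
  obtain ⟨Q, hQ⟩ := exists_part_congr iso P hnil
  obtain ⟨g, τ, rfl⟩ := decomp_aut hF hm f
  have hτm : fieldAut hF hm τ ∈ Γ := by
    have h := mul_mem (inv_mem (hin g)) hf
    rwa [inv_mul_cancel_left] at h
  have hτ1 : τ ≠ 1 := fun e1 => hfne g (by rw [e1, map_one, mul_one])
  haveI : Finite (F ≃+* F) := Finite.of_injective (fun f : F ≃+* F => (f : F → F)) DFunLike.coe_injective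
  obtain ⟨p, hp, hpd⟩ := Nat.exists_prime_and_dvd (n := orderOf τ) fun e1 => hτ1 (orderOf_eq_one_iff.1 e1)
  have hp2 : p ≠ 2 := by
    rintro rfl
    have h1 := hpd.trans (orderOf_dvd_natCard τ)
    rw [card_ringAut hF] at h1
    omega
  set σ := τ ^ (orderOf τ / p)
  have hσ : orderOf σ = p := orderOf_pow_orderOf_div (orderOf_pos τ).ne' hpd
  have hσm : fieldAut hF hm σ ∈ Γ := by
    show fieldAut hF hm (τ ^ (orderOf τ / p)) ∈ Γ
    rw [map_pow]
    exact pow_mem hτm _
  set s : Γ := ⟨fieldAut hF hm σ, hσm⟩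
  haveI := Fact.mk hp
  have hs1 : s ≠ 1 := by
    intro e1
    have h : fieldAut hF hm σ = MulAut.conj 1 := by rw [map_one]; exact congrArg Subtype.val e1
    have h1 := inner_trivial hF hm σ 1 h
    rw [h1, orderOf_one] at hσ
    exact hp.ne_one hσ.symm
  have hso : orderOf s = p := orderOf_eq_prime (Subtype.ext (by
    rw [Subgroup.coe_pow]
    show fieldAut hF hm σ ^ p = 1
    rw [← map_pow, ← hσ, pow_orderOf_eq_one, map_one])) hs1
  let c : Cfsg.Sz F m →* Γ :=
    { toFun := fun a => ⟨MulAut.conj a, hin a⟩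
      map_one' := Subtype.ext (map_one MulAut.conj)
      map_mul' := fun a b => Subtype.ext (map_mul MulAut.conj a b) }
  have hinj : Function.Injective c := fun _ _ h => conj_injective hc (congrArg Subtype.val h)
  have hn := hQ s hs1
  have hfixmem : ∀ (a : Cfsg.Sz F m) (k : ℕ), fieldAut hF hm σ a = a → a ^ 2 ^ k = 1 → c a ∈ Q.A s := by
    intro a k ha hk
    refine Q.mem_of_commute ?_ hs1 (Or.inr ?_)
    · refine Subtype.ext (MulEquiv.ext fun b => ?_)
      show fieldAut hF hm σ (MulAut.conj a b) = MulAut.conj a (fieldAut hF hm σ b)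
      simp only [MulAut.conj_apply, map_mul, map_inv, ha]
    · rw [orderOf_injective _ hinj, hso]
      intro e1
      have h1 := orderOf_dvd_of_pow_eq_one hk
      rw [e1] at h1
      exact hp2 ((Nat.prime_dvd_prime_iff_eq hp Nat.prime_two).1 (hp.dvd_of_dvd_pow h1))
  set t := tS (m := m) hF (1 : F) 0
  set w := wS (m := m) hF
  have htfix : fieldAut hF hm σ t = t := by
    show fieldAut hF hm σ (tS hF 1 0) = tS hF 1 0
    rw [fieldAut_tS, map_one, map_zero]
  have h20 : (2 : F) = 0 := two_eq_zero hF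
  have ht4 : t ^ 2 ^ 2 = 1 := by
    show tS (m := m) hF (1 : F) 0 ^ 2 ^ 2 = 1
    rw [show tS (m := m) hF (1 : F) 0 ^ 2 ^ 2 =
      (tS hF (1 : F) 0 * tS hF (1 : F) 0) * (tS hF (1 : F) 0 * tS hF (1 : F) 0) by simp [pow_succ, mul_assoc],
      tS_mul hF, tS_mul hF, ← tS_zero (m := m) hF]
    congr 1
    · linear_combination (2 : F) * h20
    · simp [one_add_one_eq_two, h20]
  have hw2 : w ^ 2 ^ 1 = 1 := by
    rw [pow_one, pow_two]
    apply Subtype.ext
    show wM F * wM F = 1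
    apply Subtype.ext
    rw [Matrix.SpecialLinearGroup.coe_mul, Matrix.SpecialLinearGroup.coe_one]
    ext i j
    fin_cases i <;> fin_cases j <;> simp [wM, Matrix.mul_apply, Fin.sum_univ_four]
  have htA := hfixmem t 2 htfix ht4
  have hwA := hfixmem w 1 (fieldAut_wS hF hm σ) hw2
  -- the 2-part of the component
  haveI := hn
  haveI : Fact (Nat.Prime 2) := ⟨Nat.prime_two⟩
  obtain ⟨S⟩ : Nonempty (Sylow 2 (Q.A s)) := inferInstance
  have hall' : ∀ (q : ℕ) (_ : Fact q.Prime) (R : Sylow q (Q.A s)), (R : Subgroup (Q.A s)).Normal :=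
    ((Group.isNilpotent_of_finite_tfae (G := Q.A s)).out 0 3).1 hn
  haveI := Sylow.unique_of_normal S (hall' 2 inferInstance S)
  have hSmem : ∀ (a : Cfsg.Sz F m) (k : ℕ) (ha : c a ∈ Q.A s), a ^ 2 ^ k = 1 →
      (⟨c a, ha⟩ : Q.A s) ∈ (S : Subgroup (Q.A s)) := by
    intro a k ha hk
    obtain ⟨j, -, hj⟩ := (Nat.dvd_prime_pow Nat.prime_two).1 (orderOf_dvd_of_pow_eq_one hk)
    obtain ⟨R, hR⟩ := (IsPGroup.of_card (G := Subgroup.zpowers (⟨c a, ha⟩ : Q.A s)) (p := 2) (n := j)
      (by rw [Nat.card_zpowers, Subgroup.orderOf_mk, orderOf_injective _ hinj, hj])).exists_le_sylow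
    have h := hR (Subgroup.mem_zpowers _)
    rwa [Subsingleton.elim R S] at h
  set K := Subgroup.closure ({t, w} : Set (Cfsg.Sz F m))
  have hKle : K.map c ≤ (S : Subgroup (Q.A s)).map (Q.A s).subtype := by
    rw [Subgroup.map_le_iff_le_comap, Subgroup.closure_le]
    rintro a (rfl | rfl)
    · exact ⟨⟨c _, htA⟩, hSmem _ 2 htA ht4, rfl⟩
    · exact ⟨⟨c _, hwA⟩, hSmem _ 1 hwA hw2, rfl⟩
  have hKp : IsPGroup 2 K :=
    ((S.isPGroup'.map (Q.A s).subtype).to_le hKle).of_equiv (K.equivMapOfInjective c hinj).symm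
  have ht1 : t ≠ 1 := fun e1 => one_ne_zero (tS_injective hF (e1.trans (tS_zero (m := m) hF).symm)).1
  have htK : t ∈ K := Subgroup.subset_closure (Set.mem_insert _ _)
  have hwK : w ∈ K := Subgroup.subset_closure (Set.mem_insert_of_mem _ rfl)
  haveI : Nontrivial K := ⟨⟨⟨t, htK⟩, 1, fun e1 => ht1 (congrArg Subtype.val e1)⟩⟩
  haveI := hKp.center_nontrivial
  obtain ⟨⟨⟨z, hzK⟩, hz⟩, hz1⟩ := exists_ne (1 : Subgroup.center K)
  have hzc : ∀ b ∈ K, b * z = z * b := fun b hb =>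
    congrArg Subtype.val (Subgroup.mem_center_iff.1 hz ⟨b, hb⟩)
  have hzinf : z • Cfsg.suzukiPointInfinity F = Cfsg.suzukiPointInfinity F := by
    rcases mem_ovoid.1 (smul_mem hF z.2 (inf_mem (F := F) (m := m))) with h | ⟨x, y, h⟩
    · exact h
    · exfalso
      have h' : z • Cfsg.suzukiPointInfinity F = pt m x y := h
      have h2 : t • (z • Cfsg.suzukiPointInfinity F) = z • Cfsg.suzukiPointInfinity F := by
        rw [smul_smul, hzc t htK, ← smul_smul]
        congr 1
        exact tS_inf hF _ _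
      rw [h'] at h2
      have h3 : tM m (1 : F) 0 • pt m x y = pt m x y := h2
      rw [tM_pt hF] at h3
      have h4 := (pt_inj h3).1
      simp at h4
  have hw0 : w • Cfsg.suzukiPointInfinity F = pt m (0 : F) 0 := wM_inf
  have hz0 : z • pt m (0 : F) 0 = pt m 0 0 := by
    rw [← hw0, smul_smul, ← hzc w hwK, ← smul_smul, hzinf]
  obtain ⟨k, rfl⟩ := eq_dS hF hm hzinf hz0
  obtain ⟨j, hj⟩ := hKp ⟨_, hzK⟩
  refine hz1 (Subtype.ext (Subtype.ext ?_))
  show dS hF k = 1
  have h1 : dS (m := m) hF k ^ 2 ^ j = 1 := congrArg Subtype.val hj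
  have h2 : dS (m := m) hF k ^ (Fintype.card F - 1) = 1 := by
    rw [← map_pow, ← Fintype.card_units, pow_card_eq_one, map_one]
  have hodd : (Fintype.card F - 1).Coprime (2 ^ j) := by
    refine Nat.Coprime.pow_right j (Nat.coprime_two_right.2 ?_)
    rw [hF, Nat.odd_iff]
    have : 2 ^ (2 * m + 1) = 2 * 2 ^ (2 * m) := by rw [pow_succ]; ring
    have h3 := Nat.one_le_two_pow (n := 2 * m)
    omega
  exact orderOf_eq_one_iff.1
    (Nat.eq_one_of_dvd_coprimes hodd (orderOf_dvd_of_pow_eq_one h2) (orderOf_dvd_of_pow_eq_one h1))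

end Cfsg.Agent.Solv.Partition.AutSuz
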