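import Cfsg.Agent.Lib.Solv.Partition.Normal

/-!
# A normal abelian subgroup and no normal component
-/

set_option autoImplicit false
set_option linter.style.haveILetI false
set_option linter.unusedSectionVars false

namespace Cfsg.Agent.Solv.Partition

open Finset

universe u

variable {G : Type u} [Group G] [Finite G]

/-- A group of order 24 with a self-centralising four group normal. -/
theorem iso_perm_four (V : Subgroup G) [hVn : V.Normal] (hV : Nat.card V = 4) (hG : Nat.card G = 24)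
    (hC : Subgroup.centralizer (V : Set G) = V)
    (hmin : ∀ K : Subgroup G, K.Normal → K ≤ V → K = ⊥ ∨ K = V) :
    Nonempty (G ≃* Equiv.Perm (Fin 4)) := by
  haveI : Fact (Nat.Prime 3) := ⟨Nat.prime_three⟩
  let R : Sylow 3 G := Classical.arbitrary _
  have hR : Nat.card R = 3 := by
    rw [R.card_eq_multiplicity, hG]
    have : (24 : ℕ).factorization 3 = 1 := by
      rw [← Nat.multiplicity_eq_factorization Nat.prime_three (by norm_num)]
      exact multiplicity_eq_of_dvd_of_not_dvd (by norm_num) (by norm_num)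
    rw [this, pow_one]
  have hdis : ∀ S : Sylow 3 G, Disjoint (S : Subgroup G) V := fun S => by
    rw [disjoint_iff, eq_bot_iff]
    intro a ha
    have h1 := Subgroup.orderOf_dvd_natCard _ ha.1
    have h2 := Subgroup.orderOf_dvd_natCard _ ha.2
    rw [show Nat.card (S : Subgroup G) = 3 from S.card_eq_multiplicity.trans (R.card_eq_multiplicity.symm.trans hR)] at h1
    rw [hV] at h2
    exact Subgroup.mem_bot.2 (orderOf_eq_one_iff.1 (Nat.eq_one_of_dvd_coprimes (by norm_num) h1 h2))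
  have hnot : ¬ V ≤ Subgroup.normalizer ((R : Subgroup G) : Set G) := by
    intro hle
    have hcomm : (R : Subgroup G) ≤ Subgroup.centralizer (V : Set G) := by
      intro a ha
      rw [Subgroup.mem_centralizer_iff]
      intro v hv
      have h1 : v * a * v⁻¹ * a⁻¹ ∈ (R : Subgroup G) :=
        mul_mem ((Subgroup.mem_normalizer_iff.1 (hle hv) a).1 ha) (inv_mem ha)
      have h2 : v * a * v⁻¹ * a⁻¹ ∈ V := by
        rw [show v * a * v⁻¹ * a⁻¹ = v * (a * v⁻¹ * a⁻¹) by group]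
        exact mul_mem hv (hVn.conj_mem _ (inv_mem hv) a)
      have h3 : v * a * v⁻¹ * a⁻¹ = 1 :=
        Subgroup.mem_bot.1 ((hdis R).eq_bot ▸ (⟨h1, h2⟩ : _ ∈ (R : Subgroup G) ⊓ V))
      exact mul_inv_eq_iff_eq_mul.1 (mul_inv_eq_one.1 h3)
    rw [hC] at hcomm
    have h4 := Subgroup.card_dvd_of_le hcomm
    rw [hV, show Nat.card (R : Subgroup G) = 3 from hR] at h4
    norm_num at h4
  have hn : Nat.card (Sylow 3 G) = 4 := by
    have h1 := card_sylow_modEq_one 3 G
    have h2 : Nat.card (Sylow 3 G) ∣ 8 := by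
      have h3 : Nat.card (R : Subgroup G) * (R : Subgroup G).index = 24 := by
        rw [Subgroup.card_mul_index, hG]
      rw [show Nat.card (R : Subgroup G) = 3 from hR] at h3
      have h4 := R.card_dvd_index
      rwa [show (R : Subgroup G).index = 8 by omega] at h4
    have h5 : Nat.card (Sylow 3 G) ≠ 1 := fun e => hnot (by
      rw [R.card_eq_index_normalizer, Subgroup.index_eq_one] at e
      exact le_top.trans e.ge)
    unfold Nat.ModEq at h1
    have h6 := Nat.le_of_dvd (by norm_num) h2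
    interval_cases h : Nat.card (Sylow 3 G) <;> simp_all
  have hinj : Function.Injective (MulAction.toPermHom G (Sylow 3 G)) := by
    rw [← MonoidHom.ker_eq_bot_iff]
    set K := (MulAction.toPermHom G (Sylow 3 G)).ker
    have hKR : K ≤ Subgroup.normalizer ((R : Subgroup G) : Set G) := fun k hk =>
      Sylow.smul_eq_iff_mem_normalizer.1 (Equiv.Perm.ext_iff.1 (MonoidHom.mem_ker.1 hk) R)
    rcases hmin (K ⊓ V) inferInstance inf_le_right with h | h
    · have hKC : K ≤ Subgroup.centralizer (V : Set G) := fun k hk => by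
        rw [Subgroup.mem_centralizer_iff]
        intro v hv
        have h1 : v * k * v⁻¹ * k⁻¹ ∈ K ⊓ V := ⟨show _ ∈ K from mul_mem ((inferInstance : K.Normal).conj_mem k hk v) (inv_mem hk), by
          rw [show v * k * v⁻¹ * k⁻¹ = v * (k * v⁻¹ * k⁻¹) by group]
          exact mul_mem hv (hVn.conj_mem _ (inv_mem hv) k)⟩
        rw [h, Subgroup.mem_bot] at h1
        exact mul_inv_eq_iff_eq_mul.1 (mul_inv_eq_one.1 h1)
      rw [hC] at hKC
      rwa [inf_eq_left.2 hKC] at h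
    · exact absurd (fun v hv => hKR ((h.symm ▸ hv : v ∈ K ⊓ V)).1) hnot
  haveI := Fintype.ofFinite (Sylow 3 G)
  classical
  haveI := Fintype.ofFinite G
  have hbij : Function.Bijective (MulAction.toPermHom G (Sylow 3 G)) := by
    rw [Fintype.bijective_iff_injective_and_card]
    refine ⟨hinj, ?_⟩
    rw [Fintype.card_perm, ← Nat.card_eq_fintype_card, ← Nat.card_eq_fintype_card, hn, hG]
    rfl
  exact ⟨(MulEquiv.ofBijective _ hbij).trans (Equiv.permCongrHom
    ((Fintype.equivFin _).trans (finCongr (by rw [← Nat.card_eq_fintype_card, hn]))))⟩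

namespace Part

variable (P : Part G)

/-- An element with a fixed point in a normal elementary abelian subgroup. -/
theorem radical_fixed (hNN : ∀ x : G, x ≠ 1 → ¬ (P.A x).Normal) (V : Subgroup G) [hVn : V.Normal]
    {q : ℕ} [hq : Fact q.Prime] (hVc : ∀ v ∈ V, ∀ w ∈ V, Commute v w) (hVexp : ∀ v ∈ V, v ^ q = 1)
    {l w : G} (hl : l ≠ 1) (hlq : orderOf l ≠ q) (hw : w ∈ V) (hw1 : w ≠ 1) (hc : Commute l w) :
    l ^ q ∈ V ∧ l ^ q ≠ 1 ∧ l ∈ P.A w ∧ (∃ v ∈ V, v ∉ P.A w) ∧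
      ∀ v ∈ V, v ∉ P.A w → (l * v) ^ q = 1 := by
  classical
  have hwo : orderOf w = q := orderOf_eq_prime (hVexp w hw) hw1
  have hlH : l ∈ P.A w := P.A_eq_of_commute hc.symm hw1 hl (Or.inr (by rw [hwo]; exact hlq)) ▸ P.mem l
  have hex : ∃ v ∈ V, v ∉ P.A w := by
    by_contra hno
    push Not at hno
    refine hNN w hw1 ⟨fun a ha g => ?_⟩
    have := P.normalizes_of (g := g) (P.mem w) hw1 (hno _ (hVn.conj_mem w hw g))
    exact (Subgroup.mem_normalizer_iff.1 this a).1 ha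
  have hall : ∀ v ∈ V, v ∉ P.A w → (l * v) ^ q = 1 := fun v hv hvH => by
    have hvN := P.normalizes_of_commute (g := v) (P.mem w) hw1 (hVc v hv w hw)
    rw [← P.coset_pow hq.out hvN hvH (by rw [hVexp v hv]; exact one_mem _) hlH, pow_orderOf_eq_one]
  obtain ⟨v, hv, hvH⟩ := hex
  have hne : l ^ q ≠ 1 := fun e => hlq (orderOf_eq_prime e hl)
  refine ⟨?_, hne, hlH, ⟨v, hv, hvH⟩, hall⟩
  have h1 := hall v hv hvH
  rw [show l * v = l * v * l⁻¹ * l by group, mul_pow_conj] at h1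
  rw [eq_inv_of_mul_eq_one_right h1]
  refine inv_mem (Subgroup.list_prod_mem V fun a ha => ?_)
  obtain ⟨i, -, rfl⟩ := List.mem_map.1 ha
  exact hVn.conj_mem _ (hVn.conj_mem v hv l) _

/-- A normal abelian subgroup and no normal component. -/
theorem of_radical (hnil : ∀ x : G, x ≠ 1 → Group.IsNilpotent (P.A x))
    (hNN : ∀ x : G, x ≠ 1 → ¬ (P.A x).Normal) (V : Subgroup G) [hVn : V.Normal] (hV1 : V ≠ ⊥)
    (hmin : ∀ K : Subgroup G, K.Normal → K ≤ V → K = ⊥ ∨ K = V) {q : ℕ} [hqf : Fact q.Prime]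
    (hab : IsMulCommutative V) (hVexp : ∀ v ∈ V, v ^ q = 1) :
    Nonempty (G ≃* Equiv.Perm (Fin 4)) ∨ Hughes G ∨ Frob G := by
  classical
  have hq := hqf.out
  have hVc : ∀ v ∈ V, ∀ w ∈ V, Commute v w := fun v hv w hw =>
    congrArg Subtype.val (hab.is_comm.comm ⟨v, hv⟩ ⟨w, hw⟩)
  have hVp : IsPGroup q V := fun w => ⟨1, Subtype.ext (by simpa using hVexp w.1 w.2)⟩
  have hfpf : ∀ g : G, ¬ q ∣ orderOf g → ∀ v ∈ V, Commute g v → g = 1 ∨ v = 1 := by
    intro g hg v hv hc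
    by_contra hcon
    push Not at hcon
    obtain ⟨h1, -, -, -, -⟩ := P.radical_fixed hNN V hVc hVexp hcon.1 (fun e => hg (by rw [e])) hv hcon.2 hc
    have h2 : g ^ (q * q) = 1 := by rw [pow_mul]; exact hVexp _ h1
    exact hcon.1 (orderOf_eq_one_iff.1 (Nat.eq_one_of_dvd_coprimes
      (Nat.Coprime.mul_right ((hq.coprime_iff_not_dvd).2 hg).symm ((hq.coprime_iff_not_dvd).2 hg).symm)
      dvd_rfl (orderOf_dvd_of_pow_eq_one h2)))
  have hmix : ∀ g : G, q ∣ orderOf g → ∀ r : ℕ, r.Prime → r ∣ orderOf g → r = q := by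
    intro g hg r hr hrg
    by_contra hrq
    obtain ⟨y, v, hyo, -, hv, hv1, hc⟩ := P.exists_fixed_of_mixed hnil V hVp hV1 hr hrq hg hrg
    rcases hfpf y (by rw [hyo]; exact fun h => hrq ((Nat.prime_dvd_prime_iff_eq hq hr).1 h).symm) v hv hc with h | h
    · exact hr.ne_one (by rw [← hyo, h, orderOf_one])
    · exact hv1 h
  set M := Subgroup.centralizer (V : Set G)
  haveI : M.Normal := inferInstance
  have hVM : V ≤ M := fun v hv => Subgroup.mem_centralizer_iff.2 fun w hw => (hVc w hw v hv).eq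
  obtain ⟨w₀, hw₀, hw₀1⟩ :=
    (Subgroup.nontrivial_iff_exists_ne_one V).1 ((Subgroup.nontrivial_iff_ne_bot V).2 hV1)
  have hMexp : ∀ m ∈ M, m ^ q = 1 := by
    intro m hm
    by_contra hm1
    have hc : ∀ v ∈ V, Commute m v := fun v hv => (Subgroup.mem_centralizer_iff.1 hm v hv).symm
    obtain ⟨-, -, -, ⟨v, hv, hvH⟩, hall⟩ := P.radical_fixed hNN V hVc hVexp (fun e => hm1 (by rw [e, one_pow]))
      (fun e => hm1 (by rw [← e, pow_orderOf_eq_one])) hw₀ hw₀1 (hc w₀ hw₀)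
    have := hall v hv hvH
    rw [(hc v hv).mul_pow, hVexp v hv, mul_one] at this
    exact hm1 this
  rcases linear_data V hV1 hab hVexp hmin
      (fun g hgM hg v hv hc => (hfpf g hg v hv hc).resolve_left (fun e => hgM (e ▸ one_mem M)))
      (fun g _ => hmix g) with hidx | ⟨g, v₁, hgM, hgq, hv₁, hne, -, hh⟩
  · by_cases hM : M = ⊤
    · refine Or.inr (Or.inl (hughes_of (K := ⊥) (fun e => hw₀1 ?_) hq fun g _ => hMexp g (hM ▸ Subgroup.mem_top g)))
      exact Subgroup.mem_bot.1 (e ▸ Subgroup.mem_top w₀)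
    have hMp : IsPGroup q M := fun w => ⟨1, Subtype.ext (by simpa using hMexp w.1 w.2)⟩
    obtain ⟨k, hk⟩ := IsPGroup.iff_card.1 hMp
    refine Or.inr (Or.inr (frob_of_fpf M (fun e => hw₀1 (Subgroup.mem_bot.1 (e ▸ hVM hw₀))) hM
      (by rw [hk]; exact ((hq.coprime_iff_not_dvd).2 hidx).pow_left k) fun a ha hco m hm hc => ?_))
    by_contra hm1
    have hmo : orderOf m = q := orderOf_eq_prime (hMexp m hm) hm1
    have hco' : (orderOf a).Coprime q := hco.coprime_dvd_right (hmo ▸ Subgroup.orderOf_dvd_natCard M hm)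
    have h1 := hc.orderOf_mul_eq_mul_orderOf_of_coprime (by rwa [hmo])
    obtain ⟨r, hr, hrd⟩ := Nat.exists_prime_and_dvd (n := orderOf a) fun e =>
      ha (orderOf_eq_one_iff.1 e ▸ one_mem M)
    have h2 := hmix (a * m) (by rw [h1, hmo]; exact dvd_mul_left _ _) r hr
      (by rw [h1]; exact hrd.trans (dvd_mul_right _ _))
    exact hq.ne_one (Nat.eq_one_of_dvd_coprimes hco' (h2 ▸ hrd) dvd_rfl)
  have hπ : QuotientGroup.mk' M (v₁ * g) = QuotientGroup.mk' M g := by
    rw [map_mul, show QuotientGroup.mk' M v₁ = 1 from (QuotientGroup.eq_one_iff v₁).2 (hVM hv₁), one_mul]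
  obtain ⟨l, hlM, hlq, hlne, hlh⟩ : ∃ l : G, l ∉ M ∧ l ^ q ∈ M ∧ l ^ q ≠ 1 ∧
      (q = 2 → ∃ h : G, h ∉ M ∧ Odd (orderOf h) ∧ l * h * l⁻¹ * h ∈ M) := by
    by_cases hg1 : g ^ q = 1
    · refine ⟨v₁ * g, fun h => hgM (((M).mul_mem_cancel_left (hVM hv₁)).1 h), ?_, hg1 ▸ hne, fun e => ?_⟩
      · rw [← QuotientGroup.eq_one_iff, ← QuotientGroup.mk'_apply, map_pow, hπ, ← map_pow, hg1, map_one]
      · obtain ⟨h, h1, h2, h3⟩ := hh e
        refine ⟨h, h1, h2, (QuotientGroup.eq_one_iff _).1 ?_⟩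
        rw [← QuotientGroup.mk'_apply, map_mul, map_mul, map_mul, map_inv, hπ, ← map_inv, ← map_mul, ← map_mul,
          ← map_mul]
        exact (QuotientGroup.eq_one_iff _).2 h3
    · exact ⟨g, hgM, hgq, hg1, hh⟩
  have hl2 : l ^ (q * q) = 1 := by rw [pow_mul]; exact hMexp _ hlq
  have hl1 : l ≠ 1 := fun e => hlne (by rw [e, one_pow])
  have hlo : orderOf l ≠ q := fun e => hlne (by rw [← e, pow_orderOf_eq_one])
  obtain ⟨w, hw, hw1, hc⟩ := exists_commute_of_pgroup V hVp hV1 l (by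
    obtain ⟨m, -, hm⟩ := (Nat.dvd_prime_pow hq).1
      ((pow_two q).symm ▸ orderOf_dvd_of_pow_eq_one hl2 : orderOf l ∣ q ^ 2)
    exact ⟨m, hm⟩)
  obtain ⟨hlV, -, hlH, ⟨v, hv, hvH⟩, hall⟩ := P.radical_fixed hNN V hVc hVexp hl1 hlo hw hw1 hc
  have hall' : ∀ u ∈ V, u ∉ P.A w → (u * l) ^ q = 1 := fun u hu huH => by
    have hu' : l⁻¹ * u * l ∈ V := by simpa using hVn.conj_mem u hu l⁻¹
    have := hall _ hu' (fun h => huH (by
      rw [show u = l * (l⁻¹ * u * l) * l⁻¹ by group]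
      exact mul_mem (mul_mem hlH h) (inv_mem hlH)))
    rwa [show l * (l⁻¹ * u * l) = u * l by group] at this
  by_cases hq2 : q = 2
  swap
  · exfalso
    letI : CommGroup V :=
      { (inferInstance : Group V) with mul_comm := fun a b => hab.is_comm.comm a b }
    let N : V →* V :=
      { toFun := fun u => ((List.range q).map fun i => MulAut.conjNormal (l ^ i) u).prod
        map_one' := by simp
        map_mul' := fun a b => by simp only [map_mul, List.prod_map_mul] }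
    have hN : ∀ u : V, ((u : G) * l) ^ q = (N u : G) * l ^ q := fun u => by
      rw [mul_pow_conj]
      congr 1
      show _ = (((List.range q).map fun i => MulAut.conjNormal (l ^ i) u).prod : V).1
      rw [SubmonoidClass.coe_list_prod, List.map_map]
      congr 1
    have hv2 : v ^ 2 ∉ P.A w := fun h => hvH (P.mem_of_pow_mem h (fun e => by
      have h1 := orderOf_dvd_of_pow_eq_one e
      rw [orderOf_eq_prime (hVexp v hv) fun e => hvH (e ▸ one_mem _)] at h1
      exact hq2 ((Nat.prime_dvd_prime_iff_eq hq Nat.prime_two).1 h1)))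
    have h1 := hall' v hv hvH
    have h2 := hall' (v ^ 2) (pow_mem hv 2) hv2
    rw [show v = ((⟨v, hv⟩ : V) : G) from rfl, hN] at h1
    rw [show v ^ 2 = (((⟨v, hv⟩ : V) ^ 2 : V) : G) from rfl, hN, map_pow, Subgroup.coe_pow,
      eq_inv_of_mul_eq_one_left h1] at h2
    refine hlne ?_
    have h3 : ((l ^ q)⁻¹ ^ 2 * l ^ q : G) = (l ^ q)⁻¹ := by group
    rw [h3] at h2
    exact inv_eq_one.1 h2
  subst hq2
  obtain ⟨h, hhM, hhodd, hhl⟩ := hlh rfl
  set c := l ^ 2
  have hcV : c ∈ V := hlV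
  have hinvol : ∀ a ∈ V, a⁻¹ = a := fun a ha =>
    inv_eq_of_mul_eq_one_right (by rw [← pow_two]; exact hVexp a ha)
  have hout : ∀ u ∈ V, u ∉ P.A w → l * u * l⁻¹ = u * c := by
    intro u hu huH
    have h1 := hall' u hu huH
    have e : (u * l) ^ 2 = u * (l * u * l⁻¹) * c := by simp only [c, pow_two]; group
    rw [e] at h1
    have e2 : l * u * l⁻¹ = u⁻¹ * c⁻¹ := by
      calc l * u * l⁻¹ = u⁻¹ * (u * (l * u * l⁻¹) * c) * c⁻¹ := by group
        _ = u⁻¹ * c⁻¹ := by rw [h1, mul_one]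
    rw [e2, hinvol u hu, hinvol c hcV]
  have hin : ∀ u ∈ V, u ∈ P.A w → l * u * l⁻¹ = u := by
    intro u hu huH
    have h1 := hout (v * u) (mul_mem hv hu) fun h => hvH (((P.A w).mul_mem_cancel_right huH).1 h)
    rw [show l * (v * u) * l⁻¹ = (l * v * l⁻¹) * (l * u * l⁻¹) by group, hout v hv hvH] at h1
    calc l * u * l⁻¹ = c⁻¹ * v⁻¹ * (v * c * (l * u * l⁻¹)) := by group
      _ = c⁻¹ * (u * c) := by rw [h1]; group
      _ = u := by rw [(hVc u hu c hcV).eq, inv_mul_cancel_left]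
  set U := P.A w ⊓ V
  have hUidx : ∀ u ∈ V, u ∉ P.A w → v * u ∈ P.A w := by
    intro u hu huH
    by_contra hvu
    have h1 := hout (v * u) (mul_mem hv hu) hvu
    rw [show l * (v * u) * l⁻¹ = (l * v * l⁻¹) * (l * u * l⁻¹) by group, hout v hv hvH, hout u hu huH,
      show v * c * (u * c) = v * (c * u) * c by group, (hVc c hcV u hu).eq,
      show v * (u * c) * c = v * u * (c * c) by group] at h1
    have h2 : c * c = 1 := by rw [← pow_two]; exact hVexp c hcV
    rw [h2] at h1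
    exact hlne (mul_left_cancel h1).symm
  set h' := h ^ 2
  have hh'M : h' ∉ M := fun e => by
    obtain ⟨j, hj⟩ := exists_pow_eq_self_of_coprime (x := h) (n := 2) (Nat.coprime_two_left.2 hhodd)
    exact hhM (hj ▸ pow_mem e j)
  have hh'odd : ¬ 2 ∣ orderOf h' := fun e => hhodd.not_two_dvd_nat (e.trans (orderOf_pow_dvd 2))
  have hh'1 : h' ≠ 1 := fun e => hh'M (e ▸ one_mem M)
  have hmod : (QuotientGroup.mk' M (h * l * h⁻¹)) = QuotientGroup.mk' M h' * QuotientGroup.mk' M l := by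
    have h1 := (QuotientGroup.eq_one_iff _).2 hhl
    change QuotientGroup.mk' M (l * h * l⁻¹ * h) = 1 at h1
    rw [map_mul, map_mul, map_mul, map_inv] at h1
    set H' := QuotientGroup.mk' M h
    set L := QuotientGroup.mk' M l
    rw [map_mul, map_mul, map_inv, map_pow]
    have h2 : L * H'⁻¹ * L⁻¹ = H' := by
      rw [show L * H'⁻¹ * L⁻¹ = (L * H' * L⁻¹)⁻¹ by group, eq_inv_of_mul_eq_one_left h1, inv_inv]
    calc H' * L * H'⁻¹ = H' * (L * H'⁻¹ * L⁻¹) * L := by group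
      _ = H' ^ 2 * L := by rw [h2, pow_two]
  obtain ⟨m₀, hm₀, e₀⟩ : ∃ m₀ ∈ M, h * l * h⁻¹ = h' * l * m₀ := by
    refine ⟨(h' * l)⁻¹ * (h * l * h⁻¹), ?_, by group⟩
    rw [← QuotientGroup.eq_one_iff, ← QuotientGroup.mk'_apply, map_mul, hmod, map_inv, map_mul, inv_mul_cancel]
  have htriv : ∀ u ∈ V, l * u * l⁻¹ = u → (h * l * h⁻¹) * u * (h * l * h⁻¹)⁻¹ = u → u = 1 := by
    intro u hu h1 h2
    refine ((hfpf h' hh'odd u hu ?_).resolve_left hh'1)
    have hm : m₀ * u * m₀⁻¹ = u := by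
      rw [mul_inv_eq_iff_eq_mul]; exact (Subgroup.mem_centralizer_iff.1 hm₀ u hu).symm
    rw [e₀, show h' * l * m₀ * u * (h' * l * m₀)⁻¹ = h' * (l * (m₀ * u * m₀⁻¹) * l⁻¹) * h'⁻¹ by group, hm, h1] at h2
    exact mul_inv_eq_iff_eq_mul.1 h2
  have hcardU : Nat.card U = 2 := by
    have hwU : w ∈ U := ⟨P.mem w, hw⟩
    have hge : 1 < Nat.card U := by
      haveI : Nontrivial U := ⟨⟨⟨w, hwU⟩, 1, fun e => hw1 (congrArg Subtype.val e)⟩⟩
      exact Finite.one_lt_card
    have hmemU : ∀ a : U, h * l * h⁻¹ * (a : G) * (h * l * h⁻¹)⁻¹ = a → (a : G) = 1 := fun a ha =>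
      htriv a a.2.2 (hin a a.2.2 a.2.1) ha
    -- at most one nontrivial element of `U`
    have hle : ∀ a b : U, (a : G) ≠ 1 → (b : G) ≠ 1 → a = b := by
      intro a b ha hb
      have hsh : ∀ x : U, (x : G) ≠ 1 → h * l * h⁻¹ * (x : G) * (h * l * h⁻¹)⁻¹ = (x : G) * (h * c * h⁻¹) := by
        intro x hx
        have hx' : h⁻¹ * (x : G) * h ∈ V := by simpa using hVn.conj_mem _ x.2.2 h⁻¹
        by_cases hxH : h⁻¹ * (x : G) * h ∈ P.A w
        · exfalso
          refine hx (hmemU x ?_)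
          have h1 := hin _ hx' hxH
          calc h * l * h⁻¹ * (x : G) * (h * l * h⁻¹)⁻¹ = h * (l * (h⁻¹ * (x : G) * h) * l⁻¹) * h⁻¹ := by group
            _ = (x : G) := by rw [h1]; group
        · calc h * l * h⁻¹ * (x : G) * (h * l * h⁻¹)⁻¹ = h * (l * (h⁻¹ * (x : G) * h) * l⁻¹) * h⁻¹ := by group
            _ = (x : G) * (h * c * h⁻¹) := by rw [hout _ hx' hxH]; group
      have h1 : (a : G) * (b : G) = 1 := hmemU (a * b) (by
        show h * l * h⁻¹ * ((a : G) * b) * (h * l * h⁻¹)⁻¹ = (a : G) * b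
        have hc' : h * c * h⁻¹ ∈ V := hVn.conj_mem c hcV h
        rw [show h * l * h⁻¹ * ((a : G) * b) * (h * l * h⁻¹)⁻¹ =
          (h * l * h⁻¹ * (a : G) * (h * l * h⁻¹)⁻¹) * (h * l * h⁻¹ * (b : G) * (h * l * h⁻¹)⁻¹) by group,
          hsh a ha, hsh b hb, mul_assoc (a : G), ← mul_assoc (h * c * h⁻¹), (hVc _ hc' b b.2.2).eq,
          mul_assoc (b : G), ← pow_two, hVexp _ hc', mul_one])
      exact Subtype.ext ((eq_inv_of_mul_eq_one_left h1).trans (hinvol _ b.2.2))
    have hle2 : Nat.card U ≤ 2 := by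
      have hinj : Function.Injective (fun a : U => decide ((a : G) = 1)) := by
        intro a b hab'
        simp only [decide_eq_decide] at hab'
        by_cases ha : (a : G) = 1
        · exact Subtype.ext (ha.trans (hab'.1 ha).symm)
        · exact hle a b ha fun hb => ha (hab'.2 hb)
      have := Nat.card_le_card_of_injective _ hinj
      simpa using this
    omega
  have hcardV : Nat.card V = 4 := by
    have h1 : (U.subgroupOf V).index = 2 := by
      rw [Subgroup.index_eq_two_iff]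
      refine ⟨⟨v, hv⟩, fun b => ?_⟩
      simp only [Subgroup.mem_subgroupOf, Subgroup.coe_mul]
      by_cases hb : (b : G) ∈ P.A w
      · exact Or.inr ⟨⟨hb, b.2⟩, fun h => hvH (((P.A w).mul_mem_cancel_left hb).1 h.1)⟩
      · refine Or.inl ⟨⟨?_, mul_mem b.2 hv⟩, fun h => hb h.1⟩
        rw [(hVc b b.2 v hv).eq]
        exact hUidx b b.2 hb
    have h2 := (U.subgroupOf V).card_mul_index
    rw [h1, Nat.card_congr (Subgroup.subgroupOfEquivOfLe (inf_le_right : U ≤ V)).toEquiv, hcardU] at h2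
    omega
  -- `M = V`
  have hMab : ∀ a ∈ M, ∀ b ∈ M, Commute a b := fun a ha b hb => by
    have h1 := hMexp _ (mul_mem ha hb)
    have ha' : a⁻¹ = a := inv_eq_of_mul_eq_one_right (by rw [← pow_two]; exact hMexp a ha)
    have hb' : b⁻¹ = b := inv_eq_of_mul_eq_one_right (by rw [← pow_two]; exact hMexp b hb)
    show a * b = b * a
    rw [← inv_eq_of_mul_eq_one_right (a := a * b) (b := a * b) (by rw [← pow_two]; exact h1), mul_inv_rev, ha', hb']
  have hsq : ∀ m ∈ M, (m * l) ^ 2 ∈ V := by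
    intro m hm
    by_cases he : (m * l) ^ 2 = 1
    · rw [he]; exact one_mem V
    have h4 : (m * l) ^ 2 ∈ M := by
      rw [← QuotientGroup.eq_one_iff, ← QuotientGroup.mk'_apply, map_pow, map_mul,
        show QuotientGroup.mk' M m = 1 from (QuotientGroup.eq_one_iff m).2 hm, one_mul, ← map_pow]
      exact (QuotientGroup.eq_one_iff _).2 hlq
    obtain ⟨u, hu, hu1, hcu⟩ := exists_commute_of_pgroup V hVp hV1 (m * l) (by
      obtain ⟨k, -, hk⟩ := (Nat.dvd_prime_pow hq).1 (show orderOf (m * l) ∣ 2 ^ 2 from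
        orderOf_dvd_of_pow_eq_one (by rw [show 2 ^ 2 = 2 * 2 from rfl, pow_mul]; exact hMexp _ h4))
      exact ⟨k, hk⟩)
    exact (P.radical_fixed hNN V hVc hVexp (fun e => he (by rw [e, one_pow]))
      (fun e => he (by rw [← e, pow_orderOf_eq_one])) hu hu1 hcu).1
  have hlact : ∀ m ∈ M, m * (l * m * l⁻¹) ∈ V := by
    intro m hm
    have h1 := hsq m hm
    rw [show (m * l) ^ 2 = m * (l * m * l⁻¹) * c by simp only [c, pow_two]; group] at h1
    exact (V.mul_mem_cancel_right hcV).1 h1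
  have hMV : M = V := by
    refine le_antisymm (fun m hm => ?_) hVM
    have hh'act : h' * m * h'⁻¹ * m⁻¹ ∈ V := by
      -- `h'` and `l` act on `M / V` as two involutions inverting
      set m₁ := l⁻¹ * m * l
      have hm₁ : m₁ ∈ M := by
        show l⁻¹ * m * l ∈ M
        simpa using (inferInstance : M.Normal).conj_mem m hm l⁻¹
      set m₂ := h⁻¹ * m₁ * h
      have hm₂ : m₂ ∈ M := by
        show h⁻¹ * m₁ * h ∈ M
        simpa using (inferInstance : M.Normal).conj_mem m₁ hm₁ h⁻¹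
      have h1 := hlact m₁ hm₁
      rw [show l * m₁ * l⁻¹ = m by simp only [m₁]; group] at h1
      have h2 := hVn.conj_mem _ (hlact m₂ hm₂) h
      rw [show h * (m₂ * (l * m₂ * l⁻¹)) * h⁻¹ =
        m₁ * ((h * l * h⁻¹) * m₁ * (h * l * h⁻¹)⁻¹) by simp only [m₂]; group, e₀] at h2
      have e1 : m₀ * m₁ * m₀⁻¹ = m₁ := by rw [mul_inv_eq_iff_eq_mul]; exact (hMab _ hm₀ _ hm₁).eq
      rw [show h' * l * m₀ * m₁ * (h' * l * m₀)⁻¹ = h' * (l * (m₀ * m₁ * m₀⁻¹) * l⁻¹) * h'⁻¹ by group, e1,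
        show l * m₁ * l⁻¹ = m by simp only [m₁]; group] at h2
      have h5 : h' * m * h'⁻¹ ∈ M := (inferInstance : M.Normal).conj_mem m hm h'
      have h7 : h' * m * h'⁻¹ * m⁻¹ = (m₁ * m)⁻¹ * (m₁ * (h' * m * h'⁻¹)) := by
        rw [(hMab _ h5 _ (inv_mem hm)).eq]
        group
      rw [h7]
      exact mul_mem (inv_mem h1) h2
    haveI : Finite V := inferInstance
    have hinj : Function.Injective (fun a : V => (⟨h' * (a : G) * h'⁻¹ * (a : G)⁻¹,
        mul_mem (hVn.conj_mem _ a.2 h') (inv_mem a.2)⟩ : V)) := by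
      intro a b hab'
      have h1 := congrArg Subtype.val hab'
      simp only at h1
      refine Subtype.ext (mul_inv_eq_one.1 ((hfpf h' hh'odd _ (mul_mem a.2 (inv_mem b.2)) ?_).resolve_left hh'1))
      show h' * ((a : G) * (b : G)⁻¹) = (a : G) * (b : G)⁻¹ * h'
      have hcm : h' * (a : G) * h'⁻¹ * (a : G)⁻¹ * (b : G) = h' * (b : G) * h'⁻¹ := by rw [h1]; group
      have hA : h' * (a : G) * h'⁻¹ ∈ V := hVn.conj_mem _ a.2 h'
      rw [mul_assoc (h' * (a : G) * h'⁻¹), (hVc _ (inv_mem a.2) _ b.2).eq, ← mul_assoc, mul_inv_eq_iff_eq_mul,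
        (hVc _ hA _ b.2).eq] at hcm
      calc h' * ((a : G) * (b : G)⁻¹) = (h' * (a : G) * h'⁻¹) * h' * (b : G)⁻¹ := by group
        _ = (b : G)⁻¹ * ((b : G) * (h' * (a : G) * h'⁻¹)) * h' * (b : G)⁻¹ := by group
        _ = (b : G)⁻¹ * (h' * (b : G) * h'⁻¹ * a) * h' * (b : G)⁻¹ := by rw [hcm]
        _ = (b : G)⁻¹ * ((h' * (b : G) * h'⁻¹) * (a : G)) * h' * (b : G)⁻¹ := by group
        _ = (b : G)⁻¹ * ((a : G) * (h' * (b : G) * h'⁻¹)) * h' * (b : G)⁻¹ := by
          rw [(hVc _ (hVn.conj_mem _ b.2 h') _ a.2).eq]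
        _ = (b : G)⁻¹ * (a : G) * h' := by group
        _ = (a : G) * (b : G)⁻¹ * h' := by rw [(hVc _ (inv_mem b.2) _ a.2).eq]
    obtain ⟨a, ha⟩ := (Finite.injective_iff_surjective.1 hinj) ⟨_, hh'act⟩
    have h1 : h' * (a : G) * h'⁻¹ * (a : G)⁻¹ = h' * m * h'⁻¹ * m⁻¹ := congrArg Subtype.val ha
    by_contra hmV
    have hn : m * (a : G)⁻¹ ≠ 1 := fun e => hmV (by rw [mul_inv_eq_one.1 e]; exact a.2)
    have hmaM : m * (a : G)⁻¹ ∈ M := mul_mem hm (inv_mem (hVM a.2))
    have hcomm : Commute h' (m * (a : G)⁻¹) := by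
      show h' * (m * (a : G)⁻¹) = m * (a : G)⁻¹ * h'
      have hA : h' * (a : G) * h'⁻¹ ∈ M := hVM (hVn.conj_mem _ a.2 h')
      have h6 : h' * m * h'⁻¹ = h' * (a : G) * h'⁻¹ * ((a : G)⁻¹ * m) := by
        rw [← mul_assoc, h1]; group
      calc h' * (m * (a : G)⁻¹) = (h' * m * h'⁻¹) * (h' * (a : G) * h'⁻¹)⁻¹ * h' := by group
        _ = ((a : G)⁻¹ * m) * (h' * (a : G) * h'⁻¹) * (h' * (a : G) * h'⁻¹)⁻¹ * h' := by
          rw [h6, (hMab _ hA _ (mul_mem (inv_mem (hVM a.2)) hm)).eq]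
        _ = (a : G)⁻¹ * m * h' := by group
        _ = m * (a : G)⁻¹ * h' := by rw [(hMab _ (inv_mem (hVM a.2)) _ hm).eq]
    have h2 : orderOf (m * (a : G)⁻¹) = 2 := orderOf_eq_prime (hMexp _ hmaM) hn
    have h3 := hcomm.orderOf_mul_eq_mul_orderOf_of_coprime (by
      rw [h2, Nat.coprime_two_right]; exact Nat.not_even_iff_odd.1 fun e => hh'odd e.two_dvd)
    obtain ⟨r, hr, hrd⟩ := Nat.exists_prime_and_dvd (n := orderOf h') fun e => hh'1 (orderOf_eq_one_iff.1 e)
    have h4 := hmix _ (by rw [h3, h2]; exact dvd_mul_left _ _) r hr (by rw [h3]; exact hrd.trans (dvd_mul_right _ _))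
    exact hh'odd (h4 ▸ hrd)
  have hcardG : Nat.card G = 24 := by
    let T := {a : V // a ≠ 1}
    haveI : Fintype V := Fintype.ofFinite _
    have hT : Nat.card T = 3 := by
      rw [Nat.card_eq_fintype_card, Fintype.card_subtype_compl, Fintype.card_subtype_eq,
        ← Nat.card_eq_fintype_card, hcardV]
    let act : G →* Equiv.Perm T :=
      { toFun := fun g => (MulAut.conjNormal g : MulAut V).toEquiv.subtypeEquiv fun a => by simp
        map_one' := by ext ⟨a, ha⟩; simp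
        map_mul' := fun g g' => by ext ⟨a, ha⟩; simp [mul_assoc] }
    have hker : act.ker ≤ V := by
      intro g hg
      rw [← hMV, Subgroup.mem_centralizer_iff]
      intro a ha
      by_cases ha1 : a = 1
      · rw [ha1, one_mul, mul_one]
      have h1 := Equiv.Perm.ext_iff.1 (MonoidHom.mem_ker.1 hg) ⟨⟨a, ha⟩, fun e => ha1 (congrArg Subtype.val e)⟩
      have h2 : g * a * g⁻¹ = a := congrArg (fun t : T => ((t : V) : G)) h1
      exact (mul_inv_eq_iff_eq_mul.1 h2).symm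
    have hle : Nat.card (G ⧸ V) ≤ 6 := by
      rw [← Subgroup.index_eq_card]
      refine (Nat.le_of_dvd (Nat.pos_of_ne_zero Subgroup.index_ne_zero_of_finite)
        (Subgroup.index_dvd_of_le hker)).trans ?_
      rw [Subgroup.index_ker]
      refine (Subgroup.card_le_card_group act.range).trans ?_
      rw [Nat.card_perm, hT]
      rfl
    have h2 : 2 ∣ Nat.card (G ⧸ V) := by
      have h3 : orderOf (l : G ⧸ V) = 2 := by
        refine orderOf_eq_prime ?_ fun e => hlM (hMV ▸ (QuotientGroup.eq_one_iff l).1 e)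
        rw [← QuotientGroup.mk_pow]; exact (QuotientGroup.eq_one_iff _).2 hlV
      rw [← h3]; exact orderOf_dvd_natCard _
    have h3 : ∃ r : ℕ, r.Prime ∧ r ≠ 2 ∧ r ∣ Nat.card (G ⧸ V) := by
      have hne : orderOf (h : G ⧸ V) ≠ 1 := fun e => hhM (hMV ▸ (QuotientGroup.eq_one_iff h).1 (orderOf_eq_one_iff.1 e))
      obtain ⟨r, hr, hrd⟩ := Nat.exists_prime_and_dvd hne
      exact ⟨r, hr, fun e => hhodd.not_two_dvd_nat ((e ▸ hrd).trans (orderOf_map_dvd (QuotientGroup.mk' V) h)),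
        hrd.trans (orderOf_dvd_natCard _)⟩
    obtain ⟨r, hr, hr2, hrd⟩ := h3
    have h6 : 2 * r ∣ Nat.card (G ⧸ V) :=
      ((Nat.coprime_primes Nat.prime_two hr).2 (Ne.symm hr2)).mul_dvd_of_dvd_of_dvd h2 hrd
    have h7 := Nat.le_of_dvd Nat.card_pos h6
    have h8 := hr.two_le
    have h9 : r = 3 := by omega
    subst h9
    have h10 : Nat.card (G ⧸ V) = 6 := by omega
    rw [Subgroup.card_eq_card_quotient_mul_card_subgroup V, h10, hcardV]
  exact Or.inl (iso_perm_four V hcardV hcardG hMV hmin)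

end Part

end Cfsg.Agent.Solv.Partition
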