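import Mathlib
import Cfsg.Agent.Lib.Solv.Basic

/-!
# Invariant partitions of a finite group

`Part G` records, for each element `x`, the component `A x` containing it.
-/

set_option autoImplicit false
set_option linter.style.haveILetI false
set_option linter.unusedSectionVars false

namespace Cfsg.Agent.Solv.Partition

universe u

variable {G : Type u} [Group G]

/-- A nontrivial partition invariant under conjugation. -/
structure Part (G : Type u) [Group G] where
  /-- The component of an element. -/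
  A : G → Subgroup G
  mem : ∀ x, x ∈ A x
  ne_top : ∀ x, A x ≠ ⊤
  eq : ∀ {x y : G}, y ∈ A x → y ≠ 1 → A y = A x
  conj : ∀ (g x : G), A (g * x * g⁻¹) = (A x).map (MulAut.conj g).toMonoidHom

/-- A partition gives an invariant one. -/
theorem exists_part [Finite G] (S : Set (Subgroup G)) (hS2 : ∃ H ∈ S, ∃ K ∈ S, H ≠ K)
    (hS1 : ∀ H ∈ S, H ≠ ⊥) (hpart : ∀ g : G, g ≠ 1 → ∃! H : Subgroup G, H ∈ S ∧ g ∈ H) :
    Nonempty (Part G) := by
  classical
  obtain ⟨H₀, hH₀, K₀, hK₀, hne⟩ := hS2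
  have huniq : ∀ {H K : Subgroup G} {g : G}, H ∈ S → K ∈ S → g ∈ H → g ∈ K → g ≠ 1 → H = K :=
    fun hH hK hg hg' h1 => (hpart _ h1).unique ⟨hH, hg⟩ ⟨hK, hg'⟩
  have hbot : H₀ ⊓ K₀ = ⊥ := by
    rw [eq_bot_iff]
    intro g hg
    by_contra h1
    exact hne (huniq hH₀ hK₀ hg.1 hg.2 h1)
  have hmap : ∀ (g y : G) (K : Subgroup G), y ∈ K.map (MulAut.conj g).toMonoidHom ↔ g⁻¹ * y * g ∈ K := by
    intro g y K
    rw [Subgroup.mem_map_equiv]
    simp
  let 𝒦 : G → Set (Subgroup G) := fun x =>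
    {K | x ∈ K ∧ ∃ g : G, ∃ H ∈ S, K = H.map (MulAut.conj g).toMonoidHom}
  have hmem : ∀ x y : G, y ∈ sInf (𝒦 x) ↔
      ∀ g : G, ∀ H ∈ S, g⁻¹ * x * g ∈ H → g⁻¹ * y * g ∈ H := by
    intro x y
    rw [Subgroup.mem_sInf]
    constructor
    · intro h g H hH hx
      exact (hmap g y H).1 (h _ ⟨(hmap g x H).2 hx, g, H, hH, rfl⟩)
    · rintro h _ ⟨hx, g, H, hH, rfl⟩
      exact (hmap g y H).2 (h g H hH ((hmap g x H).1 hx))
  refine ⟨⟨fun x => sInf (𝒦 x), fun x => Subgroup.mem_sInf.2 fun K hK => hK.1, ?_, ?_, ?_⟩⟩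
  · intro x htop
    by_cases hx : x = 1
    · have h2 : sInf (𝒦 x) ≤ H₀ ⊓ K₀ := by
        intro y hy
        rw [hmem] at hy
        have h3 := hy 1 H₀ hH₀ (by rw [hx]; simp)
        have h4 := hy 1 K₀ hK₀ (by rw [hx]; simp)
        simp only [inv_one, one_mul, mul_one] at h3 h4
        exact ⟨h3, h4⟩
      rw [hbot, le_bot_iff] at h2
      refine hS1 H₀ hH₀ ?_
      rw [eq_bot_iff, ← h2, htop]
      exact le_top
    · obtain ⟨H, ⟨hH, hxH⟩, -⟩ := hpart x hx
      have h1 : ∀ y : G, y ∈ H := fun y => by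
        have h3 : y ∈ sInf (𝒦 x) := by rw [htop]; exact Subgroup.mem_top y
        rw [hmem] at h3
        have h4 := h3 1 H hH (by simpa using hxH)
        simpa using h4
      obtain ⟨g, hg, hg1⟩ := (Subgroup.nontrivial_iff_exists_ne_one H₀).1
        ((Subgroup.nontrivial_iff_ne_bot H₀).2 (hS1 H₀ hH₀))
      obtain ⟨k, hk, hk1⟩ := (Subgroup.nontrivial_iff_exists_ne_one K₀).1
        ((Subgroup.nontrivial_iff_ne_bot K₀).2 (hS1 K₀ hK₀))
      exact hne ((huniq hH₀ hH hg (h1 g) hg1).trans (huniq hK₀ hH hk (h1 k) hk1).symm)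
  · intro x y hy hy1
    rw [hmem] at hy
    ext w
    rw [hmem, hmem]
    constructor
    · intro h g H hH hx
      exact h g H hH (hy g H hH hx)
    · intro h g H hH hy'
      refine h g H hH ?_
      by_cases hx1 : x = 1
      · rw [hx1]; simp
      obtain ⟨H', ⟨hH', hxH'⟩, -⟩ := hpart (g⁻¹ * x * g) (by
        intro e
        refine hx1 ?_
        have h5 : g * (g⁻¹ * x * g) * g⁻¹ = g * 1 * g⁻¹ := by rw [e]
        simpa [mul_assoc] using h5)
      have hyH' := hy g H' hH' hxH'
      have hne1 : g⁻¹ * y * g ≠ 1 := fun e => hy1 (by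
        have h5 : g * (g⁻¹ * y * g) * g⁻¹ = g * 1 * g⁻¹ := by rw [e]
        simpa [mul_assoc] using h5)
      rw [← huniq hH' hH hyH' hy' hne1]
      exact hxH'
  · intro g x
    ext y
    rw [hmem, hmap, hmem]
    constructor
    · intro h k H hH hx
      have := h (g * k) H hH (by simpa [mul_assoc] using hx)
      simpa [mul_assoc] using this
    · intro h k H hH hx
      have := h (g⁻¹ * k) H hH (by simpa [mul_assoc] using hx)
      simpa [mul_assoc] using this

namespace Part

variable (P : Part G)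

theorem self_pow_mem (x : G) (n : ℕ) : x ^ n ∈ P.A x := (P.A x).pow_mem (P.mem x) n

theorem A_pow {x : G} {n : ℕ} (h : x ^ n ≠ 1) : P.A (x ^ n) = P.A x := P.eq (P.self_pow_mem x n) h

/-- A power lying in a component forces the element into it. -/
theorem mem_of_pow_mem {x z : G} {n : ℕ} (hn : z ^ n ∈ P.A x) (h1 : z ^ n ≠ 1) : z ∈ P.A x := by
  have h := P.mem z
  rwa [← P.A_pow h1, P.eq hn h1] at h

theorem notMem_of_ne {x y : G} (hy : y ≠ 1) (h : P.A y ≠ P.A x) : y ∉ P.A x := fun hm => h (P.eq hm hy)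

/-- Outside a component the order is the order modulo it. -/
theorem pow_outside_iff {x z : G} (hz : z ∉ P.A x) (n : ℕ) : z ^ n ∈ P.A x ↔ z ^ n = 1 := by
  constructor
  · intro h
    by_contra h1
    exact hz (P.mem_of_pow_mem h h1)
  · intro h
    rw [h]
    exact one_mem _

variable [Finite G]

/-- Commuting elements in different components have the same prime order. -/
theorem commute_orders {x y : G} (h : Commute x y) (hx : x ≠ 1) (hy : y ≠ 1) (hne : P.A x ≠ P.A y) :
    (orderOf x).Prime ∧ orderOf y = orderOf x := by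
  have key : ∀ a b : G, Commute a b → a ≠ 1 → P.A a ≠ P.A b → b ^ orderOf a = 1 := by
    intro a b hab ha hne'
    by_contra hb
    have h1 : (a * b) ^ orderOf a = b ^ orderOf a := by
      rw [hab.mul_pow, pow_orderOf_eq_one, one_mul]
    have h2 : P.A (a * b) = P.A b := by rw [← P.A_pow (n := orderOf a) (by rwa [h1]), h1, P.A_pow hb]
    have h3 : a * b ∈ P.A b := h2 ▸ P.mem (a * b)
    exact hne' (P.eq (((P.A b).mul_mem_cancel_right (P.mem b)).1 h3) ha)
  have e1 : orderOf y = orderOf x := Nat.dvd_antisymm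
    (orderOf_dvd_of_pow_eq_one (key x y h hx hne))
    (orderOf_dvd_of_pow_eq_one (key y x h.symm hy hne.symm))
  refine ⟨?_, e1⟩
  obtain ⟨q, hq, hqd⟩ := Nat.exists_prime_and_dvd (n := orderOf x) fun e => hx (orderOf_eq_one_iff.1 e)
  by_contra hnp
  have hlt : orderOf (x ^ q) < orderOf x := by
    rw [orderOf_pow' x hq.ne_zero, Nat.gcd_eq_right hqd]
    exact Nat.div_lt_self (orderOf_pos x) hq.one_lt
  have hne1 : x ^ q ≠ 1 := fun e => by
    have h1 := orderOf_dvd_of_pow_eq_one e
    rw [Nat.dvd_antisymm h1 hqd] at hnp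
    exact hnp hq
  refine hne (by_contra fun hne' => ?_)
  have h4 := Nat.dvd_antisymm
    (orderOf_dvd_of_pow_eq_one (key (x ^ q) y (h.pow_left q) hne1 (by rwa [P.A_pow hne1])))
    (orderOf_dvd_of_pow_eq_one (key y (x ^ q) (h.pow_left q).symm hy (by rw [P.A_pow hne1]; exact fun e => hne' e.symm)))
  omega

theorem A_eq_of_commute {x y : G} (h : Commute x y) (hx : x ≠ 1) (hy : y ≠ 1)
    (ho : ¬ (orderOf x).Prime ∨ orderOf y ≠ orderOf x) : P.A x = P.A y := by
  by_contra hne
  obtain ⟨h1, h2⟩ := P.commute_orders h hx hy hne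
  rcases ho with h3 | h3
  · exact h3 h1
  · exact h3 h2

/-- An element carrying a nontrivial element of a component back into it normalises it. -/
theorem normalizes_of {g x d : G} (hd : d ∈ P.A x) (hd1 : d ≠ 1) (hg : g * d * g⁻¹ ∈ P.A x) :
    g ∈ Subgroup.normalizer (P.A x : Set G) := by
  have h1 : P.A (g * d * g⁻¹) = P.A x := P.eq hg fun e => hd1 (by
    have h5 : g⁻¹ * (g * d * g⁻¹) * g = g⁻¹ * 1 * g := by rw [e]
    simpa [mul_assoc] using h5)
  rw [P.conj, P.eq hd hd1] at h1
  rw [Subgroup.mem_normalizer_iff]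
  intro y
  constructor
  · intro hy
    rw [← h1]
    exact ⟨y, hy, by simp⟩
  · intro hy
    rw [← h1] at hy
    obtain ⟨w, hw, e⟩ := hy
    have e' : g * w * g⁻¹ = g * y * g⁻¹ := by simpa using e
    rwa [← mul_left_cancel (mul_right_cancel e')]

theorem normalizes_of_commute {g x d : G} (hd : d ∈ P.A x) (hd1 : d ≠ 1) (h : Commute g d) :
    g ∈ Subgroup.normalizer (P.A x : Set G) :=
  P.normalizes_of hd hd1 (by rw [h.eq, mul_inv_cancel_right]; exact hd)

/-- Components meet trivially. -/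
theorem inf_eq_bot {x y : G} (hne : P.A x ≠ P.A y) : P.A x ⊓ P.A y = ⊥ := by
  rw [eq_bot_iff]
  intro w hw
  by_contra h1
  exact hne ((P.eq hw.1 h1).symm.trans (P.eq hw.2 h1))

/-- In a coset outside a component normalised by `z`, of prime image order, all orders are that prime. -/
theorem coset_pow {x z : G} {p : ℕ} (hp : p.Prime) (hzN : z ∈ Subgroup.normalizer (P.A x : Set G))
    (hz : z ∉ P.A x) (hzp : z ^ p ∈ P.A x) {k : G} (hk : k ∈ P.A x) : orderOf (k * z) = p := by
  haveI := Fact.mk hp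
  have hnot : k * z ∉ P.A x := fun h => hz (((P.A x).mul_mem_cancel_left hk).1 h)
  have hmem : (k * z) ^ p ∈ P.A x := by
    have key : ∀ n : ℕ, (k * z) ^ n * (z ^ n)⁻¹ ∈ P.A x := by
      intro n
      induction n with
      | zero => simp
      | succ n ih =>
        have h1 : z ^ n * k * (z ^ n)⁻¹ ∈ P.A x :=
          (Subgroup.mem_normalizer_iff.1 (pow_mem hzN n) k).1 hk
        have e : (k * z) ^ (n + 1) * (z ^ (n + 1))⁻¹ =
            ((k * z) ^ n * (z ^ n)⁻¹) * (z ^ n * k * (z ^ n)⁻¹) := by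
          rw [pow_succ, pow_succ]; group
        rw [e]
        exact mul_mem ih h1
    have := mul_mem (key p) hzp
    rwa [inv_mul_cancel_right] at this
  exact orderOf_eq_prime ((P.pow_outside_iff hnot p).1 hmem) fun e => hnot (e ▸ one_mem _)

end Part

end Cfsg.Agent.Solv.Partition
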