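import Cfsg.Prelude.Def_Solvable
import Cfsg.Agent.Lib.Solv.Partition.Basic
import Cfsg.Agent.Lib.Perm.Splitting
import Cfsg.Agent.Lib.Local.TypePBasic

/-!
# First reductions: self-normalising components, the centre, nilpotency
-/

set_option autoImplicit false
set_option linter.style.haveILetI false
set_option linter.unusedSectionVars false

namespace Cfsg.Agent.Solv.Partition

open scoped Pointwise

universe u

variable {G : Type u} [Group G]

/-- The Hughes alternative. -/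
def Hughes (G : Type u) [Group G] : Prop :=
  ∃ p : ℕ, p.Prime ∧ Subgroup.closure {g : G | g ^ p ≠ 1} ≠ ⊤

/-- The Frobenius alternative. -/
def Frob (G : Type u) [Group G] : Prop :=
  ∃ H : Subgroup G, Cfsg.IsFrobeniusComplement H

theorem hughes_of {K : Subgroup G} (hK : K ≠ ⊤) {p : ℕ} (hp : p.Prime)
    (h : ∀ g : G, g ∉ K → g ^ p = 1) : Hughes G := by
  refine ⟨p, hp, fun e => hK (eq_top_iff.2 (e ▸ (Subgroup.closure_le K).2 fun g hg => ?_))⟩
  by_contra hgK
  exact hg (h g hgK)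

variable [Finite G]

/-- A nontrivial normal `q`-subgroup has a fixed point under every `q`-element. -/
theorem exists_commute_of_pgroup (V : Subgroup G) [hVn : V.Normal] {q : ℕ} [hq : Fact q.Prime]
    (hV : IsPGroup q V) (hV1 : V ≠ ⊥) (x : G) (hx : ∃ k, orderOf x = q ^ k) :
    ∃ v ∈ V, v ≠ 1 ∧ Commute x v := by
  obtain ⟨k, hk⟩ := hx
  have hQ : IsPGroup q (Subgroup.zpowers x) := IsPGroup.of_card (n := k) (by rw [Nat.card_zpowers, hk])
  letI : MulAction (Subgroup.zpowers x) V :=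
    { smul := fun z w => MulAut.conjNormal (z : G) w
      one_smul := fun w => by show MulAut.conjNormal (1 : G) w = w; rw [map_one]; rfl
      mul_smul := fun z z' w => by
        show MulAut.conjNormal ((z : G) * z') w = MulAut.conjNormal (z : G) (MulAut.conjNormal (z' : G) w)
        rw [map_mul]; rfl }
  haveI : Nontrivial V := (Subgroup.nontrivial_iff_ne_bot V).2 hV1
  have hone : (1 : V) ∈ MulAction.fixedPoints (Subgroup.zpowers x) V := fun z => map_one _
  have hqV : q ∣ Nat.card V := by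
    obtain ⟨n, hn⟩ := IsPGroup.iff_card.1 hV
    have := Finite.one_lt_card (α := V)
    rw [hn] at this ⊢
    exact dvd_pow_self q (by rintro rfl; simp at this)
  obtain ⟨w, hwf, hw1⟩ := hQ.exists_fixed_point_of_prime_dvd_card_of_fixed_point V hqV hone
  refine ⟨w, w.2, fun e => hw1 (Subtype.ext e).symm, ?_⟩
  have h1 := congrArg (fun v : V => (v : G)) (hwf ⟨x, Subgroup.mem_zpowers x⟩)
  rw [show (⟨x, Subgroup.mem_zpowers x⟩ : Subgroup.zpowers x) • w = MulAut.conjNormal x w from rfl] at h1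
  simp only [MulAut.conjNormal_apply] at h1
  exact mul_inv_eq_iff_eq_mul.1 h1

namespace Part

variable (P : Part G)

theorem A_ne_bot {x : G} (hx : x ≠ 1) : P.A x ≠ ⊥ := fun e => hx (Subgroup.mem_bot.1 (e ▸ P.mem x))

theorem conj_smul_A (g x : G) : MulAut.conj g • P.A x = P.A (g * x * g⁻¹) := by
  rw [P.conj, Cfsg.Agent.Solv.conj_smul_eq_map]

/-- A self-normalising component is a Frobenius complement. -/
theorem frob_of_selfnormalizing {x : G} (hx : x ≠ 1)
    (h : ∀ g ∈ Subgroup.normalizer (P.A x : Set G), g ∈ P.A x) : Frob G := by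
  refine ⟨P.A x, P.A_ne_bot hx, P.ne_top x, fun g hg => ?_⟩
  rw [P.conj_smul_A]
  refine P.inf_eq_bot fun e => hg (h g ?_)
  exact Cfsg.Agent.Solv.mem_normalizer_of_conj_smul (by rw [P.conj_smul_A, ← e])

/-- A component is self-normalising or nilpotent. -/
theorem nilpotent_of_normalizer {x g : G} (hgN : g ∈ Subgroup.normalizer (P.A x : Set G))
    (hg : g ∉ P.A x) : Group.IsNilpotent (P.A x) := by
  classical
  have hex : ∃ n, 0 < n ∧ g ^ n ∈ P.A x :=
    ⟨orderOf g, orderOf_pos g, by rw [pow_orderOf_eq_one]; exact one_mem _⟩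
  obtain ⟨h0, h1⟩ := Nat.find_spec hex
  have hn1 : Nat.find hex ≠ 1 := fun e => hg (by rw [e, pow_one] at h1; exact h1)
  obtain ⟨p, hp, hpd⟩ := Nat.exists_prime_and_dvd hn1
  obtain ⟨m, hm⟩ := hpd
  have hm0 : 0 < m := Nat.pos_of_ne_zero fun e => by rw [e, mul_zero] at hm; omega
  have hz : g ^ m ∉ P.A x := fun hz => by
    have h2 := Nat.find_min' hex ⟨hm0, hz⟩
    rw [hm] at h2
    nlinarith [hp.two_le]
  have hzN : g ^ m ∈ Subgroup.normalizer (P.A x : Set G) := pow_mem hgN m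
  have hzp : (g ^ m) ^ p ∈ P.A x := by rw [← pow_mul, mul_comm, ← hm]; exact h1
  refine Cfsg.Agent.Perm.splitting_nilpotent (P.A x) (g ^ m) hp hzN fun k hk => ?_
  rw [← P.coset_pow hp hzN hz hzp hk, pow_orderOf_eq_one]

include P in
/-- A nontrivial centre gives the Hughes alternative. -/
theorem hughes_of_center (h : Subgroup.center G ≠ ⊥) : Hughes G := by
  obtain ⟨z, hz, hz1⟩ :=
    (Subgroup.nontrivial_iff_exists_ne_one _).1 ((Subgroup.nontrivial_iff_ne_bot _).2 h)
  have hcomm : ∀ g : G, Commute z g := fun g => (Subgroup.mem_center_iff.1 hz g).symm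
  obtain ⟨w, hw⟩ := SetLike.exists_not_mem_of_ne_top (P.A z) (P.ne_top z)
  have hne : ∀ g : G, g ∉ P.A z → P.A z ≠ P.A g := fun g hg e => hg (e ▸ P.mem g)
  obtain ⟨hp, -⟩ := P.commute_orders (hcomm w) hz1 (fun e => hw (e ▸ one_mem _)) (hne w hw)
  refine hughes_of (P.ne_top z) hp fun g hg => ?_
  obtain ⟨-, e⟩ := P.commute_orders (hcomm g) hz1 (fun e => hg (e ▸ one_mem _)) (hne g hg)
  rw [← e, pow_orderOf_eq_one]

/-- A `q`-part and a commuting prime part: the prime part has fixed points on a normal `q`-group. -/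
theorem exists_fixed_of_mixed (hnil : ∀ x : G, x ≠ 1 → Group.IsNilpotent (P.A x))
    (V : Subgroup G) [V.Normal] {q : ℕ} [hq : Fact q.Prime] (hV : IsPGroup q V) (hV1 : V ≠ ⊥)
    {g : G} {r : ℕ} (hr : r.Prime) (hrq : r ≠ q) (hqg : q ∣ orderOf g) (hrg : r ∣ orderOf g) :
    ∃ y v, orderOf y = r ∧ y ∈ Subgroup.zpowers g ∧ v ∈ V ∧ v ≠ 1 ∧ Commute y v := by
  classical
  set N := orderOf g
  have hN : N ≠ 0 := (orderOf_pos g).ne'
  set a := N.factorization q
  set x' := g ^ (N / q ^ a)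
  set y := g ^ (N / r)
  have ha : a ≠ 0 := (hq.out.factorization_pos_of_dvd hN hqg).ne'
  have hox : orderOf x' = q ^ a := orderOf_pow_orderOf_div hN (Nat.ordProj_dvd _ _)
  have hoy : orderOf y = r := orderOf_pow_orderOf_div hN hrg
  have hxy : Commute x' y := (Commute.refl g).pow_pow _ _
  have hx1 : x' ≠ 1 := fun e => by
    rw [e, orderOf_one] at hox
    exact (Nat.one_lt_pow ha hq.out.one_lt).ne hox
  have hy1 : y ≠ 1 := fun e => hr.ne_one (by rw [← hoy, e, orderOf_one])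
  have hne' : r ≠ q ^ a := fun e => hrq
    ((Nat.prime_dvd_prime_iff_eq hr hq.out).1 (hr.dvd_of_dvd_pow (n := a) (e ▸ dvd_refl r)))
  obtain ⟨w, hwV, hw1, hxw⟩ := exists_commute_of_pgroup V hV hV1 x' ⟨a, hox⟩
  by_contra hcon
  push Not at hcon
  have hfp : ∀ v ∈ V, Commute y v → v = 1 := fun v hv hc =>
    by_contra fun h => hcon y v hoy (pow_mem (Subgroup.mem_zpowers g) _) hv h hc
  have hAxy : P.A x' = P.A y := P.A_eq_of_commute hxy hx1 hy1 (Or.inr (by rw [hox, hoy]; exact hne'))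
  have hyH : y ∈ P.A x' := hAxy ▸ P.mem y
  have hocy : orderOf (w * y * w⁻¹) = r := by
    rw [← hoy]
    have h5 : SemiconjBy w y (w * y * w⁻¹) := by simp [SemiconjBy]
    exact (h5.orderOf_eq).symm
  have hc1 : w * y * w⁻¹ ≠ 1 := fun e => hr.ne_one (by rw [← hocy, e, orderOf_one])
  have hcA : w * y * w⁻¹ ∈ P.A x' :=
    P.A_eq_of_commute (Commute.mul_right (hxw.mul_right hxy) hxw.inv_right) hx1 hc1
      (Or.inr (by rw [hox, hocy]; exact hne')) ▸ P.mem _
  set d := w * y * w⁻¹ * y⁻¹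
  have hdH : d ∈ P.A x' := mul_mem hcA (inv_mem hyH)
  have hdV : d ∈ V := by
    rw [show d = w * (y * w⁻¹ * y⁻¹) by simp only [d]; group]
    exact mul_mem hwV (Subgroup.Normal.conj_mem ‹_› _ (inv_mem hwV) y)
  obtain ⟨i, hi⟩ := IsPGroup.iff_orderOf.1 hV ⟨d, hdV⟩
  rw [Subgroup.orderOf_mk] at hi
  haveI := hnil x' hx1
  have hcd : Commute y d := congrArg Subtype.val (Cfsg.Agent.TypePBasic.commute_of_coprime
    (x := (⟨y, hyH⟩ : P.A x')) (y := ⟨d, hdH⟩) (by
      rw [Subgroup.orderOf_mk, Subgroup.orderOf_mk, hoy, hi]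
      exact Nat.Coprime.pow_right _ ((Nat.coprime_primes hr hq.out).2 hrq))).eq
  have hd1 := hfp d hdV hcd
  refine hw1 (hfp w hwV ?_)
  have h2 : w * y * w⁻¹ = y := mul_inv_eq_one.1 hd1
  exact (mul_inv_eq_iff_eq_mul.1 h2).symm

end Part

end Cfsg.Agent.Solv.Partition
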