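import Cfsg.Agent.Lib.Solv.Partition.Engine
import Cfsg.Agent.Lib.Solv.Partition.Reduce
import Cfsg.Agent.Lib.Char.Burnside

/-!
# No normal abelian subgroup: a simple minimal normal subgroup
-/

set_option autoImplicit false
set_option linter.style.haveILetI false
set_option linter.unusedSectionVars false

namespace Cfsg.Agent.Solv.Partition

universe u

variable {G : Type u} [Group G] [Finite G]

/-- A nonsolvable subgroup has elements of three prime orders. -/
theorem three_primes (K : Subgroup G) (hK : ¬ Group.IsSolvable K) (p q : ℕ) (hp : p.Prime) (hq : q.Prime) :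
    ∃ a ∈ K, (orderOf a).Prime ∧ orderOf a ≠ p ∧ orderOf a ≠ q := by
  by_contra hno
  push Not at hno
  refine hK (Cfsg.Agent.Char.isSolvable_of_two_primes hp hq _ rfl fun r hr hrd => ?_)
  haveI := Fact.mk hr
  obtain ⟨a, ha⟩ := exists_prime_orderOf_dvd_card' r hrd
  rw [← Subgroup.orderOf_coe] at ha
  by_cases h1 : r = p
  · exact Or.inl h1
  · exact Or.inr (by rw [← ha]; exact hno a a.2 (ha ▸ hr) (ha ▸ h1))

namespace Part

variable (P : Part G)

/-- Two commuting subgroups are not both nonsolvable. -/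
theorem solvable_of_commute (hnil : ∀ x : G, x ≠ 1 → Group.IsNilpotent (P.A x)) {K₁ K₂ : Subgroup G}
    (hc : ∀ a ∈ K₁, ∀ b ∈ K₂, Commute a b) (h1 : ¬ Group.IsSolvable K₁) (h2 : ¬ Group.IsSolvable K₂) :
    False := by
  obtain ⟨a₀, ha₀, ha₀p, -, -⟩ := three_primes K₁ h1 2 2 Nat.prime_two Nat.prime_two
  have hne : ∀ a : G, (orderOf a).Prime → a ≠ 1 := fun a hp e => hp.ne_one (by rw [e, orderOf_one])
  have key : ∀ a ∈ K₁, (orderOf a).Prime → P.A a = P.A a₀ := by
    intro a ha hap
    obtain ⟨b, hb, hbp, hb1, hb2⟩ := three_primes K₂ h2 (orderOf a) (orderOf a₀) hap ha₀p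
    exact (P.A_eq_of_commute (hc a ha b hb) (hne a hap) (hne b hbp) (Or.inr hb1)).trans
      (P.A_eq_of_commute (hc a₀ ha₀ b hb) (hne a₀ ha₀p) (hne b hbp) (Or.inr hb2)).symm
  have hle : K₁ ≤ P.A a₀ := by
    intro a ha
    by_cases ha1 : a = 1
    · rw [ha1]; exact one_mem _
    obtain ⟨r, hr, hrd⟩ := Nat.exists_prime_and_dvd (n := orderOf a) fun e => ha1 (orderOf_eq_one_iff.1 e)
    have ho : orderOf (a ^ (orderOf a / r)) = r := orderOf_pow_orderOf_div (orderOf_pos a).ne' hrd
    have h3 := key _ (pow_mem ha _) (ho.symm ▸ hr)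
    rw [P.A_pow (hne _ (ho.symm ▸ hr))] at h3
    exact h3 ▸ P.mem a
  haveI := hnil a₀ (hne a₀ ha₀p)
  haveI : Group.IsSolvable (P.A a₀) := inferInstance
  exact h1 (Group.isSolvable_of_isSolvable_injective (Subgroup.inclusion_injective hle))

/-- The induced partition. -/
theorem exists_restrict (hnil : ∀ x : G, x ≠ 1 → Group.IsNilpotent (P.A x)) (L : Subgroup G) (hL : L ≠ ⊥)
    (hLn : ¬ Group.IsNilpotent L) : ∃ Q : Part L, ∀ x : L, x ≠ 1 → Group.IsNilpotent (Q.A x) := by
  classical
  refine ⟨⟨fun x => if x = 1 then ⊥ else (P.A (x : G)).subgroupOf L, ?_, ?_, ?_, ?_⟩, ?_⟩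
  · intro x
    split_ifs with h
    · exact Subgroup.mem_bot.2 h
    · exact Subgroup.mem_subgroupOf.2 (P.mem _)
  · intro x
    haveI : Nontrivial L := (Subgroup.nontrivial_iff_ne_bot L).2 hL
    split_ifs with h
    · exact bot_ne_top
    · intro e
      rw [Subgroup.subgroupOf_eq_top] at e
      haveI := hnil (x : G) (fun e' => h (Subtype.ext e'))
      exact hLn ((Group.isNilpotent_congr (Subgroup.subgroupOfEquivOfLe e)).1 inferInstance)
  · intro x y hy hy1
    by_cases hx : x = 1
    · rw [if_pos hx, Subgroup.mem_bot] at hy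
      exact absurd hy hy1
    · rw [if_neg hx, Subgroup.mem_subgroupOf] at hy
      rw [if_neg hx, if_neg hy1, P.eq hy (fun e => hy1 (Subtype.ext e))]
  · intro g x
    by_cases hx : x = 1
    · rw [hx, mul_one, mul_inv_cancel, if_pos rfl, Subgroup.map_bot]
    · rw [if_neg hx, if_neg (fun e => hx (conj_eq_one_iff.1 e)), Subgroup.coe_mul,
        Subgroup.coe_mul, Subgroup.coe_inv, P.conj]
      ext y
      rw [Subgroup.mem_subgroupOf, Subgroup.mem_map_equiv, Subgroup.mem_map_equiv, Subgroup.mem_subgroupOf]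
      simp
  · intro x hx
    show Group.IsNilpotent (if x = 1 then ⊥ else (P.A (x : G)).subgroupOf L : Subgroup L)
    rw [if_neg hx]
    haveI := hnil (x : G) (fun e => hx (Subtype.ext e))
    refine Subgroup.isNilpotent_of_ker_le_center (L.subtype.subgroupComap (P.A (x : G))) ?_
    intro a ha
    have h1 : ((a : L) : G) = 1 := congrArg (fun t : P.A (x : G) => (t : G)) (MonoidHom.mem_ker.1 ha)
    rw [show a = 1 from Subtype.ext (Subtype.ext h1)]
    exact one_mem _

/-- A simple normal subgroup with trivial centraliser. -/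
theorem exists_simple (hnil : ∀ x : G, x ≠ 1 → Group.IsNilpotent (P.A x)) [Nontrivial G]
    (hab : ∀ V : Subgroup G, V.Normal → IsMulCommutative V → V = ⊥) :
    ∃ L : Subgroup G, L.Normal ∧ IsSimpleGroup L ∧ ¬ IsMulCommutative L ∧
      Subgroup.centralizer (L : Set G) = ⊥ ∧ ∃ Q : Part L, ∀ x : L, x ≠ 1 → Group.IsNilpotent (Q.A x) := by
  classical
  have hns : ∀ K : Subgroup G, K.Normal → K ≠ ⊥ → ¬ Group.IsSolvable K := by
    intro K hK hK1 hs
    haveI := hK
    obtain ⟨N, hN, hN1, hNK, hNm⟩ := Cfsg.Agent.Solv.exists_minimal_normal_le K hK1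
    haveI := hN
    haveI : Group.IsSolvable N := Group.isSolvable_of_isSolvable_injective (Subgroup.inclusion_injective hNK)
    exact hN1 (hab N hN (Cfsg.Agent.Solv.minimal_normal_elementaryAbelian N inferInstance hN1 hNm).1)
  obtain ⟨L, hLn, hL1, hLmin⟩ := Cfsg.Agent.Solv.exists_minimal_normal (G := G)
  haveI := hLn
  have hLs := hns L hLn hL1
  have hC : Subgroup.centralizer (L : Set G) = ⊥ := by
    by_contra hC1
    exact P.solvable_of_commute hnil
      (fun a ha b hb => (Subgroup.mem_centralizer_iff.1 hb a ha)) hLs (hns _ inferInstance hC1)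
  have hcomm : ¬ IsMulCommutative L := fun h => hL1 (hab L hLn h)
  haveI hLnt : Nontrivial L := (Subgroup.nontrivial_iff_ne_bot L).2 hL1
  refine ⟨L, hLn, ?_, hcomm, hC, P.exists_restrict hnil L hL1 fun h => hLs ?_⟩
  · refine { eq_bot_or_eq_top_of_normal := fun K₀ hK₀ => ?_ }
    by_contra hcon
    push Not at hcon
    obtain ⟨K', hK'n, hK'1, hK'le, hK'min⟩ := @Cfsg.Agent.Solv.exists_minimal_normal_le L _ _ K₀ hK₀ hcon.1
    have hK'top : K' ≠ ⊤ := fun e => hcon.2 (top_le_iff.1 (e ▸ hK'le))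
    set K := K'.map L.subtype
    have hKL : K ≤ L := Subgroup.map_subtype_le _
    have hKn : ∀ l ∈ L, ∀ k ∈ K, l * k * l⁻¹ ∈ K := by
      rintro l hl _ ⟨k, hk, rfl⟩
      exact ⟨⟨l, hl⟩ * k * ⟨l, hl⟩⁻¹, hK'n.conj_mem k hk ⟨l, hl⟩, by simp⟩
    have hKmin : ∀ T : Subgroup G, T ≤ K → (∀ l ∈ L, ∀ t ∈ T, l * t * l⁻¹ ∈ T) → T = ⊥ ∨ T = K := by
      intro T hT hTn
      rcases hK'min (T.subgroupOf L) ⟨fun t ht l => by
          simpa [Subgroup.mem_subgroupOf] using hTn l l.2 t ht⟩
          (fun t ht => by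
            obtain ⟨k, hk, e⟩ := hT (Subgroup.mem_subgroupOf.1 ht)
            rwa [← Subtype.ext e]) with h | h
      · refine Or.inl (le_bot_iff.1 fun t ht => ?_)
        have h1 : (⟨t, hKL (hT ht)⟩ : L) ∈ T.subgroupOf L := Subgroup.mem_subgroupOf.2 ht
        rw [h, Subgroup.mem_bot] at h1
        exact Subgroup.mem_bot.2 (congrArg Subtype.val h1)
      · refine Or.inr ?_
        show T = K'.map L.subtype
        rw [← h, Subgroup.subgroupOf_map_subtype, inf_eq_left.2 (hT.trans hKL)]
    -- conjugates of `K` are equal or commute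
    have hpair : ∀ g : G, ¬ (∀ a ∈ K, g * a * g⁻¹ ∈ K) → ∀ a ∈ K, ∀ b ∈ K, Commute a (g * b * g⁻¹) := by
      intro g hg a ha b hb
      set T := K ⊓ K.map (MulAut.conj g).toMonoidHom
      have hT : T = ⊥ := by
        refine (hKmin T inf_le_left fun l hl t ht => ⟨hKn l hl t ht.1, ?_⟩).resolve_right ?_
        · obtain ⟨k, hk, rfl⟩ := ht.2
          exact ⟨g⁻¹ * l * g * k * (g⁻¹ * l * g)⁻¹,
            hKn _ (by simpa using hLn.conj_mem l hl g⁻¹) k hk, by simp; group⟩
        · intro e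
          refine hg fun c hc => ?_
          have hle : K ≤ K.map (MulAut.conj g).toMonoidHom := inf_eq_left.1 e
          have hcard : Nat.card (K.map (MulAut.conj g).toMonoidHom) = Nat.card K :=
            Nat.card_congr (K.equivMapOfInjective _ (MulAut.conj g).injective).toEquiv.symm
          rw [Subgroup.eq_of_le_of_card_ge hle hcard.le]
          exact ⟨c, hc, by simp⟩
      have hgb : g * b * g⁻¹ ∈ K.map (MulAut.conj g).toMonoidHom := ⟨b, hb, by simp⟩
      have h1 : a * (g * b * g⁻¹) * a⁻¹ * (g * b * g⁻¹)⁻¹ ∈ T := by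
        constructor
        · show a * (g * b * g⁻¹) * a⁻¹ * (g * b * g⁻¹)⁻¹ ∈ K
          rw [show a * (g * b * g⁻¹) * a⁻¹ * (g * b * g⁻¹)⁻¹ =
            a * ((g * b * g⁻¹) * a⁻¹ * (g * b * g⁻¹)⁻¹) by group]
          exact mul_mem ha (hKn _ (hLn.conj_mem b (hKL hb) g) _ (inv_mem ha))
        · show a * (g * b * g⁻¹) * a⁻¹ * (g * b * g⁻¹)⁻¹ ∈ K.map (MulAut.conj g).toMonoidHom
          refine mul_mem ⟨g⁻¹ * a * g * b * (g⁻¹ * a * g)⁻¹,
            hKn _ (by simpa using hLn.conj_mem a (hKL ha) g⁻¹) b hb, by simp; group⟩ (inv_mem hgb)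
      rw [hT, Subgroup.mem_bot] at h1
      exact mul_inv_eq_iff_eq_mul.1 (mul_inv_eq_one.1 h1)
    have hK1 : K ≠ ⊥ := fun e =>
      hK'1 ((Subgroup.map_eq_bot_iff_of_injective _ L.subtype_injective).1 e)
    have hex : ∃ g : G, ¬ ∀ a ∈ K, g * a * g⁻¹ ∈ K := by
      by_contra hall
      push Not at hall
      rcases hLmin K ⟨fun a ha g => hall g a ha⟩ hKL with h | h
      · exact hK1 h
      · refine hK'top (eq_top_iff.2 fun l _ => ?_)
        obtain ⟨k, hk, e⟩ := (h.symm ▸ l.2 : (l : G) ∈ K)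
        rwa [← Subtype.ext e]
    by_cases hKs : Group.IsSolvable K
    · haveI : Group.IsSolvable K' :=
        Group.isSolvable_of_isSolvable_injective (f := (K'.equivMapOfInjective _ L.subtype_injective).toMonoidHom)
          (K'.equivMapOfInjective _ L.subtype_injective).injective
      haveI := hK'n
      have hKc : IsMulCommutative K' :=
        (Cfsg.Agent.Solv.minimal_normal_elementaryAbelian K' inferInstance hK'1 hK'min).1
      have hKc' : ∀ a ∈ K, ∀ b ∈ K, Commute a b := by
        rintro _ ⟨a, ha, rfl⟩ _ ⟨b, hb, rfl⟩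
        exact congrArg (fun t : K' => ((t : L) : G)) (hKc.is_comm.comm ⟨a, ha⟩ ⟨b, hb⟩)
      set S : Set G := {x | ∃ g : G, ∃ a ∈ K, x = g * a * g⁻¹}
      have hSc : ∀ x ∈ S, ∀ y ∈ S, x * y = y * x := by
        rintro _ ⟨g, a, ha, rfl⟩ _ ⟨h, b, hb, rfl⟩
        have key : Commute a ((g⁻¹ * h) * b * (g⁻¹ * h)⁻¹) := by
          by_cases hn : ∀ c ∈ K, (g⁻¹ * h) * c * (g⁻¹ * h)⁻¹ ∈ K
          · exact hKc' a ha _ (hn b hb)
          · exact hpair _ hn a ha b hb
        have h2 := (key.map (MulAut.conj g).toMonoidHom).eq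
        simpa [mul_assoc] using h2
      have hSn : (Subgroup.closure S).Normal := by
        refine ⟨fun x hx g => ?_⟩
        induction hx using Subgroup.closure_induction with
        | mem y hy =>
          obtain ⟨h, a, ha, rfl⟩ := hy
          exact Subgroup.subset_closure ⟨g * h, a, ha, by group⟩
        | one => simp
        | mul y z _ _ hy hz => simpa [mul_assoc] using mul_mem hy hz
        | inv y _ hy => simpa [mul_assoc] using inv_mem hy
      have := hab _ hSn (Subgroup.isMulCommutative_closure hSc)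
      refine hK1 (le_bot_iff.1 (this ▸ fun a ha => Subgroup.subset_closure ⟨1, a, ha, by simp⟩))
    · obtain ⟨g, hg⟩ := hex
      refine P.solvable_of_commute hnil (K₁ := K) (K₂ := K.map (MulAut.conj g).toMonoidHom) ?_ hKs ?_
      · rintro a ha _ ⟨b, hb, rfl⟩
        exact hpair g hg a ha b hb
      · exact fun h => hKs (Group.isSolvable_of_isSolvable_injective
          (f := (K.equivMapOfInjective (MulAut.conj g).toMonoidHom (MulAut.conj g).injective).toMonoidHom)
          (K.equivMapOfInjective (MulAut.conj g).toMonoidHom (MulAut.conj g).injective).injective)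
  · haveI := h
    infer_instance

end Part

end Cfsg.Agent.Solv.Partition
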