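import Cfsg.Agent.Lib.Solv.Partition.Invol
import Cfsg.Agent.Lib.Char.BSW.DihedralWall
import Cfsg.Agent.Lib.Fusion.ThompsonTransferCyclic
import Cfsg.Agent.Lib.Fusion.Dihedral

/-!
# An involution centraliser that is generalised dihedral
-/

set_option autoImplicit false
set_option linter.style.haveILetI false
set_option linter.unusedSectionVars false

namespace Cfsg.Agent.Solv.Partition

universe u

variable {G : Type u} [Group G] [Finite G]

theorem commutator_eq_top_of_simple [IsSimpleGroup G] (hna : ∃ a b : G, a * b ≠ b * a) : commutator G = ⊤ := by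
  obtain ⟨a, b, hab⟩ := hna
  rcases (commutator_def G ▸ (inferInstance : (commutator G).Normal) : (commutator G).Normal).eq_bot_or_eq_top with e | e
  · exact absurd (commutatorElement_eq_one_iff_mul_comm.1
      (Subgroup.mem_bot.1 (e ▸ Subgroup.commutator_mem_commutator (Subgroup.mem_top a) (Subgroup.mem_top b)))) hab
  · exact e

theorem four_le_card_field [IsSimpleGroup G] (hna : ∃ a b : G, a * b ≠ b * a) {F : Type} [Field F] [Fintype F]
    (e : G ≃* Matrix.ProjectiveSpecialLinearGroup (Fin 2) F) : 4 ≤ Fintype.card F := by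
  classical
  by_contra hlt
  refine Cfsg.Agent.Char.BSW.not_simple_of_solvable hna ?_
  refine Cfsg.Agent.Char.isSolvable_of_two_primes Nat.prime_two Nat.prime_three (Nat.card G) rfl fun r hr hrd => ?_
  have h2 := Fintype.one_lt_card (α := F)
  have h1 : r ∣ Nat.card (Matrix.SpecialLinearGroup (Fin 2) F) :=
    hrd.trans ((Nat.card_congr e.toEquiv).symm ▸ Subgroup.card_quotient_dvd_card _)
  have h3 : r ∣ Nat.card (GL (Fin 2) F) := h1.trans (Subgroup.card_dvd_of_injective
    Matrix.SpecialLinearGroup.toGL fun x y h => Subtype.ext (congrArg Units.val h))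
  rw [Matrix.card_GL_field, Fin.prod_univ_two] at h3
  simp only [Fin.val_zero, Fin.val_one, pow_zero, pow_one] at h3
  interval_cases hc : Fintype.card F
  · have h6 : r ∣ 2 * 3 := by simpa using h3
    rcases hr.dvd_mul.1 h6 with h | h
    · exact Or.inl ((Nat.prime_dvd_prime_iff_eq hr Nat.prime_two).1 h)
    · exact Or.inr ((Nat.prime_dvd_prime_iff_eq hr Nat.prime_three).1 h)
  · have h6 : r ∣ 2 ^ 4 * 3 := by simpa using h3
    rcases hr.dvd_mul.1 h6 with h | h
    · exact Or.inl ((Nat.prime_dvd_prime_iff_eq hr Nat.prime_two).1 (hr.dvd_of_dvd_pow h))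
    · exact Or.inr ((Nat.prime_dvd_prime_iff_eq hr Nat.prime_three).1 h)

namespace Part

variable (P : Part G)

theorem psl_of_abelian_by_two [IsSimpleGroup G] (hna : ∃ a b : G, a * b ≠ b * a) (S : Sylow 2 G) {z : G}
    (hz : orderOf z = 2) (hzS : z ∈ (S : Subgroup G)) (hzZ : ∀ s ∈ (S : Subgroup G), s * z = z * s)
    {c₀ b₀ : G} (hc₀ : Commute c₀ z) (hc₀A : c₀ ∉ P.A z) (hb₀ : Commute b₀ z) (hb₀A : b₀ ∈ P.A z)
    (hb₀2 : b₀ * b₀ ≠ 1) :
    ∃ (F : Type) (_ : Field F) (_ : Fintype F), 4 ≤ Fintype.card F ∧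
      Nonempty (G ≃* Matrix.ProjectiveSpecialLinearGroup (Fin 2) F) := by
  classical
  haveI := Fintype.ofFinite G
  haveI : Fact (Nat.Prime 2) := ⟨Nat.prime_two⟩
  set H := P.A z
  have hz1 := ne_one_of_orderOf_two hz
  have hzH : z ∈ H := P.mem z
  have hcN := P.normalizes_of_commute (g := c₀) (P.mem z) hz1 hc₀
  have hc2 := mul_self_eq_one (P.sq_of_commute hz hc₀ hc₀A)
  have hinv0 : ∀ h ∈ H, c₀ * h * c₀⁻¹ = h⁻¹ := by
    intro h hh
    have hh' : c₀ * h * c₀⁻¹ ∈ H := (Subgroup.mem_normalizer_iff.1 hcN h).1 hh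
    have ho := P.coset_pow Nat.prime_two hcN hc₀A (by rw [pow_two, hc2]; exact one_mem _) hh
    have h2 := mul_self_eq_one ho
    calc c₀ * h * c₀⁻¹ = h⁻¹ * (h * c₀ * (h * c₀)) * (c₀ * c₀)⁻¹ := by group
      _ = h⁻¹ := by rw [h2, hc2]; group
  have hHab : ∀ a ∈ H, ∀ b ∈ H, Commute a b := by
    intro a ha b hb
    have h1 := hinv0 (a * b) (mul_mem ha hb)
    rw [show c₀ * (a * b) * c₀⁻¹ = (c₀ * a * c₀⁻¹) * (c₀ * b * c₀⁻¹) by group, hinv0 a ha, hinv0 b hb,
      ← mul_inv_rev, inv_inj] at h1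
    exact h1.symm
  have hHC : ∀ a ∈ H, Commute a z := fun a ha => hHab a ha z hzH
  have hout : ∀ w, Commute w z → w ∉ H → ∀ h ∈ H, w * h * w⁻¹ = h⁻¹ := fun w hw hwH h hh =>
    P.inverts hz hw hwH hh (hHC h hh)
  have hidx : ∀ w w', Commute w z → w ∉ H → Commute w' z → w' ∉ H → w * w' ∈ H := by
    intro w w' hw hwH hw' hw'H
    by_contra h
    refine hb₀2 ?_
    have h1 := hout (w * w') (hw.mul_left hw') h b₀ hb₀A
    rw [show w * w' * b₀ * (w * w')⁻¹ = w * (w' * b₀ * w'⁻¹) * w⁻¹ by group, hout w' hw' hw'H b₀ hb₀A,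
      hout w hw hwH _ (inv_mem hb₀A), inv_inv] at h1
    exact mul_eq_one_iff_eq_inv.2 h1
  have hSC : ∀ s ∈ (S : Subgroup G), Commute s z := hzZ
  have hSH : ∃ c ∈ (S : Subgroup G), c ∉ H := by
    by_contra hno
    push Not at hno
    have hc : c₀ ∈ (S : Subgroup G) := by
      have hp : IsPGroup 2 (Subgroup.zpowers c₀) := IsPGroup.of_card (n := 1)
        (by rw [Nat.card_zpowers, P.sq_of_commute hz hc₀ hc₀A]; rfl)
      have hN : Subgroup.zpowers c₀ ≤ Subgroup.normalizer ((S : Subgroup G) : Set G) := by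
        refine Subgroup.zpowers_le.2 (Subgroup.mem_normalizer_iff.2 fun a => ⟨fun ha => ?_, fun ha => ?_⟩)
        · rw [hinv0 a (hno a ha)]; exact inv_mem ha
        · have h1 : c₀ * (c₀ * a * c₀⁻¹) * c₀⁻¹ = (c₀ * a * c₀⁻¹)⁻¹ := hinv0 _ (hno _ ha)
          rw [show c₀ * (c₀ * a * c₀⁻¹) * c₀⁻¹ = (c₀ * c₀) * a * (c₀ * c₀)⁻¹ by group, hc2, one_mul, inv_one,
            mul_one] at h1
          exact h1 ▸ inv_mem ha
      exact (S.is_maximal' (hp.to_sup_of_normal_right' S.isPGroup' hN) le_sup_right) ▸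
        Subgroup.mem_sup_left (Subgroup.mem_zpowers c₀)
    exact hc₀A (hno c₀ hc)
  obtain ⟨c, hcS, hcH⟩ := hSH
  have hcz := hSC c hcS
  have hco : orderOf c = 2 := P.sq_of_commute hz hcz hcH
  set B := (S : Subgroup G) ⊓ H
  have hBS : B ≤ (S : Subgroup G) := inf_le_left
  have hBidx : (B.subgroupOf (S : Subgroup G)).index = 2 := by
    rw [Subgroup.index_eq_two_iff]
    refine ⟨⟨c, hcS⟩, fun s => ?_⟩
    simp only [Subgroup.mem_subgroupOf, Subgroup.coe_mul, B]
    by_cases hs : (s : G) ∈ H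
    · exact Or.inr ⟨⟨s.2, hs⟩, fun h => hcH ((H.mul_mem_cancel_left hs).1 h.2)⟩
    · exact Or.inl ⟨⟨mul_mem s.2 hcS, hidx _ _ (hSC _ s.2) hs hcz hcH⟩, fun h => hs h.2⟩
  -- only one involution in `H`
  have huniq : ∀ v ∈ H, orderOf v = 2 → v = z := by
    intro v hv hvo
    by_contra hvz
    haveI hBn : (B.subgroupOf (S : Subgroup G)).Normal := Subgroup.normal_of_index_eq_two hBidx
    haveI : Fact (Nat.Prime 2) := ⟨Nat.prime_two⟩
    have hcyc : IsCyclic (↥(S : Subgroup G) ⧸ B.subgroupOf (S : Subgroup G)) :=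
      isCyclic_of_prime_card (p := 2) (by rw [← Subgroup.index_eq_card]; exact hBidx)
    obtain ⟨g, hg, -, -⟩ := Cfsg.Agent.Fusion.extremal_transfer_cyclic (commutator_eq_top_of_simple hna) S B hBS hcyc
      hco hcS (fun h => hcH h.2)
    set z' := g * c * g⁻¹
    have hz'o : orderOf z' = 2 := by
      rw [← hco]; exact orderOf_injective (MulAut.conj g).toMonoidHom (MulAut.conj g).injective c
    have hAz' : P.A z' = H := P.eq hg.2 (ne_one_of_orderOf_two hz'o)
    have hout' : ∀ w, Commute w z' → w ∉ H → ∀ h ∈ H, w * h * w⁻¹ = h⁻¹ := fun w hw hwH h hh =>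
      P.inverts hz'o hw (by rw [hAz']; exact hwH) (by rw [hAz']; exact hh) (hHab h hh z' hg.2)
    have hv2 := mul_self_eq_one hvo
    have hzz := mul_self_eq_one hz
    have hcomm : ∀ a ∈ H, a * a = 1 → Commute (g * a * g⁻¹) z' := by
      intro a ha ha2
      have h1 := hout c hcz hcH a ha
      rw [inv_eq_of_mul_eq_one_right ha2] at h1
      have h2 : Commute a c := (mul_inv_eq_iff_eq_mul.1 h1).symm
      exact h2.map (MulAut.conj g).toMonoidHom
    have hback : ∀ a ∈ H, a ≠ 1 → g * a * g⁻¹ ∉ H := by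
      intro a ha ha1 h
      have hgN := P.normalizes_of (g := g) ha ha1 h
      exact hcH ((Subgroup.mem_normalizer_iff.1 hgN c).2 hg.2)
    have hvzH : v * z ∈ H := mul_mem hv hzH
    have hvz1 : v * z ≠ 1 := fun e =>
      hvz ((eq_inv_of_mul_eq_one_left e).trans (inv_eq_of_mul_eq_one_right hzz))
    have hvz2 : (v * z) * (v * z) = 1 := by
      rw [show v * z * (v * z) = v * (z * v) * z by group, (hHab z hzH v hv).eq,
        show v * (v * z) * z = (v * v) * (z * z) by group, hv2, hzz, one_mul]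
    have h1 := hout' _ (hcomm v hv hv2) (hback v hv (ne_one_of_orderOf_two hvo)) b₀ hb₀A
    have h2 := hout' _ (hcomm z hzH hzz) (hback z hzH hz1) b₀ hb₀A
    have h3 := hout' _ (hcomm _ hvzH hvz2) (hback _ hvzH hvz1) b₀ hb₀A
    rw [show g * (v * z) * g⁻¹ * b₀ * (g * (v * z) * g⁻¹)⁻¹ =
      (g * v * g⁻¹) * ((g * z * g⁻¹) * b₀ * (g * z * g⁻¹)⁻¹) * (g * v * g⁻¹)⁻¹ by group, h2,
      hout' _ (hcomm v hv hv2) (hback v hv (ne_one_of_orderOf_two hvo)) _ (inv_mem hb₀A), inv_inv] at h3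
    exact hb₀2 (mul_eq_one_iff_eq_inv.2 h3)
  -- dihedral Sylow subgroup
  have hBcyc : IsCyclic B := by
    letI : CommGroup B :=
      { (inferInstance : Group B) with mul_comm := fun a b => Subtype.ext (hHab a a.2.2 b b.2.2).eq }
    haveI := Fintype.ofFinite B
    refine isCyclic_of_card_pow_eq_one_le fun n hn => ?_
    have hB2 : IsPGroup 2 B := S.isPGroup'.to_le hBS
    obtain ⟨m, hm⟩ := IsPGroup.iff_card.1 hB2
    -- count roots of unity by induction on the exponent
    have key : ∀ j : ℕ, (Finset.univ.filter fun a : B => a ^ 2 ^ j = 1).card ≤ 2 ^ j := by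
      intro j
      induction j with
      | zero => simp [Finset.filter_eq']
      | succ j ih =>
        set S₁ := Finset.univ.filter fun a : B => a ^ 2 ^ (j + 1) = 1
        set S₀ := Finset.univ.filter fun a : B => a ^ 2 ^ j = 1
        have hmaps : ∀ a ∈ S₁, a ^ 2 ∈ S₀ := fun a ha => by
          rw [Finset.mem_filter] at ha ⊢
          refine ⟨Finset.mem_univ _, ?_⟩
          rw [← pow_mul, ← pow_succ']; exact ha.2
        have hfib : ∀ b ∈ S₀, (S₁.filter fun a => a ^ 2 = b).card ≤ 2 := by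
          intro b _
          by_cases hex : ∃ a₀, a₀ ^ 2 = b
          · obtain ⟨a₀, ha₀⟩ := hex
            refine (Finset.card_le_card (t := ({a₀, a₀ * ⟨z, hzS, hzH⟩} : Finset B)) fun a ha => ?_).trans
              Finset.card_le_two
            rw [Finset.mem_filter] at ha
            have h1 : (a₀⁻¹ * a) ^ 2 = 1 := by rw [mul_pow, inv_pow, ha₀, ha.2, inv_mul_cancel]
            simp only [Finset.mem_insert, Finset.mem_singleton]
            by_cases h2 : a₀⁻¹ * a = 1
            · exact Or.inl (inv_mul_eq_one.1 h2).symm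
            · refine Or.inr ?_
              have h3 : ((a₀⁻¹ * a : B) : G) = z := huniq _ (a₀⁻¹ * a).2.2 (orderOf_eq_prime
                (by rw [← Subgroup.coe_pow, h1, Subgroup.coe_one]) (fun e => h2 (Subtype.ext e)))
              rw [show (⟨z, hzS, hzH⟩ : B) = a₀⁻¹ * a from Subtype.ext h3.symm, mul_inv_cancel_left]
          · rw [Finset.card_eq_zero.2 (Finset.filter_eq_empty_iff.2 fun a _ h => hex ⟨a, h⟩)]
            omega
        refine (Finset.card_le_mul_card_image_of_maps_to hmaps 2 hfib).trans ?_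
        rw [pow_succ']
        exact Nat.mul_le_mul_left 2 ih
    -- reduce to powers of two
    obtain ⟨i, -, hi⟩ := (Nat.dvd_prime_pow Nat.prime_two).1
      (Nat.gcd_dvd_right n (2 ^ m))
    refine le_trans (le_trans (Finset.card_le_card (t := Finset.univ.filter fun a : B => a ^ 2 ^ i = 1) ?_) (key i)) ?_
    · intro a ha
      rw [Finset.mem_filter] at ha ⊢
      refine ⟨Finset.mem_univ _, ?_⟩
      rw [← hi]
      exact pow_gcd_eq_one.2 ⟨ha.2, by rw [← hm]; exact pow_card_eq_one'⟩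
    · rw [← hi]
      exact Nat.gcd_le_left _ hn
  obtain ⟨⟨b, hb⟩, hbgen⟩ := hBcyc
  have hcc := mul_self_eq_one hco
  have hgen : (S : Subgroup G) = Subgroup.closure ({c, c * b} : Set G) := by
    refine le_antisymm (fun s hs => ?_) ((Subgroup.closure_le _).2 ?_)
    · have hbmem : b ∈ Subgroup.closure ({c, c * b} : Set G) := by
        have := mul_mem (Subgroup.subset_closure (Set.mem_insert c _) : c ∈ Subgroup.closure ({c, c * b} : Set G))
          (Subgroup.subset_closure (Set.mem_insert_of_mem c rfl))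
        rwa [← mul_assoc, hcc, one_mul] at this
      have hB : ∀ a ∈ B, a ∈ Subgroup.closure ({c, c * b} : Set G) := by
        intro a ha
        obtain ⟨k, hk⟩ := hbgen ⟨a, ha⟩
        have : b ^ k = a := congrArg Subtype.val hk
        rw [← this]
        exact zpow_mem hbmem k
      by_cases hsH : s ∈ H
      · exact hB s ⟨hs, hsH⟩
      · have h1 := hB (s * c) ⟨mul_mem hs hcS, hidx s c (hSC s hs) hsH hcz hcH⟩
        have h2 := mul_mem h1 (Subgroup.subset_closure (Set.mem_insert c _))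
        rwa [mul_assoc, hcc, mul_one] at h2
    · rintro a (rfl | rfl)
      · exact hcS
      · exact mul_mem hcS hb.1
  have hne : c ≠ c * b := by
    intro e
    have hb1 : b = 1 := mul_eq_left.1 e.symm
    obtain ⟨k, hk⟩ := hbgen ⟨z, hzS, hzH⟩
    have h1 : b ^ k = z := congrArg Subtype.val hk
    rw [hb1, one_zpow] at h1
    exact hz1 h1.symm
  obtain ⟨e⟩ := Cfsg.Agent.Fusion.closure_pair_equiv_dihedral (x := c) (y := c * b) hco
    (P.sq_of_commute hz (hcz.mul_left (hHC b hb.2)) fun h =>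
      hcH ((H.mul_mem_cancel_right hb.2).1 h)) hne
  rw [← mul_assoc, hcc, one_mul] at e
  have hn2 : 2 ≤ orderOf b := by
    have := orderOf_pos b
    by_contra hlt
    exact hne (by rw [orderOf_eq_one_iff.1 (by omega : orderOf b = 1), mul_one])
  set O := (Cfsg.oddCore (Subgroup.centralizer ({z} : Set G))).map (Subgroup.centralizer ({z} : Set G)).subtype with hO
  have hOH : ∀ y ∈ O, y ∈ H ∧ Odd (orderOf y) ∧ Commute y z := by
    rintro _ ⟨v, hv, rfl⟩
    have hvz : Commute (v : G) z := Subgroup.mem_centralizer_singleton_iff.1 v.2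
    have hodd : Odd (orderOf (v : G)) := by
      rw [Subgroup.orderOf_coe]
      exact Nat.coprime_two_right.1 (Cfsg.Agent.Fusion.mem_pPrimeCore_orderOf hv)
    refine ⟨by_contra fun hvH => ?_, hodd, hvz⟩
    rw [P.sq_of_commute hz hvz hvH] at hodd
    exact absurd hodd (by decide)
  have hcentO : ∀ s ∈ (S : Subgroup G), O ≠ ⊥ → (s ∈ Subgroup.centralizer (O : Set G) ↔ s ∈ H) := by
    intro s hs hO1
    constructor
    · intro hsC
      by_contra hsH
      obtain ⟨y, hy, hy1⟩ := (Subgroup.nontrivial_iff_exists_ne_one O).1 ((Subgroup.nontrivial_iff_ne_bot O).2 hO1)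
      obtain ⟨hyH, hyodd, -⟩ := hOH y hy
      have h1 := hout s (hSC s hs) hsH y hyH
      rw [(Subgroup.mem_centralizer_iff.1 hsC y hy).symm, mul_inv_cancel_right] at h1
      have h2 : orderOf y ∣ 2 := orderOf_dvd_of_pow_eq_one (by rw [pow_two]; exact mul_eq_one_iff_eq_inv.2 h1)
      rcases (Nat.dvd_prime Nat.prime_two).1 h2 with h3 | h3
      · exact hy1 (orderOf_eq_one_iff.1 h3)
      · rw [h3] at hyodd; exact absurd hyodd (by decide)
    · intro hsH
      exact Subgroup.mem_centralizer_iff.2 fun y hy => (hHab y (hOH y hy).1 s hsH).eq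
  have ha : O ≠ ⊥ → IsCyclic ((S : Subgroup G) ⊓ Subgroup.centralizer (O : Set G) : Subgroup G) ∧
      ((S : Subgroup G) ⊓ Subgroup.centralizer (O : Set G)).relIndex (S : Subgroup G) = 2 := by
    intro hO1
    have e1 : (S : Subgroup G) ⊓ Subgroup.centralizer (O : Set G) = B := by
      ext s
      exact ⟨fun h => ⟨h.1, (hcentO s h.1 hO1).1 h.2⟩, fun h => ⟨h.1, (hcentO s h.1 hO1).2 h.2⟩⟩
    rw [e1]
    exact ⟨⟨⟨b, hb⟩, hbgen⟩, hBidx⟩
  have hb' : ∀ s ∈ (S : Subgroup G), s ∉ Subgroup.centralizer (O : Set G) → ∀ y ∈ O, s * y * s⁻¹ = y⁻¹ := by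
    intro s hs hsC y hy
    refine hout s (hSC s hs) (fun hsH => hsC ?_) y (hOH y hy).1
    exact Subgroup.mem_centralizer_iff.2 fun y hy => (hHab y (hOH y hy).1 s hsH).eq
  have hc' : ∀ Y : Subgroup G, Y ≤ O → Y ≠ ⊥ →
      Subgroup.normalizer (Y : Set G) ≤ Subgroup.centralizer ({z} : Set G) := by
    intro Y hY hY1 g hg
    obtain ⟨y, hy, hy1⟩ := (Subgroup.nontrivial_iff_exists_ne_one Y).1 ((Subgroup.nontrivial_iff_ne_bot Y).2 hY1)
    have hgy := (Subgroup.mem_normalizer_iff.1 hg y).1 hy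
    have hgN := P.normalizes_of (g := g) (hOH y (hY hy)).1 hy1 (hOH _ (hY hgy)).1
    have h1 := huniq _ ((Subgroup.mem_normalizer_iff.1 hgN z).1 hzH)
      (by rw [← hz]; exact orderOf_injective (MulAut.conj g).toMonoidHom (MulAut.conj g).injective z)
    exact Subgroup.mem_centralizer_singleton_iff.2 (mul_inv_eq_iff_eq_mul.1 h1)
  obtain ⟨F, i1, i2, -, ⟨iso⟩⟩ := Cfsg.Agent.Char.BSW.psl_of_dihedral_wall S hn2
    ((MulEquiv.subgroupCongr hgen).trans e) hz hzS hzZ O hO ha hb' hc'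
  exact ⟨F, i1, i2, four_le_card_field hna iso, ⟨iso⟩⟩

end Part

end Cfsg.Agent.Solv.Partition
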