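import Cfsg.Agent.Lib.Solv.Partition.Embedded
import Cfsg.Agent.Lib.Solv.Partition.DihedralCase
import Cfsg.Agent.Lib.Solv.Partition.Engine

/-!
# Simple groups with a partition
-/

set_option autoImplicit false
set_option linter.style.haveILetI false
set_option linter.unusedSectionVars false

namespace Cfsg.Agent.Solv.Partition

universe u

variable {G : Type u} [Group G] [Finite G]

/-- A 2-element of `PSL₃(F)`, `F` of order four, whose square is not one. -/
theorem exists_not_invol {F : Type} [Field F] [Fintype F] (hF : Fintype.card F = 4) :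
    ∃ g : Matrix.ProjectiveSpecialLinearGroup (Fin 3) F, g ^ 2 ^ 2 = 1 ∧ g * g ≠ 1 := by
  classical
  have h2 : (2 : F) = 0 := by
    have h := FiniteField.cast_card_eq_zero F
    rw [hF, show ((4 : ℕ) : F) = 2 * 2 by norm_num] at h
    exact mul_self_eq_zero.1 h
  let m : Matrix (Fin 3) (Fin 3) F := !![1, 1, 0; 0, 1, 1; 0, 0, 1]
  have hdet : m.det = 1 := by
    rw [Matrix.det_fin_three]
    simp [m]
  let a : Matrix.SpecialLinearGroup (Fin 3) F := ⟨m, hdet⟩
  have hsq : ((a * a : Matrix.SpecialLinearGroup (Fin 3) F) : Matrix (Fin 3) (Fin 3) F) =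
      !![1, 0, 1; 0, 1, 0; 0, 0, 1] := by
    show m * m = _
    ext i j
    fin_cases i <;> fin_cases j <;> simp [m, Matrix.mul_apply, Fin.sum_univ_three] <;>
      linear_combination h2
  have h4 : (a * a) * (a * a) = 1 := by
    apply Subtype.ext
    rw [Matrix.SpecialLinearGroup.coe_mul, hsq, Matrix.SpecialLinearGroup.coe_one]
    ext i j
    fin_cases i <;> fin_cases j <;> simp [Matrix.mul_apply, Fin.sum_univ_three] <;>
      linear_combination h2
  refine ⟨QuotientGroup.mk a, ?_, ?_⟩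
  · rw [← QuotientGroup.mk_pow, show a ^ 2 ^ 2 = (a * a) * (a * a) by simp [pow_succ, mul_assoc], h4, QuotientGroup.mk_one]
  · rw [← QuotientGroup.mk_mul]
    intro h
    rw [QuotientGroup.eq_one_iff, Matrix.SpecialLinearGroup.mem_center_iff] at h
    obtain ⟨r, -, hr⟩ := h
    have h1 := congrFun (congrFun hr 0) 2
    rw [hsq] at h1
    simp at h1

namespace Part

variable (P : Part G)

theorem of_simple [IsSimpleGroup G] (hna : ∃ a b : G, a * b ≠ b * a)
    (hnil : ∀ x : G, x ≠ 1 → Group.IsNilpotent (P.A x)) : PSLorSz G := by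
  classical
  haveI : Fact (Nat.Prime 2) := ⟨Nat.prime_two⟩
  have h2 : 2 ∣ Nat.card G := by
    by_contra h
    exact Cfsg.Agent.Char.BSW.not_simple_of_solvable hna
      (odd_solvable (Nat.not_even_iff_odd.1 fun e => h e.two_dvd))
  by_cases hA : ∃ (S : Sylow 2 G) (z : G), orderOf z = 2 ∧ z ∈ (S : Subgroup G) ∧
      (∀ s ∈ (S : Subgroup G), s * z = z * s) ∧ ∀ w, Commute w z → w ∈ P.A z
  · obtain ⟨S, z, hz, hzS, hzZ, hle⟩ := hA
    exact P.of_embedded hna hnil hz S hzS hzZ hle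
  by_cases hB : ∃ (S : Sylow 2 G) (z c b : G), orderOf z = 2 ∧ z ∈ (S : Subgroup G) ∧
      (∀ s ∈ (S : Subgroup G), s * z = z * s) ∧ Commute c z ∧ c ∉ P.A z ∧ Commute b z ∧ b ∈ P.A z ∧ b * b ≠ 1
  · obtain ⟨S, z, c, b, hz, hzS, hzZ, hc, hcA, hb, hbA, hb2⟩ := hB
    exact Or.inl (P.psl_of_abelian_by_two hna S hz hzS hzZ hc hcA hb hbA hb2)
  have helem : ∀ (S : Sylow 2 G) (z : G), orderOf z = 2 → z ∈ (S : Subgroup G) →
      (∀ s ∈ (S : Subgroup G), s * z = z * s) → ∀ w, Commute w z → w * w = 1 := by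
    intro S z hz hzS hzZ
    rcases P.centralizer_cases hz with h | h | ⟨c, b, hc, hcA, hb, hbA, hb2⟩
    · exact absurd ⟨S, z, hz, hzS, hzZ, h⟩ hA
    · exact h
    · exact absurd ⟨S, z, c, b, hz, hzS, hzZ, hc, hcA, hb, hbA, hb2⟩ hB
  -- the Sylow 2-subgroups are abelian
  have hSsq : ∀ (S : Sylow 2 G) (s : G), s ∈ (S : Subgroup G) → s * s = 1 := by
    intro S s hs
    obtain ⟨k, hk⟩ := IsPGroup.iff_card.1 S.isPGroup'
    have hne : Nontrivial (S : Subgroup G) := by
      rw [← Finite.one_lt_card_iff_nontrivial]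
      have h3 := S.dvd_card_of_dvd_card h2
      exact lt_of_lt_of_le (by norm_num) (Nat.le_of_dvd Nat.card_pos h3)
    haveI := S.isPGroup'.center_nontrivial
    obtain ⟨j, hj⟩ := IsPGroup.iff_card.1 (S.isPGroup'.to_subgroup (Subgroup.center (S : Subgroup G)))
    have hj2 : 2 ∣ Nat.card (Subgroup.center (S : Subgroup G)) := by
      rw [hj]
      refine dvd_pow_self 2 fun e => ?_
      rw [e, pow_zero] at hj
      exact Finite.one_lt_card.ne' hj
    obtain ⟨z, hz⟩ := exists_prime_orderOf_dvd_card' 2 hj2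
    rw [← Subgroup.orderOf_coe, ← Subgroup.orderOf_coe] at hz
    exact helem S _ hz (z : (S : Subgroup G)).2
      (fun s hs => congrArg Subtype.val (Subgroup.mem_center_iff.1 z.2 ⟨s, hs⟩)) s
      (congrArg Subtype.val (Subgroup.mem_center_iff.1 z.2 ⟨s, hs⟩))
  have hSab : ∀ (S : Sylow 2 G) (a b : G), a ∈ (S : Subgroup G) → b ∈ (S : Subgroup G) → a * b = b * a := by
    intro S a b ha hb
    have ha' : a⁻¹ = a := inv_eq_of_mul_eq_one_right (hSsq S a ha)
    have hb' : b⁻¹ = b := inv_eq_of_mul_eq_one_right (hSsq S b hb)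
    rw [← inv_eq_of_mul_eq_one_right (hSsq S (a * b) (mul_mem ha hb)), mul_inv_rev, ha', hb']
  have hCIT : Cfsg.Agent.Solv.CITGroups.CIT G := by
    intro t ht
    obtain ⟨S, hS⟩ := (IsPGroup.of_card (G := Subgroup.zpowers t) (p := 2) (n := 1)
      (by rw [Nat.card_zpowers, ht]; rfl)).exists_le_sylow
    have htS := hS (Subgroup.mem_zpowers t)
    intro w
    refine ⟨1, Subtype.ext ?_⟩
    rw [pow_one, pow_two]
    exact helem S t ht htS (fun s hs => hSab S s t hs htS) w (Subgroup.mem_centralizer_singleton_iff.1 w.2)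
  rcases Cfsg.Agent.Solv.CITGroups.cit_classification_iso hna hCIT h2 with
    ⟨F, iF, iFF, -, ⟨iso⟩⟩ | ⟨F, iF, iFF, hF, ⟨iso⟩⟩ | hs
  · exact Or.inl ⟨F, iF, iFF, four_le_card_field hna iso, ⟨iso⟩⟩
  · exfalso
    obtain ⟨g, hg4, hg2⟩ := exists_not_invol (F := F) hF
    have hp : IsPGroup 2 (Subgroup.zpowers (iso.symm g)) := by
      obtain ⟨j, -, hj⟩ := (Nat.dvd_prime_pow Nat.prime_two).1
        (orderOf_dvd_of_pow_eq_one (x := iso.symm g) (by rw [← map_pow, hg4, map_one]))
      exact IsPGroup.of_card (n := j) (by rw [Nat.card_zpowers, hj])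
    obtain ⟨S, hS⟩ := hp.exists_le_sylow
    have h1 := hSsq S _ (hS (Subgroup.mem_zpowers _))
    exact hg2 (iso.symm.injective (by rw [map_mul, map_one, h1]))
  · exact Or.inr hs

end Part

end Cfsg.Agent.Solv.Partition
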