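import Cfsg.Agent.Lib.Solv.Partition.Normal
import Cfsg.Agent.Lib.Solv.Partition.Radical
import Cfsg.Agent.Lib.Solv.Partition.Semisimple
import Cfsg.Agent.Lib.Solv.Partition.SimpleCase
import Cfsg.Agent.Lib.Solv.Partition.AutPSL
import Cfsg.Agent.Lib.Solv.Partition.AutSuz
import Cfsg.Agent.Lib.Classical.Dickson.Tools
import Cfsg.Agent.Lib.Lie.OrderSixty

/-!
# Groups with a nontrivial partition
-/

set_option autoImplicit false
set_option linter.style.haveILetI false

namespace Cfsg.Agent.Solv.Partition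

universe u

variable {G : Type u} [Group G] [Finite G]

theorem simple_and_center_of_equiv {L M : Type*} [Group L] [Group M] [IsSimpleGroup L]
    (hna : ∃ a b : L, a * b ≠ b * a) (e : L ≃* M) : IsSimpleGroup M ∧ Subgroup.center M = ⊥ := by
  haveI : Nontrivial M := e.symm.toEquiv.nontrivial
  haveI := IsSimpleGroup.isSimpleGroup_of_surjective e.toMonoidHom e.surjective
  obtain ⟨a, b, hab⟩ := hna
  exact ⟨inferInstance, center_eq_bot ⟨e a, e b, fun h => hab (e.injective (by simpa using h))⟩⟩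

/-- A simple group isomorphic to the two-dimensional group over four elements is one over five elements. -/
theorem psl_five_of_four {L : Type u} [Group L] [Finite L] [IsSimpleGroup L] {F : Type} [Field F] [Fintype F]
    (h4 : Fintype.card F = 4) (e : L ≃* Matrix.ProjectiveSpecialLinearGroup (Fin 2) F) :
    Nonempty (L ≃* Matrix.ProjectiveSpecialLinearGroup (Fin 2) (ZMod 5)) := by
  haveI : Fact (Nat.Prime 5) := ⟨by norm_num⟩
  have hc4 := Cfsg.Agent.Classical.Dickson.card_psl F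
  rw [h4, show Nat.gcd 2 (4 - 1) = 1 from rfl, mul_one] at hc4
  have hL : Nat.card L = 60 := by rw [Nat.card_congr e.toEquiv, hc4]; norm_num
  have hc := Cfsg.Agent.Classical.Dickson.card_psl (ZMod 5)
  rw [ZMod.card, show Nat.gcd 2 (5 - 1) = 2 from rfl] at hc
  haveI : IsSimpleGroup (Matrix.ProjectiveSpecialLinearGroup (Fin 2) (ZMod 5)) :=
    Matrix.ProjectiveSpecialLinearGroup.rank_two_simple (by rw [Nat.card_zmod]; norm_num)
  obtain ⟨e₁⟩ := Cfsg.Agent.Lie.simple_sixty hL
  obtain ⟨e₂⟩ := Cfsg.Agent.Lie.simple_sixty (G := Matrix.ProjectiveSpecialLinearGroup (Fin 2) (ZMod 5))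
    (by norm_num at hc ⊢; omega)
  exact ⟨e₁.trans e₂.symm⟩

namespace Part

variable (P : Part G)

/-- The semisimple case. -/
theorem of_semisimple (hnil : ∀ x : G, x ≠ 1 → Group.IsNilpotent (P.A x)) [Nontrivial G]
    (hab : ∀ V : Subgroup G, V.Normal → IsMulCommutative V → V = ⊥) :
    (∃ (F : Type) (_ : Field F) (_ : Fintype F), 4 ≤ Fintype.card F ∧
        Nonempty (G ≃* Matrix.ProjectiveSpecialLinearGroup (Fin 2) F)) ∨
    (∃ (F : Type) (_ : Field F) (_ : Fintype F), 5 ≤ Fintype.card F ∧ Odd (Fintype.card F) ∧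
        Nonempty (G ≃* (GL (Fin 2) F ⧸ Subgroup.center (GL (Fin 2) F)))) ∨
    Cfsg.Lie.IsoSuzuki G := by
  obtain ⟨L, hLn, hLs, hLc, hC, Q, hQ⟩ := P.exists_simple hnil hab
  haveI := hLn
  haveI := hLs
  have hna : ∃ a b : L, a * b ≠ b * a := by
    by_contra hcon
    push Not at hcon
    exact hLc ⟨⟨hcon⟩⟩
  -- the field may be taken with more than four elements
  have hpsl : ∀ (F : Type) [Field F] [Fintype F], 4 < Fintype.card F →
      (L ≃* Matrix.ProjectiveSpecialLinearGroup (Fin 2) F) →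
      (∃ (F : Type) (_ : Field F) (_ : Fintype F), 4 ≤ Fintype.card F ∧
        Nonempty (G ≃* Matrix.ProjectiveSpecialLinearGroup (Fin 2) F)) ∨
      (∃ (F : Type) (_ : Field F) (_ : Fintype F), 5 ≤ Fintype.card F ∧ Odd (Fintype.card F) ∧
        Nonempty (G ≃* (GL (Fin 2) F ⧸ Subgroup.center (GL (Fin 2) F)))) := by
    intro F _ _ h5 e
    obtain ⟨-, hc⟩ := simple_and_center_of_equiv hna e
    rcases AutPSL.main P hnil L hC h5 hc e with h | ⟨hodd, h⟩
    · exact Or.inl ⟨F, inferInstance, inferInstance, h5.le, h⟩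
    · exact Or.inr ⟨F, inferInstance, inferInstance, h5, hodd, h⟩
  rcases Q.of_simple hna hQ with ⟨F, _, _, h4, ⟨e⟩⟩ | ⟨F, iF, iFt, m, hm, hF, ⟨e⟩⟩
  · rcases h4.eq_or_lt with h4 | h4
    · haveI : Fact (Nat.Prime 5) := ⟨by norm_num⟩
      obtain ⟨e'⟩ := psl_five_of_four h4.symm e
      rcases hpsl (ZMod 5) (by rw [ZMod.card]; norm_num) e' with h | h
      · exact Or.inl h
      · exact Or.inr (Or.inl h)
    · rcases hpsl F h4 e with h | h
      · exact Or.inl h
      · exact Or.inr (Or.inl h)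
  · obtain ⟨e'⟩ := Cfsg.Agent.Lie.Suzuki.lie_sz_equiv hF hm
    obtain ⟨-, hc⟩ := simple_and_center_of_equiv hna (e.trans e'.symm)
    obtain ⟨f⟩ := AutSuz.main hF hm P hnil L hC hc (e.trans e'.symm)
    exact Or.inr (Or.inr ⟨F, iF, iFt, m, hm, hF, ⟨f.trans e'⟩⟩)

include P in
/-- The classification for an invariant partition. -/
theorem classify [Nontrivial G] :
    Nonempty (G ≃* Equiv.Perm (Fin 4)) ∨ Hughes G ∨ Frob G ∨
    (∃ (F : Type) (_ : Field F) (_ : Fintype F), 4 ≤ Fintype.card F ∧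
        Nonempty (G ≃* Matrix.ProjectiveSpecialLinearGroup (Fin 2) F)) ∨
    (∃ (F : Type) (_ : Field F) (_ : Fintype F), 5 ≤ Fintype.card F ∧ Odd (Fintype.card F) ∧
        Nonempty (G ≃* (GL (Fin 2) F ⧸ Subgroup.center (GL (Fin 2) F)))) ∨
    Cfsg.Lie.IsoSuzuki G := by
  classical
  by_cases hsn : ∃ x : G, x ≠ 1 ∧ ∀ g ∈ Subgroup.normalizer (P.A x : Set G), g ∈ P.A x
  · obtain ⟨x, hx, h⟩ := hsn
    exact Or.inr (Or.inr (Or.inl (P.frob_of_selfnormalizing hx h)))
  push Not at hsn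
  have hnil : ∀ x : G, x ≠ 1 → Group.IsNilpotent (P.A x) := fun x hx => by
    obtain ⟨g, hg, hgA⟩ := hsn x hx
    exact P.nilpotent_of_normalizer hg hgA
  by_cases hnc : ∃ x : G, x ≠ 1 ∧ (P.A x).Normal
  · obtain ⟨x, hx, hn⟩ := hnc
    rcases P.of_normal_component hnil hx with h | h
    · exact Or.inr (Or.inl h)
    · exact Or.inr (Or.inr (Or.inl h))
  push Not at hnc
  by_cases hab : ∃ V : Subgroup G, V.Normal ∧ IsMulCommutative V ∧ V ≠ ⊥
  · obtain ⟨V, hV, hVc, hV1⟩ := hab
    haveI := hV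
    obtain ⟨N, hN, hN1, hNV, hmin⟩ := Cfsg.Agent.Solv.exists_minimal_normal_le V hV1
    haveI := hN
    haveI : Group.IsSolvable V := Group.isSolvable_of_comm fun a b => hVc.is_comm.comm a b
    haveI : Group.IsSolvable N := Group.isSolvable_of_isSolvable_injective (Subgroup.inclusion_injective hNV)
    obtain ⟨hNc, q, hq, hexp, -⟩ :=
      Cfsg.Agent.Solv.minimal_normal_elementaryAbelian N inferInstance hN1 hmin
    haveI := Fact.mk hq
    rcases P.of_radical hnil hnc N hN1 hmin hNc hexp with h | h | h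
    · exact Or.inl h
    · exact Or.inr (Or.inl h)
    · exact Or.inr (Or.inr (Or.inl h))
  push Not at hab
  rcases P.of_semisimple hnil hab with h | h | h
  · exact Or.inr (Or.inr (Or.inr (Or.inl h)))
  · exact Or.inr (Or.inr (Or.inr (Or.inr (Or.inl h))))
  · exact Or.inr (Or.inr (Or.inr (Or.inr (Or.inr h))))

end Part

end Cfsg.Agent.Solv.Partition
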