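import Mathlib

/-!
# Fixed points of Frobenius and elementary abelian groups of automorphisms
-/

set_option autoImplicit false
set_option linter.style.haveILetI false
set_option linter.unusedSectionVars false

namespace Cfsg.Agent.Solv.Partition

open Finset

universe u v

variable {X : Type u} [Group X] {V : Type v} [CommGroup V] (φ : X →* MulAut V)

theorem phi_prod {ι : Type*} (s : Finset ι) (g : ι → V) (a : X) :
    φ a (∏ i ∈ s, g i) = ∏ i ∈ s, φ a (g i) := map_prod (φ a) g s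

/-- A fixed-point-free group has trivial norm. -/
theorem prod_eq_one_of_fpf (R : Subgroup X) [Fintype R] (hR : R ≠ ⊥)
    (hfpf : ∀ r ∈ R, r ≠ 1 → ∀ v : V, φ r v = v → v = 1) (v : V) : ∏ r : R, φ (r : X) v = 1 := by
  obtain ⟨r₀, hr₀, hr₁⟩ := (Subgroup.nontrivial_iff_exists_ne_one R).1 ((Subgroup.nontrivial_iff_ne_bot R).2 hR)
  refine hfpf r₀ hr₀ hr₁ _ ?_
  rw [phi_prod]
  refine Fintype.prod_equiv (Equiv.mulLeft (⟨r₀, hr₀⟩ : R)) _ _ fun r => ?_
  show φ r₀ (φ (r : X) v) = φ ((r₀ : X) * r) v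
  rw [map_mul, MulAut.mul_apply]

/-- A Frobenius group whose kernel is fixed-point-free: if the complement has trivial norm, the
kernel order kills the module. -/
theorem pow_card_eq_one_of_norm (R : Subgroup X) [Fintype R] (hR : R ≠ ⊥) (x : X) {s : ℕ} (hs : s ≠ 0)
    (hfpf : ∀ r ∈ R, r ≠ 1 → ∀ v : V, φ r v = v → v = 1)
    (hxR : x ∈ Subgroup.normalizer (R : Set X))
    (hC : ∀ i, 0 < i → i < s → ∀ r ∈ R, x ^ i * r = r * x ^ i → r = 1)
    (hnorm : ∀ v : V, ∏ i ∈ range s, φ (x ^ i) v = 1) (v : V) : v ^ Fintype.card R = 1 := by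
  classical
  have key : ∀ i ∈ range s, ∏ r : R, φ ((r : X) * x ^ i * (r : X)⁻¹) v = if i = 0 then v ^ Fintype.card R else 1 := by
    intro i hi
    split_ifs with h0
    · subst h0
      simp
    · have hxi : x ^ i ∈ Subgroup.normalizer (R : Set X) := pow_mem hxR i
      let e : R → R := fun r => ⟨(r : X) * x ^ i * (r : X)⁻¹ * (x ^ i)⁻¹, by
        have h1 := (Subgroup.mem_normalizer_iff.1 hxi (r : X)⁻¹).1 (inv_mem r.2)
        rw [show (r : X) * x ^ i * (r : X)⁻¹ * (x ^ i)⁻¹ = r * (x ^ i * (r : X)⁻¹ * (x ^ i)⁻¹) by group]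
        exact mul_mem r.2 h1⟩
      have he : Function.Injective e := by
        intro a b h
        have h1 : (a : X) * x ^ i * (a : X)⁻¹ = b * x ^ i * (b : X)⁻¹ :=
          mul_right_cancel (congrArg Subtype.val h)
        have h2 := hC i (Nat.pos_of_ne_zero h0) (Finset.mem_range.1 hi) ((b : X)⁻¹ * a)
          (mul_mem (inv_mem b.2) a.2) (by
            calc x ^ i * ((b : X)⁻¹ * a) = (b : X)⁻¹ * ((b : X) * x ^ i * (b : X)⁻¹) * a := by group
              _ = (b : X)⁻¹ * ((a : X) * x ^ i * (a : X)⁻¹) * a := by rw [h1]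
              _ = (b : X)⁻¹ * a * x ^ i := by group)
        exact Subtype.ext (inv_mul_eq_one.1 h2).symm
      have e1 : ∏ r : R, φ ((r : X) * x ^ i * (r : X)⁻¹) v = ∏ r : R, φ (r : X) (φ (x ^ i) v) := by
        rw [← Equiv.prod_comp (Equiv.ofBijective e (Finite.injective_iff_bijective.1 he))
          (fun r : R => φ (r : X) (φ (x ^ i) v))]
        refine Finset.prod_congr rfl fun r _ => ?_
        rw [Equiv.ofBijective_apply, ← MulAut.mul_apply, ← map_mul]
        congr 2
        simp [e]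
      rw [e1, prod_eq_one_of_fpf φ R hR hfpf]
  have h1 : ∀ r : R, ∏ i ∈ range s, φ ((r : X) * x ^ i * (r : X)⁻¹) v = 1 := by
    intro r
    calc ∏ i ∈ range s, φ ((r : X) * x ^ i * (r : X)⁻¹) v
        = φ (r : X) (∏ i ∈ range s, φ (x ^ i) (φ (r : X)⁻¹ v)) := by
          rw [phi_prod]
          refine Finset.prod_congr rfl fun i _ => ?_
          rw [map_mul, map_mul, map_inv, MulAut.mul_apply, MulAut.mul_apply]
      _ = 1 := by rw [hnorm, map_one]
  have h2 : ∏ i ∈ range s, ∏ r : R, φ ((r : X) * x ^ i * (r : X)⁻¹) v = 1 := by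
    rw [Finset.prod_comm]
    exact Finset.prod_eq_one fun r _ => h1 r
  rw [Finset.prod_congr rfl key, Finset.prod_ite_eq' (range s) 0] at h2
  rwa [if_pos (Finset.mem_range.2 (Nat.pos_of_ne_zero hs))] at h2

/-- An elementary abelian group of rank two is not fixed-point-free outside its characteristic. -/
theorem pow_eq_one_of_rank_two {p : ℕ} (hp : p.Prime) {a b : X} (hab : Commute a b) (ha : a ^ p = 1)
    (hb : b ^ p = 1) (hnot : ∀ j : ℕ, a * b ^ j ≠ 1) (hb1 : b ≠ 1)
    (hfpf : ∀ i j : ℕ, a ^ i * b ^ j ≠ 1 → ∀ v : V, φ (a ^ i * b ^ j) v = v → v = 1) (v : V) : v ^ p = 1 := by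
  classical
  have norm1 : ∀ g : X, g ^ p = 1 → g ≠ 1 → (∀ w : V, φ g w = w → w = 1) → ∀ w : V,
      ∏ i ∈ range p, φ (g ^ i) w = 1 := by
    intro g hg _ hf w
    refine hf _ ?_
    rw [phi_prod]
    simp_rw [← MulAut.mul_apply, ← map_mul, ← pow_succ']
    have h1 := Finset.prod_range_succ' (fun i => φ (g ^ i) w) p
    rw [Finset.prod_range_succ, pow_zero, hg] at h1
    exact (mul_right_cancel h1).symm
  have hline : ∀ j : ℕ, ∏ i ∈ range p, φ ((a * b ^ j) ^ i) v = 1 := fun j => by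
    refine norm1 _ ?_ (hnot j) (fun w hw => hfpf 1 j (by rw [pow_one]; exact hnot j) w (by rwa [pow_one])) v
    rw [(hab.pow_right j).mul_pow, ha, one_mul, ← pow_mul, mul_comm j p, pow_mul, hb, one_pow]
  have hinner : ∀ i ∈ range p, ∏ j ∈ range p, φ ((a * b ^ j) ^ i) v = if i = 0 then v ^ p else 1 := by
    intro i hi
    have hip : i < p := Finset.mem_range.1 hi
    split_ifs with h0
    · subst h0; simp
    · have hbi1 : b ^ i ≠ 1 := fun e => by
        haveI := Fact.mk hp
        have h2 := orderOf_dvd_of_pow_eq_one e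
        rw [orderOf_eq_prime hb hb1] at h2
        have := Nat.le_of_dvd (Nat.pos_of_ne_zero h0) h2
        omega
      calc ∏ j ∈ range p, φ ((a * b ^ j) ^ i) v = ∏ j ∈ range p, φ (a ^ i) (φ ((b ^ i) ^ j) v) := by
            refine Finset.prod_congr rfl fun j _ => ?_
            rw [← MulAut.mul_apply, ← map_mul, (hab.pow_right j).mul_pow, ← pow_mul, ← pow_mul,
              mul_comm i j]
        _ = φ (a ^ i) (∏ j ∈ range p, φ ((b ^ i) ^ j) v) := (phi_prod φ _ _ _).symm
        _ = 1 := by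
          rw [norm1 (b ^ i) (by rw [← pow_mul, mul_comm, pow_mul, hb, one_pow]) hbi1
            (fun w hw => hfpf 0 i (by rwa [pow_zero, one_mul]) w (by rwa [pow_zero, one_mul])) v, map_one]
  have h2 : ∏ i ∈ range p, ∏ j ∈ range p, φ ((a * b ^ j) ^ i) v = 1 := by
    rw [Finset.prod_comm]
    exact Finset.prod_eq_one fun j _ => hline j
  rw [Finset.prod_congr rfl hinner, Finset.prod_ite_eq' (range p) 0] at h2
  rwa [if_pos (Finset.mem_range.2 hp.pos)] at h2

end Cfsg.Agent.Solv.Partition
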