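import Cfsg.Agent.Lib.Solv.Partition.Invol
import Cfsg.Agent.Lib.Local.TypePBasic

/-!
# Automorphism groups containing the inner automorphisms
-/

set_option autoImplicit false
set_option linter.style.haveILetI false
set_option linter.unusedSectionVars false

namespace Cfsg.Agent.Solv.Partition

universe u v

/-- Transport along an isomorphism. -/
theorem exists_part_congr {G : Type u} [Group G] {K : Type v} [Group K] (e : G ≃* K) (P : Part G)
    (hnil : ∀ x : G, x ≠ 1 → Group.IsNilpotent (P.A x)) :
    ∃ Q : Part K, ∀ x : K, x ≠ 1 → Group.IsNilpotent (Q.A x) := by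
  refine ⟨⟨fun x => (P.A (e.symm x)).map e.toMonoidHom, ?_, ?_, ?_, ?_⟩, ?_⟩
  · exact fun x => ⟨e.symm x, P.mem _, e.apply_symm_apply x⟩
  · intro x h
    refine P.ne_top (e.symm x) (eq_top_iff.2 fun g _ => ?_)
    obtain ⟨g', hg', e'⟩ := h.ge (Subgroup.mem_top (e g))
    rwa [← e.injective e']
  · rintro x y ⟨y', hy', rfl⟩ hy1
    show (P.A (e.symm (e y'))).map e.toMonoidHom = _
    rw [MulEquiv.symm_apply_apply, P.eq hy' (fun h => hy1 (by rw [h]; simp))]
  · intro g x
    show (P.A (e.symm (g * x * g⁻¹))).map e.toMonoidHom = _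
    rw [map_mul, map_mul, map_inv, P.conj, Subgroup.map_map, Subgroup.map_map]
    congr 1
    ext y
    simp
  · intro x hx
    show Group.IsNilpotent ((P.A (e.symm x)).map e.toMonoidHom)
    haveI := hnil (e.symm x) (fun h => hx (by rw [← e.apply_symm_apply x, h, map_one]))
    exact (Group.isNilpotent_congr ((P.A (e.symm x)).equivMapOfInjective e.toMonoidHom e.injective)).1 inferInstance

variable {G : Type u} [Group G] [Finite G]

namespace Part

variable (P : Part G)

/-- Commuting elements of different orders share a component. -/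
theorem mem_of_commute {a b : G} (h : Commute a b) (ha : a ≠ 1)
    (ho : ¬ (orderOf a).Prime ∨ orderOf b ≠ orderOf a) : b ∈ P.A a := by
  by_cases hb : b = 1
  · rw [hb]; exact one_mem _
  exact P.A_eq_of_commute h ha hb ho ▸ P.mem b

/-- Elements of coprime order in a nilpotent component commute. -/
theorem commute_of_mem_nilpotent {x a b : G} (hnil : Group.IsNilpotent (P.A x)) (ha : a ∈ P.A x) (hb : b ∈ P.A x)
    (h : (orderOf a).Coprime (orderOf b)) : Commute a b := by
  haveI := hnil
  exact congrArg Subtype.val (Cfsg.Agent.TypePBasic.commute_of_coprime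
    (x := (⟨a, ha⟩ : P.A x)) (y := ⟨b, hb⟩) (by rwa [Subgroup.orderOf_mk, Subgroup.orderOf_mk])).eq

end Part

/-- `conj` is injective on a group with trivial centre. -/
theorem conj_injective {L : Type v} [Group L] (h : Subgroup.center L = ⊥) :
    Function.Injective (MulAut.conj : L → MulAut L) := by
  refine (injective_iff_map_eq_one (MulAut.conj : L →* MulAut L)).2 fun a ha => ?_
  refine Subgroup.mem_bot.1 (h ▸ Subgroup.mem_center_iff.2 fun b => ?_)
  have h1 := congrArg (fun f : MulAut L => f b) ha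
  simp only [MulAut.conj_apply, MulAut.one_apply] at h1
  exact (mul_inv_eq_iff_eq_mul.1 h1).symm

theorem center_eq_bot {L : Type v} [Group L] [IsSimpleGroup L] (hna : ∃ a b : L, a * b ≠ b * a) :
    Subgroup.center L = ⊥ := by
  rcases (inferInstance : (Subgroup.center L).Normal).eq_bot_or_eq_top with h | h
  · exact h
  · obtain ⟨a, b, hab⟩ := hna
    exact absurd (Subgroup.mem_center_iff.1 (h ▸ Subgroup.mem_top b) a) hab

/-- The image in the automorphism group of a normal subgroup with trivial centraliser. -/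
theorem exists_aut_embedding {L : Type v} [Group L] (N : Subgroup G) [N.Normal]
    (hC : Subgroup.centralizer (N : Set G) = ⊥) (e : N ≃* L) :
    ∃ Γ : Subgroup (MulAut L), Nonempty (G ≃* Γ) ∧ (∀ a : L, MulAut.conj a ∈ Γ) ∧
      (N = ⊤ ↔ ∀ f ∈ Γ, ∃ a : L, f = MulAut.conj a) := by
  let φ : G →* MulAut L := (MulAut.congr e).toMonoidHom.comp MulAut.conjNormal
  have hφ : ∀ (g : G) (a : L), φ g a = e (MulAut.conjNormal g (e.symm a)) := fun g a => rfl
  have hinj : Function.Injective φ := by
    refine (injective_iff_map_eq_one φ).2 fun g hg => ?_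
    refine Subgroup.mem_bot.1 (hC ▸ Subgroup.mem_centralizer_iff.2 fun v hv => ?_)
    have h1 : φ g (e ⟨v, hv⟩) = e ⟨v, hv⟩ := by rw [hg]; rfl
    rw [hφ, e.symm_apply_apply] at h1
    have h2 := congrArg Subtype.val (e.injective h1)
    rw [MulAut.conjNormal_apply] at h2
    exact (mul_inv_eq_iff_eq_mul.1 h2).symm
  have hconj : ∀ n : N, φ (n : G) = MulAut.conj (e n) := fun n => MulEquiv.ext fun a => by
    rw [hφ, MulAut.conj_apply, ← map_inv]
    conv_rhs => rw [← e.apply_symm_apply a, ← map_mul, ← map_mul]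
    exact congrArg e (Subtype.ext (MulAut.conjNormal_apply _ _))
  refine ⟨φ.range, ⟨MonoidHom.ofInjective hinj⟩, fun a => ⟨(e.symm a : N), by rw [hconj, e.apply_symm_apply]⟩, ?_⟩
  constructor
  · rintro h _ ⟨g, rfl⟩
    exact ⟨e ⟨g, h ▸ Subgroup.mem_top g⟩, hconj ⟨g, h ▸ Subgroup.mem_top g⟩⟩
  · intro h
    rw [eq_top_iff]
    intro g _
    obtain ⟨a, ha⟩ := h (φ g) ⟨g, rfl⟩
    have h1 : φ g = φ ((e.symm a : N) : G) := by rw [hconj, e.apply_symm_apply, ha]
    rw [hinj h1]
    exact (e.symm a).2

end Cfsg.Agent.Solv.Partition
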