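import Cfsg.Agent.Lib.Solv.Partition.Invol
import Cfsg.Agent.Lib.Solv.Partition.DihedralCase
import Cfsg.Agent.Lib.Fusion.StronglyEmbeddedPairs
import Cfsg.Agent.Lib.Solv.Frobenius
import Cfsg.Agent.Lib.Lie.ZassenhausSuzuki.Main
import Cfsg.Agent.Lib.Solv.CIT.Main
import Cfsg.Agent.Lib.Spor.PlaneAut
import Cfsg.Prelude.Def_Sz

/-!
# A component containing the centralisers of its involutions
-/

set_option autoImplicit false
set_option linter.style.haveILetI false
set_option linter.unusedSectionVars false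

namespace Cfsg.Agent.Solv.Partition

open MulAction

universe u

variable {G : Type u} [Group G] [Finite G]

/-- The two simple conclusions. -/
def PSLorSz (G : Type u) [Group G] : Prop :=
  (∃ (F : Type) (_ : Field F) (_ : Fintype F), 4 ≤ Fintype.card F ∧
      Nonempty (G ≃* Matrix.ProjectiveSpecialLinearGroup (Fin 2) F)) ∨ Cfsg.Lie.IsoSuzuki G

theorem not_frob_of_simple [IsSimpleGroup G] : ¬ Frob G := by
  rintro ⟨C, hC⟩
  obtain ⟨K, -, hKn, hKC⟩ := Cfsg.Agent.Solv.frobenius_theorem hC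
  have h := hKC.card_mul
  rcases hKn.eq_bot_or_eq_top with rfl | rfl
  · rw [Subgroup.card_bot, one_mul] at h
    exact hC.2.1 (Subgroup.card_eq_iff_eq_top C |>.1 h)
  · rw [Subgroup.card_top] at h
    exact hC.1 (Subgroup.card_eq_one.1 (Nat.eq_of_mul_eq_mul_left Nat.card_pos (h.trans (mul_one _).symm)))

namespace Part

variable (P : Part G)

theorem of_embedded [IsSimpleGroup G] (hna : ∃ a b : G, a * b ≠ b * a)
    (hnil : ∀ x : G, x ≠ 1 → Group.IsNilpotent (P.A x)) {z : G} (hz : orderOf z = 2) (S : Sylow 2 G)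
    (hzS : z ∈ (S : Subgroup G)) (hzZ : ∀ s ∈ (S : Subgroup G), s * z = z * s)
    (hle : ∀ w, Commute w z → w ∈ P.A z) : PSLorSz G := by
  classical
  haveI : Fact (Nat.Prime 2) := ⟨Nat.prime_two⟩
  have hz1 := ne_one_of_orderOf_two hz
  set H := P.A z
  have hHnil := hnil z hz1
  haveI := hHnil
  have hSH : (S : Subgroup G) ≤ H := fun s hs => hle s (hzZ s hs)
  set N := Subgroup.normalizer (H : Set G)
  have hHN : H ≤ N := Subgroup.le_normalizer
  have hNtop : N ≠ ⊤ := by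
    intro e
    haveI : H.Normal := Subgroup.normalizer_eq_top_iff.1 e
    rcases (inferInstance : H.Normal).eq_bot_or_eq_top with h | h
    · exact P.A_ne_bot hz1 h
    · exact P.ne_top z h
  have hNinv : ∀ {w : G}, orderOf w = 2 → w ∈ N → w ∈ H := fun hw hwN =>
    hSH (P.mem_sylow_of_normalizes S hSH hHnil hw hwN)
  have heven : Even (Nat.card N) := by
    rw [even_iff_two_dvd, ← hz]
    exact Subgroup.orderOf_dvd_natCard N (hHN (P.mem z))
  have hse : Cfsg.IsStronglyEmbedded N := by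
    refine ⟨hNtop, heven, fun g hg => ?_⟩
    rw [← Nat.not_even_iff_odd, even_iff_two_dvd]
    intro h2
    obtain ⟨u', hu'⟩ := exists_prime_orderOf_dvd_card' 2 h2
    obtain ⟨u, hu12, hu⟩ : ∃ u, u ∈ N ⊓ N.map (MulAut.conj g).toMonoidHom ∧ orderOf u = 2 :=
      ⟨u', u'.2, (Subgroup.orderOf_coe u').trans hu'⟩
    obtain ⟨hu₁, hu₂⟩ := hu12
    obtain ⟨v, hv, e⟩ := hu₂
    have e' : g * v * g⁻¹ = u := by simpa using e
    have hvo : orderOf v = 2 := by
      rw [← hu, ← e']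
      exact (orderOf_injective (MulAut.conj g).toMonoidHom (MulAut.conj g).injective v).symm
    exact hg (P.normalizes_of (g := g) (hNinv hvo hv) (ne_one_of_orderOf_two hvo) (e' ▸ hNinv hu hu₁))
  haveI := Fintype.ofFinite (G ⧸ N)
  set x0 : G ⧸ N := QuotientGroup.mk 1
  have hst : ∀ g : G, g • x0 = x0 ↔ g ∈ N := fun g => by
    rw [Cfsg.Agent.Fusion.SEPairs.smul_mk_eq_iff]; simp
  have hfixI : ∀ u : G, orderOf u = 2 → (u • x0 = x0 ↔ u ∈ H) := fun u hu =>
    ⟨fun h => hNinv hu ((hst u).1 h), fun h => (hst u).2 (hHN h)⟩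
  have hconj2 : ∀ (g : G) {u : G}, orderOf u = 2 → orderOf (g * u * g⁻¹) = 2 := fun g _ hu =>
    Cfsg.Agent.Fusion.SEPairs.conj_involution hu g
  -- the centre and the involutions
  have hzcent : ∀ h ∈ H, Commute z h := by
    intro h hh
    set o := orderOf h
    set a := o.factorization 2
    have h1 : Commute z (h ^ (o / 2 ^ a)) := by
      have hmem : h ^ (o / 2 ^ a) ∈ (S : Subgroup G) := by
        have hall' : ∀ (p : ℕ) (_ : Fact p.Prime) (Q : Sylow p H), (Q : Subgroup H).Normal :=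
          ((Group.isNilpotent_of_finite_tfae (G := H)).out 0 3).1 hHnil
        haveI := Sylow.unique_of_normal (S.subtype hSH) (hall' 2 inferInstance _)
        have ho : orderOf (⟨h ^ (o / 2 ^ a), pow_mem hh _⟩ : H) = 2 ^ a := by
          rw [Subgroup.orderOf_mk]
          exact orderOf_pow_orderOf_div (orderOf_pos h).ne' (Nat.ordProj_dvd _ _)
        obtain ⟨Q, hQ⟩ := (IsPGroup.of_card (G := Subgroup.zpowers (⟨h ^ (o / 2 ^ a), pow_mem hh _⟩ : H)) (p := 2)
          (n := a) (by rw [Nat.card_zpowers, ho])).exists_le_sylow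
        have := hQ (Subgroup.mem_zpowers _)
        rw [Subsingleton.elim Q (S.subtype hSH)] at this
        exact this
      exact (hzZ _ hmem).symm
    have h2 : Commute z (h ^ 2 ^ a) := congrArg Subtype.val (Cfsg.Agent.TypePBasic.commute_of_coprime
      (x := (⟨z, P.mem z⟩ : H)) (y := ⟨h ^ 2 ^ a, pow_mem hh _⟩) (by
        rw [Subgroup.orderOf_mk, Subgroup.orderOf_mk, hz,
          orderOf_pow_of_dvd (pow_ne_zero _ two_ne_zero) (Nat.ordProj_dvd _ _)]
        exact (Nat.prime_two.coprime_iff_not_dvd).2 (Nat.not_dvd_ordCompl Nat.prime_two (orderOf_pos h).ne'))).eq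
    have hcop : (2 ^ a).Coprime (o / 2 ^ a) :=
      ((Nat.prime_two.coprime_iff_not_dvd).2 (Nat.not_dvd_ordCompl Nat.prime_two (orderOf_pos h).ne')).pow_left a
    have h5 := (h1.zpow_right (Nat.gcdB (2 ^ a) (o / 2 ^ a))).mul_right (h2.zpow_right (Nat.gcdA (2 ^ a) (o / 2 ^ a)))
    rw [← zpow_natCast, ← zpow_natCast, ← zpow_mul, ← zpow_mul, ← zpow_add] at h5
    have e : (((o / 2 ^ a : ℕ) : ℤ) * Nat.gcdB (2 ^ a) (o / 2 ^ a) +
        ((2 ^ a : ℕ) : ℤ) * Nat.gcdA (2 ^ a) (o / 2 ^ a)) = 1 := by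
      have h9 := Nat.gcd_eq_gcd_ab (2 ^ a) (o / 2 ^ a)
      rw [hcop] at h9
      push_cast at h9 ⊢
      omega
    rwa [e, zpow_one] at h5
  -- involutions of any conjugate component commute
  have hpoint : ∀ {u : G}, orderOf u = 2 → ∀ w ∈ P.A u, orderOf w = 2 → Commute u w := by
    intro u hu w hw hwo
    obtain ⟨g, rfl⟩ := isConj_iff.1 (Cfsg.Agent.Fusion.SEPairs.involutions_conj hse hz hu)
    rw [P.conj] at hw
    obtain ⟨v, hv, rfl⟩ := hw
    exact (hzcent v hv).map (MulAut.conj g).toMonoidHom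
  let I := {t : G // orderOf t = 2 ∧ t • x0 = x0}
  haveI : Nonempty I := ⟨⟨z, hz, (hfixI z hz).2 (P.mem z)⟩⟩
  have hmeet : ∀ y : G ⧸ N, y ≠ x0 → ∀ h ∈ H, h • y = y → h = 1 := by
    intro y hy h hhH hhy
    by_contra hh1
    obtain ⟨u, hu, huy⟩ : ∃ u : G, orderOf u = 2 ∧ u • x0 = y := by
      have h1 := Cfsg.Agent.Fusion.SEPairs.card_swappers hse (Ne.symm hy)
      obtain ⟨⟨u, hu⟩⟩ := (Nat.card_pos_iff.1 (h1 ▸ (Nat.card_pos (α := I)))).1
      exact ⟨u, hu⟩
    have huu := mul_self_eq_one hu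
    have hui : u⁻¹ = u := inv_eq_of_mul_eq_one_right huu
    have huy' : u • y = x0 := by rw [← huy, smul_smul, huu, one_smul]
    set h' := u * h * u⁻¹
    have hh'x : h' • x0 = x0 := by
      show (u * h * u⁻¹) • x0 = x0
      rw [mul_smul, mul_smul, hui, huy, hhy, huy']
    have hh'N : h' ∈ N := (hst h').1 hh'x
    have hne : P.A h' ≠ H := by
      intro e
      have h1 : u * h * u⁻¹ ∈ H := e ▸ P.mem h'
      have h3 := (hst u).2 (P.normalizes_of (g := u) hhH hh1 h1)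
      rw [huy] at h3
      exact hy h3
    have hh'1 : h' ≠ 1 := fun e => hh1 (conj_eq_one_iff.1 e)
    have hAh : P.A h = H := P.eq hhH hh1
    have hh'H : h' ∉ H := fun h1 => hne (P.eq h1 hh'1)
    have hhN : h ∈ Subgroup.normalizer (P.A h' : Set G) := by
      have h1 : (u * h * u⁻¹) ∈ N := hh'N
      have h2 : h = u * h' * u⁻¹ := by
        show h = u * (u * h * u⁻¹) * u⁻¹
        calc h = (u * u) * h * (u * u)⁻¹ := by rw [huu]; group
          _ = _ := by group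
      have h3 : P.A h' = H.map (MulAut.conj u).toMonoidHom := by
        show P.A (u * h * u⁻¹) = _
        rw [P.conj, hAh]
      rw [Subgroup.mem_normalizer_iff]
      intro w
      simp only [h3, Subgroup.mem_map_equiv, MulAut.conj_symm_apply]
      rw [Subgroup.mem_normalizer_iff.1 h1 (u⁻¹ * w * u)]
      have e2 : u * h * u⁻¹ * (u⁻¹ * w * u) * (u * h * u⁻¹)⁻¹ = u⁻¹ * (h * w * h⁻¹) * u := by
        rw [hui]
        calc u * h * u * (u * w * u) * (u * h * u)⁻¹ = u * h * (u * u) * w * (u * u⁻¹) * h⁻¹ * u⁻¹ := by group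
          _ = u * (h * w * h⁻¹) * u := by rw [huu, hui, huu]; group
      rw [e2]
    -- `[h, h'] = 1`
    have hcomm : Commute h h' := by
      have h1 : h * h' * h⁻¹ * h'⁻¹ ∈ H := by
        rw [show h * h' * h⁻¹ * h'⁻¹ = h * (h' * h⁻¹ * h'⁻¹) by group]
        exact mul_mem hhH ((Subgroup.mem_normalizer_iff.1 hh'N _).1 (inv_mem hhH))
      have h2 : h * h' * h⁻¹ * h'⁻¹ ∈ P.A h' :=
        mul_mem ((Subgroup.mem_normalizer_iff.1 hhN h').1 (P.mem h')) (inv_mem (P.mem h'))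
      have h3 : h * h' * h⁻¹ * h'⁻¹ ∈ H ⊓ P.A h' := ⟨h1, h2⟩
      rw [P.inf_eq_bot (x := z) (fun e => hne e.symm), Subgroup.mem_bot] at h3
      exact mul_inv_eq_iff_eq_mul.1 (mul_inv_eq_one.1 h3)
    obtain ⟨hp, ho'⟩ := P.commute_orders hcomm hh1 hh'1 (by rw [hAh]; exact fun e => hne e.symm)
    have hp2 : orderOf h ≠ 2 := fun e => hy
      (Cfsg.Agent.Fusion.SEPairs.fixed_unique hse e hhy ((hst h).2 (hHN hhH)))
    set e := h * h'
    have he1 : e ≠ 1 := fun e1 => hne (by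
      have h1 : h' ∈ H := by rw [eq_inv_of_mul_eq_one_right e1]; exact inv_mem hhH
      exact P.eq h1 hh'1)
    have heo : orderOf e = orderOf h := by
      haveI := Fact.mk hp
      refine orderOf_eq_prime ?_ he1
      show (h * h') ^ orderOf h = 1
      rw [hcomm.mul_pow, pow_orderOf_eq_one, one_mul, ← ho', pow_orderOf_eq_one]
    have hue : Commute u e := by
      refine mul_inv_eq_iff_eq_mul.1 ?_
      show u * (h * h') * u⁻¹ = h * h'
      rw [show u * (h * h') * u⁻¹ = h' * (u * h' * u⁻¹) by show _ = u * h * u⁻¹ * _; group,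
        show u * h' * u⁻¹ = h by
          show u * (u * h * u⁻¹) * u⁻¹ = h
          calc u * (u * h * u⁻¹) * u⁻¹ = (u * u) * h * (u * u)⁻¹ := by group
            _ = h := by rw [huu]; group, hcomm.eq]
    have hhe : Commute h e := (Commute.refl h).mul_right hcomm
    set u' := h * u * h⁻¹
    have hu' : orderOf u' = 2 := hconj2 h hu
    have hu'e : Commute u' e := by
      have h1 := hue.map (MulAut.conj h).toMonoidHom
      have h2 : h * e * h⁻¹ = e := by rw [hhe.eq, mul_inv_cancel_right]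
      simpa [h2] using h1
    have hAe : ∀ w : G, orderOf w = 2 → Commute w e → P.A w = P.A e := fun w hw hc =>
      P.A_eq_of_commute hc (ne_one_of_orderOf_two hw) he1 (Or.inr (by rw [heo, hw]; exact hp2))
    have huu' : Commute u u' :=
      hpoint hu u' ((hAe u hu hue).trans (hAe u' hu' hu'e).symm ▸ P.mem u') hu'
    have hu'x : u' • x0 = y := by
      show (h * u * h⁻¹) • x0 = y
      rw [mul_smul, mul_smul, show h⁻¹ • x0 = x0 from inv_smul_eq_iff.2 ((hst h).2 (hHN hhH)).symm, huy, hhy]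
    have hw1 : u * u' ≠ 1 := by
      intro e1
      have h3 : h * u * h⁻¹ = u := (eq_inv_of_mul_eq_one_right e1).trans hui
      have h4 : h' = h := by
        show u * h * u⁻¹ = h
        rw [← (mul_inv_eq_iff_eq_mul.1 h3 : h * u = u * h), mul_inv_cancel_right]
      exact hne (by rw [h4, hAh])
    have hwo : orderOf (u * u') = 2 :=
      orderOf_eq_prime (by rw [huu'.mul_pow, pow_two, pow_two, huu, mul_self_eq_one hu', one_mul]) hw1
    refine hy (Cfsg.Agent.Fusion.SEPairs.fixed_unique hse hwo ?_ (x := y) (y := x0) ?_)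
    · rw [huu'.eq, mul_smul, huy', hu'x]
    · rw [mul_smul, hu'x, huy']
  -- `|D| = i`
  have hdz : ∀ d ∈ N, orderOf (d * z * d⁻¹) = 2 ∧ (d * z * d⁻¹) • x0 = x0 := fun d hd =>
    ⟨hconj2 d hz, (hfixI _ (hconj2 d hz)).2 ((Subgroup.mem_normalizer_iff.1 hd z).1 (P.mem z))⟩
  have hDcard : ∀ y : G ⧸ N, y ≠ x0 →
      Nat.card ↥(stabilizer G x0 ⊓ stabilizer G y) = Nat.card I := by
    intro y hy
    refine Nat.card_eq_of_bijective (fun d => (⟨(d : G) * z * (d : G)⁻¹, hdz _ ((hst _).1 d.2.1)⟩ : I)) ⟨?_, ?_⟩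
    · intro d d' e
      have e' : (d : G) * z * (d : G)⁻¹ = (d' : G) * z * (d' : G)⁻¹ := congrArg Subtype.val e
      have hc : Commute ((d' : G)⁻¹ * d) z := by
        refine mul_inv_eq_iff_eq_mul.1 ?_
        rw [show (d' : G)⁻¹ * d * z * ((d' : G)⁻¹ * d)⁻¹ = (d' : G)⁻¹ * ((d : G) * z * (d : G)⁻¹) * d' by group, e']
        group
      have hmem := (d'⁻¹ * d : ↥(stabilizer G x0 ⊓ stabilizer G y)).2
      have h1 := hmeet y hy _ (hle _ hc) hmem.2
      exact Subtype.ext (inv_mul_eq_one.1 h1).symm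
    · rintro ⟨b, hb, hbx⟩
      obtain ⟨d, hdx, hdy, hd⟩ :=
        Cfsg.Agent.Fusion.SEPairs.pair_transitive hse hy hz ((hfixI z hz).2 (P.mem z)) hb hbx
      exact ⟨⟨d, hdx, hdy⟩, Subtype.ext hd⟩
  have hsplit : ∀ y : G ⧸ N, y ≠ x0 → ∀ n ∈ N, ∃ d, d • x0 = x0 ∧ d • y = y ∧ d⁻¹ * n ∈ H := by
    intro y hy n hn
    obtain ⟨d, hdx, hdy, hd⟩ := Cfsg.Agent.Fusion.SEPairs.pair_transitive hse hy hz ((hfixI z hz).2 (P.mem z))
      (hdz n hn).1 (hdz n hn).2
    refine ⟨d, hdx, hdy, hle _ (mul_inv_eq_iff_eq_mul.1 ?_)⟩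
    rw [show d⁻¹ * n * z * (d⁻¹ * n)⁻¹ = d⁻¹ * (n * z * n⁻¹) * d by group, ← hd]
    group
  obtain ⟨y1, hy1⟩ := Cfsg.Agent.Fusion.SEPairs.exists_ne hse x0
  have hI2 : 2 ≤ Nat.card I := by
    by_contra hlt
    refine not_frob_of_simple (P.frob_of_selfnormalizing hz1 fun n hn => hle n (mul_inv_eq_iff_eq_mul.1 ?_))
    haveI : Subsingleton I := Finite.card_le_one_iff_subsingleton.1 (by omega)
    exact congrArg Subtype.val
      (Subsingleton.elim (⟨n * z * n⁻¹, hdz n hn⟩ : I) ⟨z, hz, (hfixI z hz).2 (P.mem z)⟩)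
  -- each swapper inverts the pair stabiliser
  have hinvert : ∀ {y : G ⧸ N}, y ≠ x0 → ∀ {u : G}, orderOf u = 2 → u • x0 = y →
      ∀ d : G, d • x0 = x0 → d • y = y → u * d * u⁻¹ = d⁻¹ := by
    intro y hy u hu huy d hdx hdy
    set D := stabilizer G x0 ⊓ stabilizer G y
    let J := {i : G // orderOf i = 2 ∧ i • x0 = y}
    have huu := mul_self_eq_one hu
    have hui : u⁻¹ = u := inv_eq_of_mul_eq_one_right huu
    have huy' : u • y = x0 := by rw [← huy, smul_smul, huu, one_smul]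
    let f : D → J := fun d => ⟨(d : G) * u * (d : G)⁻¹, hconj2 _ hu, by
      rw [mul_smul, mul_smul, show (d : G)⁻¹ • x0 = x0 from inv_smul_eq_iff.2 d.2.1.symm, huy]
      exact d.2.2⟩
    have hf : Function.Surjective f := by
      rintro ⟨i, hi, hix⟩
      obtain ⟨d, hdx, hdy, hd⟩ := Cfsg.Agent.Fusion.SEPairs.swappers_conj hse (Ne.symm hy) hi hix hu huy
      exact ⟨⟨d, hdx, hdy⟩, Subtype.ext hd⟩
    have hJ : Nat.card D = Nat.card J := by
      rw [hDcard y hy]; exact (Cfsg.Agent.Fusion.SEPairs.card_swappers hse (Ne.symm hy)).symm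
    have hfi : Function.Injective f := (hf.bijective_of_nat_card_le hJ.le).1
    have hnormD : ∀ e : D, u * (e : G) * u⁻¹ ∈ D := fun e => ⟨by
      show (u * (e : G) * u⁻¹) • x0 = x0
      rw [mul_smul, mul_smul, hui, huy, (e.2.2 : (e : G) • y = y), huy'], by
      show (u * (e : G) * u⁻¹) • y = y
      rw [mul_smul, mul_smul, hui, huy', (e.2.1 : (e : G) • x0 = x0), huy]⟩
    let g : D → D := fun e => ⟨(e : G)⁻¹ * (u * (e : G) * u⁻¹), mul_mem (inv_mem e.2) (hnormD e)⟩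
    have hg : Function.Injective g := by
      intro a b e
      have e' : (a : G)⁻¹ * (u * (a : G) * u⁻¹) = (b : G)⁻¹ * (u * (b : G) * u⁻¹) := congrArg Subtype.val e
      refine inv_injective (hfi (Subtype.ext ?_))
      show ((a⁻¹ : D) : G) * u * ((a⁻¹ : D) : G)⁻¹ = ((b⁻¹ : D) : G) * u * ((b⁻¹ : D) : G)⁻¹
      simp only [Subgroup.coe_inv, inv_inv]
      calc (a : G)⁻¹ * u * (a : G) = (a : G)⁻¹ * (u * (a : G) * u⁻¹) * u := by group
        _ = (b : G)⁻¹ * u * (b : G) := by rw [e']; group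
    obtain ⟨e, he⟩ := Finite.injective_iff_surjective.1 hg ⟨d, hdx, hdy⟩
    have he' : (e : G)⁻¹ * (u * (e : G) * u⁻¹) = d := congrArg Subtype.val he
    rw [← he']
    calc u * ((e : G)⁻¹ * (u * (e : G) * u⁻¹)) * u⁻¹ = u * (e : G)⁻¹ * u * (e : G) * (u * u)⁻¹ := by group
      _ = u⁻¹⁻¹ * (e : G)⁻¹ * u⁻¹ * (e : G) := by rw [huu, inv_inv, hui]; group
      _ = ((e : G)⁻¹ * (u * (e : G) * u⁻¹))⁻¹ := by group
  have hswap : ∀ y : G ⧸ N, y ≠ x0 → ∃ u : G, orderOf u = 2 ∧ u • x0 = y := fun y hy => by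
    have h1 := Cfsg.Agent.Fusion.SEPairs.card_swappers hse (Ne.symm hy)
    obtain ⟨⟨u, hu⟩⟩ := (Nat.card_pos_iff.1 (h1 ▸ (Nat.card_pos (α := I)))).1
    exact ⟨u, hu⟩
  have hDab : ∀ y : G ⧸ N, y ≠ x0 → ∀ d e : G, d • x0 = x0 → d • y = y → e • x0 = x0 → e • y = y →
      Commute d e := by
    intro y hy d e hdx hdy hex hey
    obtain ⟨u, hu, huy⟩ := hswap y hy
    have h1 := hinvert hy hu huy (d * e) (by rw [mul_smul, hex, hdx]) (by rw [mul_smul, hey, hdy])
    rw [show u * (d * e) * u⁻¹ = (u * d * u⁻¹) * (u * e * u⁻¹) by group, hinvert hy hu huy d hdx hdy,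
      hinvert hy hu huy e hex hey, ← mul_inv_rev, inv_inj] at h1
    exact h1.symm
  have hDH : ∀ y : G ⧸ N, y ≠ x0 → ∀ d : G, d • y = y → d ∈ H → d = 1 := fun y hy d h1 h2 => hmeet y hy d h2 h1
  have hodd : ∀ y : G ⧸ N, y ≠ x0 → ∀ d : G, d • x0 = x0 → d • y = y → Odd (orderOf d) := by
    intro y hy d hdx hdy
    by_contra he
    rw [Nat.not_odd_iff_even, even_iff_two_dvd] at he
    have ho := orderOf_pow_orderOf_div (orderOf_pos d).ne' he
    have hw : d ^ (orderOf d / 2) ∈ stabilizer G x0 ⊓ stabilizer G y :=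
      pow_mem (show d ∈ stabilizer G x0 ⊓ stabilizer G y from ⟨hdx, hdy⟩) _
    exact hy (Cfsg.Agent.Fusion.SEPairs.fixed_unique hse ho hw.1 hw.2).symm
  have hsq : ∀ y : G ⧸ N, y ≠ x0 → ∀ d : G, d • x0 = x0 → d • y = y → d * d ∈ H → d = 1 := by
    intro y hy d hdx hdy h2
    have hdd : d * d = 1 := hDH y hy _ (by rw [mul_smul, hdy, hdy]) h2
    refine orderOf_eq_one_iff.1 ?_
    rcases (Nat.dvd_prime Nat.prime_two).1 (orderOf_dvd_of_pow_eq_one (x := d) (n := 2) (by rw [pow_two, hdd])) with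
      h | h
    · exact h
    · have := hodd y hy d hdx hdy
      rw [h] at this
      exact absurd this (by decide)
  -- the pair stabilisers act fixed point freely on `H`
  have hfpf : ∀ y : G ⧸ N, y ≠ x0 → ∀ d : G, d • x0 = x0 → d • y = y → d ≠ 1 →
      ∀ h ∈ H, Commute d h → h = 1 := by
    intro y hy d hdx hdy hd1
    by_contra hcon
    push Not at hcon
    obtain ⟨w, hw, hwd, hw1⟩ := hcon
    obtain ⟨u, hu, huy⟩ := hswap y hy
    set C := Subgroup.centralizer ({d} : Set G)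
    set W := H ⊓ C
    have hwW : w ∈ W := ⟨hw, Subgroup.mem_centralizer_singleton_iff.2 hwd.eq.symm⟩
    have hui := hinvert hy hu huy d hdx hdy
    have hCu : ∀ c ∈ C, u * c * u⁻¹ ∈ C := by
      intro c hc
      rw [Subgroup.mem_centralizer_singleton_iff] at hc ⊢
      have h1 := (Commute.inv_right (show Commute c d from hc)).map (MulAut.conj u).toMonoidHom
      simp only [MulEquiv.coe_toMonoidHom, MulAut.conj_apply] at h1
      rw [show u * d⁻¹ * u⁻¹ = (u * d * u⁻¹)⁻¹ by group, hui, inv_inv] at h1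
      exact h1.eq
    by_cases hO : ∃ c ∈ C, c • x0 = y
    · obtain ⟨c, hc, hcy⟩ := hO
      have hn : c⁻¹ * u ∈ N := (hst _).1 (by rw [mul_smul, huy, ← hcy, inv_smul_smul])
      have hnd : (c⁻¹ * u) * d * (c⁻¹ * u)⁻¹ = d⁻¹ := by
        rw [show (c⁻¹ * u) * d * (c⁻¹ * u)⁻¹ = c⁻¹ * (u * d * u⁻¹) * c by group, hui]
        have h1 : Commute c d := Subgroup.mem_centralizer_singleton_iff.1 hc
        rw [mul_assoc, ← h1.inv_right.eq, inv_mul_cancel_left]
      obtain ⟨e, hex, hey, he⟩ := hsplit y hy _ hn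
      have hed := hDab y hy e d hex hey hdx hdy
      set h := e⁻¹ * (c⁻¹ * u)
      have hen : c⁻¹ * u = e * h := by simp only [h]; group
      have h2 : d * d ∈ H := by
        have hdN : d ∈ N := (hst d).1 hdx
        have e1 : h * d * h⁻¹ = d⁻¹ := by
          have h3 : e * (h * d * h⁻¹) * e⁻¹ = d⁻¹ := by rw [← hnd, hen]; group
          calc h * d * h⁻¹ = e⁻¹ * (e * (h * d * h⁻¹) * e⁻¹) * e := by group
            _ = d⁻¹ := by rw [h3, mul_assoc, ← hed.inv_right.eq, inv_mul_cancel_left]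
        have h4 : d * d = d * h⁻¹ * d⁻¹ * h := by
          have e2 : d = h * d⁻¹ * h⁻¹ := by
            calc d = (d⁻¹)⁻¹ := (inv_inv d).symm
              _ = (h * d * h⁻¹)⁻¹ := by rw [e1]
              _ = h * d⁻¹ * h⁻¹ := by group
          have e3 : d = h⁻¹ * d⁻¹ * h := by
            calc d = h⁻¹ * (h * d * h⁻¹) * h := by group
              _ = h⁻¹ * d⁻¹ * h := by rw [e1]
          calc d * d = d * (h⁻¹ * d⁻¹ * h) := by rw [← e3]
            _ = d * h⁻¹ * d⁻¹ * h := by group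
        rw [h4]
        exact mul_mem ((Subgroup.mem_normalizer_iff.1 hdN _).1 (inv_mem he)) he
      exact hd1 (hsq y hy d hdx hdy h2)
    push Not at hO
    -- orbit lengths
    let O := MulAction.orbit C x0
    let O' := MulAction.orbit C y
    have hOO : x0 ∉ O' := by
      rintro ⟨c, hc⟩
      exact hO (c : G)⁻¹ (inv_mem c.2) (inv_smul_eq_iff.2 hc.symm)
    have hbij : Nat.card O = Nat.card O' := by
      refine Nat.card_congr ((MulAction.toPerm u).subtypeEquiv fun o => ?_)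
      constructor
      · rintro ⟨c, rfl⟩
        refine ⟨⟨u * (c : G) * u⁻¹, hCu _ c.2⟩, ?_⟩
        show (u * (c : G) * u⁻¹) • y = u • ((c : G) • x0)
        rw [← huy, smul_smul, inv_mul_cancel_right, mul_smul]
      · rintro ⟨c, hc⟩
        refine ⟨⟨u * (c : G) * u⁻¹, hCu _ c.2⟩, ?_⟩
        show (u * (c : G) * u⁻¹) • x0 = o
        have hc' : (c : G) • y = u • o := hc
        rw [inv_eq_of_mul_eq_one_right (mul_self_eq_one hu), mul_smul, mul_smul, huy, hc', smul_smul,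
          mul_self_eq_one hu, one_smul]
    have hfree : ∀ (T : Set (G ⧸ N)), (∀ w ∈ W, ∀ t ∈ T, w • t ∈ T) → x0 ∉ T → Nat.card W ∣ Nat.card T := by
      intro T hT hxT
      letI : MulAction W T :=
        { smul := fun w t => ⟨(w : G) • (t : G ⧸ N), hT w w.2 t t.2⟩
          one_smul := fun t => Subtype.ext (one_smul G (t : G ⧸ N))
          mul_smul := fun w w' t => Subtype.ext (mul_smul (w : G) (w' : G) (t : G ⧸ N)) }
      exact Cfsg.Agent.Perm.card_dvd_of_free (X := T) (A := W) fun w t ht =>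
        Subtype.ext (hmeet _ (fun e => hxT (e ▸ t.2)) w w.2.1 (congrArg Subtype.val ht))
    have hd' : Nat.card W ∣ Nat.card O' := hfree O' (fun w hw t ⟨c, hc⟩ =>
      ⟨⟨w, hw.2⟩ * c, by
        show (w * (c : G)) • y = w • t
        rw [mul_smul]; exact congrArg (w • ·) hc⟩) hOO
    have hd : Nat.card W ∣ Nat.card ↥(O \ {x0}) := by
      refine hfree _ (fun w hw t ht => ⟨?_, fun e => ht.2 ?_⟩) (fun h => h.2 rfl)
      · obtain ⟨c, hc⟩ := ht.1
        refine ⟨⟨w, hw.2⟩ * c, ?_⟩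
        show (w * (c : G)) • x0 = w • t
        rw [mul_smul]; exact congrArg (w • ·) hc
      · have hwx : w • x0 = x0 := (hst w).2 (hHN hw.1)
        exact MulAction.injective w (e.trans hwx.symm)
    have hcardO : Nat.card O = Nat.card ↥(O \ {x0}) + 1 := by
      rw [Nat.card_coe_set_eq, Nat.card_coe_set_eq,
        Set.ncard_diff_singleton_add_one (MulAction.mem_orbit_self x0)]
    have h1 : Nat.card W ∣ 1 := (Nat.dvd_add_right hd).1 (hcardO ▸ hbij ▸ hd')
    have := Subgroup.card_eq_one.1 (Nat.dvd_one.1 h1)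
    rw [this, Subgroup.mem_bot] at hwW
    exact hw1 hwW
  -- a fixed point of a given pair stabiliser in every orbit
  set D := stabilizer G x0 ⊓ stabilizer G y1
  obtain ⟨d₁, hd₁, hd₁1⟩ : ∃ d ∈ D, d ≠ 1 := by
    haveI : Nontrivial D := Finite.one_lt_card_iff_nontrivial.1 (by rw [hDcard y1 hy1]; omega)
    exact (Subgroup.nontrivial_iff_exists_ne_one D).1 inferInstance
  have hDsub : ∀ y : G ⧸ N, y ≠ x0 → ∀ d ∈ D, d ≠ 1 → d • y = y →
      stabilizer G x0 ⊓ stabilizer G y = D := by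
    intro y hy d hd hd1 hdy
    refine (Subgroup.eq_of_le_of_card_ge ?_ (by rw [hDcard y hy, hDcard y1 hy1])).symm
    intro e he
    obtain ⟨e', he'x, he'y, he'⟩ := hsplit y hy e ((hst e).1 he.1)
    have hc : Commute d (e'⁻¹ * e) :=
      ((hDab y hy d e' hd.1 hdy he'x he'y).inv_right).mul_right (hDab y1 hy1 d e hd.1 hd.2 he.1 he.2)
    have h1 := hfpf y1 hy1 d hd.1 hd.2 hd1 _ he' hc
    rw [inv_mul_eq_one] at h1
    subst h1
    exact ⟨he'x, he'y⟩
  have horb : ∀ y : G ⧸ N, y ≠ x0 → ∃ h ∈ H, stabilizer G x0 ⊓ stabilizer G (h • y) = D := by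
    intro y hy
    obtain ⟨e, hex, hey, he⟩ := hsplit y hy d₁ ((hst _).1 hd₁.1)
    have hd₁N : d₁ ∈ N := (hst _).1 hd₁.1
    have he1 : e ≠ 1 := fun e1 => hd₁1 (hDH y1 hy1 d₁ hd₁.2 (by rw [e1, inv_one, one_mul] at he; exact he))
    have heN : e ∈ N := (hst _).1 hex
    let g : H → H := fun h => ⟨e⁻¹ * ((h : G) * e * (h : G)⁻¹), by
      rw [show e⁻¹ * ((h : G) * e * (h : G)⁻¹) = (e⁻¹ * (h : G) * e⁻¹⁻¹) * (h : G)⁻¹ by group]
      exact mul_mem ((Subgroup.mem_normalizer_iff.1 (inv_mem heN) _).1 h.2) (inv_mem h.2)⟩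
    have hg : Function.Injective g := by
      intro a b e1
      have e2 : e⁻¹ * ((a : G) * e * (a : G)⁻¹) = e⁻¹ * ((b : G) * e * (b : G)⁻¹) := congrArg Subtype.val e1
      have hc : Commute e ((b : G)⁻¹ * a) := by
        refine (mul_inv_eq_iff_eq_mul.1 ?_ : ((b : G)⁻¹ * a) * e = e * ((b : G)⁻¹ * a)).symm
        rw [show (b : G)⁻¹ * a * e * ((b : G)⁻¹ * a)⁻¹ = (b : G)⁻¹ * ((a : G) * e * (a : G)⁻¹) * b by group,
          mul_left_cancel e2]
        group
      exact Subtype.ext (inv_mul_eq_one.1 (hfpf y hy e hex hey he1 _ (mul_mem (inv_mem b.2) a.2) hc)).symm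
    obtain ⟨h, hh⟩ := Finite.injective_iff_surjective.1 hg ⟨e⁻¹ * d₁, he⟩
    have hh' : (h : G) * e * (h : G)⁻¹ = d₁ := mul_left_cancel (congrArg Subtype.val hh)
    have hhx : (h : G) • x0 = x0 := (hst _).2 (hHN h.2)
    have hne : (h : G) • y ≠ x0 := fun e1 => hy (MulAction.injective (h : G) (e1.trans hhx.symm))
    refine ⟨h, h.2, hDsub _ hne d₁ hd₁ hd₁1 ?_⟩
    rw [← hh', mul_smul, mul_smul, inv_smul_smul, hey]
  -- one orbit
  have hone : ∀ y y' : G ⧸ N, y ≠ x0 → y' ≠ x0 → stabilizer G x0 ⊓ stabilizer G y = D →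
      stabilizer G x0 ⊓ stabilizer G y' = D → y = y' := by
    intro y y' hy hy' hDy hDy'
    by_contra hyy
    set C := Subgroup.centralizer ({d₁} : Set G)
    have hd₁N : d₁ ∈ N := (hst _).1 hd₁.1
    let Φ := {v : G ⧸ N | ∀ d ∈ D, d • v = v}
    have hx0Φ : x0 ∈ Φ := fun d hd => hd.1
    have hmemΦ : ∀ {v : G ⧸ N}, v ≠ x0 → stabilizer G x0 ⊓ stabilizer G v = D → v ∈ Φ := fun {v} _ h d hd =>
      ((h.symm ▸ hd : d ∈ stabilizer G x0 ⊓ stabilizer G v)).2
    have hfixΦ : ∀ v : G ⧸ N, d₁ • v = v → v ∈ Φ := by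
      intro v hv
      by_cases hv0 : v = x0
      · rw [hv0]; exact hx0Φ
      · exact hmemΦ hv0 (hDsub v hv0 d₁ hd₁ hd₁1 hv)
    -- `C` has odd order
    have hCodd : Odd (Nat.card C) := by
      rw [← Nat.not_even_iff_odd, even_iff_two_dvd]
      intro h2
      obtain ⟨⟨v, hvC⟩, hv⟩ := exists_prime_orderOf_dvd_card' 2 h2
      rw [Subgroup.orderOf_mk] at hv
      obtain ⟨g, hg⟩ := isConj_iff.1 (Cfsg.Agent.Fusion.SEPairs.involutions_conj hse hz hv)
      have hvd : Commute v d₁ := Subgroup.mem_centralizer_singleton_iff.1 hvC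
      have h3 : g⁻¹ * d₁ * g ∈ H := by
        refine hle _ ?_
        have h4 := hvd.symm.map (MulAut.conj g⁻¹).toMonoidHom
        have h5 : g⁻¹ * v * g = z := by rw [← hg]; group
        simpa [h5] using h4
      set t : G ⧸ N := g • x0
      have hdt : d₁ • t = t := by
        have h6 : (g⁻¹ * d₁ * g) • x0 = x0 := (hst _).2 (hHN h3)
        rw [mul_smul, mul_smul, inv_smul_eq_iff] at h6
        exact h6
      by_cases ht : t = x0
      · exact hd₁1 (hDH y1 hy1 d₁ hd₁.2 (by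
          have hgN : g ∈ N := (hst g).1 ht
          have := (Subgroup.mem_normalizer_iff.1 hgN _).1 h3
          rwa [show g * (g⁻¹ * d₁ * g) * g⁻¹ = d₁ by group] at this))
      · have h7 : (g⁻¹ * d₁ * g) • (g⁻¹ • x0) = g⁻¹ • x0 := by
          rw [mul_smul, mul_smul, smul_inv_smul, hd₁.1]
        have h8 := hmeet _ (fun e1 => ht (by
          show g • x0 = x0
          conv_lhs => rw [← e1]
          rw [smul_inv_smul])) _ h3 h7
        exact hd₁1 (by
          calc d₁ = g * (g⁻¹ * d₁ * g) * g⁻¹ := by group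
            _ = 1 := by rw [h8, mul_one, mul_inv_cancel])
    -- swappers inside `Φ`
    have hswapΦ : ∀ a ∈ Φ, ∀ b ∈ Φ, a ≠ b → ∃ i : G, i • a = b ∧ i • b = a ∧
        (∀ d ∈ D, i * d * i⁻¹ = d⁻¹) := by
      intro a ha b hb hab
      obtain ⟨g, hg⟩ := Cfsg.Agent.Fusion.SEPairs.exists_smul_eq' x0 a
      have hb' : g⁻¹ • b ≠ x0 := fun e1 => hab (by rw [← hg, ← e1, smul_inv_smul])
      obtain ⟨u, hu, huy⟩ := hswap _ hb'
      have hub : u • (g⁻¹ • b) = x0 := by rw [← huy, smul_smul, mul_self_eq_one hu, one_smul]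
      refine ⟨g * u * g⁻¹, ?_, ?_, fun d hd => ?_⟩
      · rw [mul_smul, mul_smul, show g⁻¹ • a = x0 by rw [← hg, inv_smul_smul], huy, smul_inv_smul]
      · rw [mul_smul, mul_smul, hub, hg]
      · have h1 := hinvert hb' hu huy (g⁻¹ * d * g)
          (by rw [mul_smul, mul_smul, hg, ha d hd, ← hg, inv_smul_smul])
          (by rw [mul_smul, mul_smul, smul_inv_smul, hb d hd])
        calc g * u * g⁻¹ * d * (g * u * g⁻¹)⁻¹ = g * (u * (g⁻¹ * d * g) * u⁻¹) * g⁻¹ := by group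
          _ = d⁻¹ := by rw [h1]; group
    have hyΦ := hmemΦ hy hDy
    have hy'Φ := hmemΦ hy' hDy'
    -- transitivity of `C` on `Φ`
    have htrans : ∀ a ∈ Φ, ∀ b ∈ Φ, ∃ c ∈ C, c • a = b := by
      have hstep : ∀ c' ∈ Φ, ∀ a ∈ Φ, ∀ b ∈ Φ, a ≠ c' → b ≠ c' → ∃ c ∈ C, c • a = b := by
        intro c' hc' a ha b hb hac hbc
        obtain ⟨i, hia, -, hi⟩ := hswapΦ a ha c' hc' hac
        obtain ⟨j, hjc, -, hj⟩ := hswapΦ c' hc' b hb (Ne.symm hbc)
        refine ⟨j * i, Subgroup.mem_centralizer_singleton_iff.2 (mul_inv_eq_iff_eq_mul.1 ?_), by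
          rw [mul_smul, hia, hjc]⟩
        rw [show j * i * d₁ * (j * i)⁻¹ = j * (i * d₁ * i⁻¹) * j⁻¹ by group, hi d₁ hd₁,
          show j * d₁⁻¹ * j⁻¹ = (j * d₁ * j⁻¹)⁻¹ by group, hj d₁ hd₁, inv_inv]
      intro a ha b hb
      obtain ⟨c', hc', hac, hbc⟩ : ∃ c' ∈ Φ, a ≠ c' ∧ b ≠ c' := by
        by_cases h1 : a ≠ x0 ∧ b ≠ x0
        · exact ⟨x0, hx0Φ, h1⟩
        by_cases h2 : a ≠ y ∧ b ≠ y
        · exact ⟨y, hyΦ, h2⟩
        refine ⟨y', hy'Φ, ?_, ?_⟩
        · intro e1; subst e1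
          exact h2 ⟨Ne.symm hyy, fun e2 => h1 ⟨hy', e2 ▸ hy⟩⟩
        · intro e1; subst e1
          exact h2 ⟨fun e2 => h1 ⟨e2 ▸ hy, hy'⟩, Ne.symm hyy⟩
      exact hstep c' hc' a ha b hb hac hbc
    have hΦeq : Φ = MulAction.orbit C x0 := by
      ext v
      constructor
      · intro hv
        obtain ⟨c, hc, hcv⟩ := htrans x0 hx0Φ v hv
        exact ⟨⟨c, hc⟩, hcv⟩
      · rintro ⟨c, rfl⟩
        refine hfixΦ _ ?_
        show d₁ • ((c : G) • x0) = (c : G) • x0
        rw [smul_smul, ← Subgroup.mem_centralizer_singleton_iff.1 c.2, mul_smul, hd₁.1]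
    have hΦodd : Odd (Nat.card Φ) := by
      rw [hΦeq, Nat.card_congr (MulAction.orbitEquivQuotientStabilizer C x0), ← Subgroup.index_eq_card]
      exact hCodd.of_dvd_nat (Subgroup.index_dvd_card _)
    -- a swapper without fixed points on `Φ`
    obtain ⟨u, hu, huy⟩ := hswap y hy
    have hui : ∀ d ∈ D, u * d * u⁻¹ = d⁻¹ := fun d hd =>
      hinvert hy hu huy d hd.1 (hyΦ d hd)
    have hmapsΦ : ∀ v ∈ Φ, u • v ∈ Φ := fun v hv d hd => by
      have h1 : d * u = u * d⁻¹ := by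
        have h2 := hui d⁻¹ (inv_mem hd)
        rw [inv_inv] at h2
        rw [← mul_inv_eq_iff_eq_mul.1 h2]
      rw [smul_smul, h1, mul_smul, hv _ (inv_mem hd)]
    have hfree : ∀ v ∈ Φ, u • v ≠ v := by
      intro v hv hfix
      obtain ⟨g, hg⟩ := Cfsg.Agent.Fusion.SEPairs.exists_smul_eq' x0 v
      set u₀ := g⁻¹ * u * g
      have hu₀ : orderOf u₀ = 2 := by
        have := hconj2 g⁻¹ hu
        rwa [inv_inv] at this
      have hu₀x : u₀ • x0 = x0 := by
        show (g⁻¹ * u * g) • x0 = x0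
        rw [mul_smul, mul_smul, hg, hfix, ← hg, inv_smul_smul]
      set d₀ := g⁻¹ * d₁ * g
      have hd₀x : d₀ • x0 = x0 := by
        show (g⁻¹ * d₁ * g) • x0 = x0
        rw [mul_smul, mul_smul, hg, hv d₁ hd₁, ← hg, inv_smul_smul]
      have hne : g⁻¹ • x0 ≠ x0 := by
        intro e1
        rw [inv_smul_eq_iff, hg] at e1
        exact hy (huy.symm.trans (e1 ▸ hfix))
      have hd₀y : d₀ • (g⁻¹ • x0) = g⁻¹ • x0 := by
        show (g⁻¹ * d₁ * g) • (g⁻¹ • x0) = g⁻¹ • x0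
        rw [mul_smul, mul_smul, smul_inv_smul, hd₁.1]
      have hu₀H := (hfixI u₀ hu₀).1 hu₀x
      have hd₀N := (hst d₀).1 hd₀x
      have h2 : d₀ * d₀ ∈ H := by
        have e1 : u₀ * d₀ * u₀⁻¹ = d₀⁻¹ := by
          show g⁻¹ * u * g * (g⁻¹ * d₁ * g) * (g⁻¹ * u * g)⁻¹ = (g⁻¹ * d₁ * g)⁻¹
          rw [show g⁻¹ * u * g * (g⁻¹ * d₁ * g) * (g⁻¹ * u * g)⁻¹ = g⁻¹ * (u * d₁ * u⁻¹) * g by group,
            hui d₁ hd₁]
          group
        have e2 : d₀ * d₀ = d₀ * u₀ * d₀⁻¹ * u₀⁻¹ := by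
          have e3 : u₀ * d₀⁻¹ * u₀⁻¹ = d₀ := by
            rw [show u₀ * d₀⁻¹ * u₀⁻¹ = (u₀ * d₀ * u₀⁻¹)⁻¹ by group, e1, inv_inv]
          calc d₀ * d₀ = d₀ * (u₀ * d₀⁻¹ * u₀⁻¹) := by rw [e3]
            _ = d₀ * u₀ * d₀⁻¹ * u₀⁻¹ := by group
        rw [e2]
        exact mul_mem ((Subgroup.mem_normalizer_iff.1 hd₀N _).1 hu₀H) (inv_mem hu₀H)
      have h3 := hsq _ hne d₀ hd₀x hd₀y h2
      exact hd₁1 (by
        calc d₁ = g * (g⁻¹ * d₁ * g) * g⁻¹ := by group
          _ = 1 := by rw [show g⁻¹ * d₁ * g = 1 from h3, mul_one, mul_inv_cancel])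
    let τ : Equiv.Perm Φ := Function.Involutive.toPerm (fun v => ⟨u • (v : G ⧸ N), hmapsΦ _ v.2⟩)
      (fun v => Subtype.ext (by
        show u • u • (v : G ⧸ N) = v
        rw [smul_smul, mul_self_eq_one hu, one_smul]))
    haveI := Fintype.ofFinite Φ
    have hτ : τ ^ 2 ^ 1 = 1 := by
      rw [pow_one, pow_two]
      ext v
      show u • u • (v : G ⧸ N) = v
      rw [smul_smul, mul_self_eq_one hu, one_smul]
    have hsupp : τ.support = Finset.univ := by
      ext v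
      simp only [Equiv.Perm.mem_support, Finset.mem_univ, iff_true]
      exact fun e1 => hfree v v.2 (congrArg Subtype.val e1)
    obtain ⟨w, hw⟩ := Equiv.Perm.exists_fixed_point_of_prime (p := 2) (n := 1)
      (by rw [← Nat.card_eq_fintype_card]; exact hΦodd.not_two_dvd_nat) (σ := τ) hτ
    exact hfree w w.2 (congrArg Subtype.val hw)
  -- two-transitivity
  have htransH : ∀ y : G ⧸ N, y ≠ x0 → ∃ h ∈ H, h • y1 = y := by
    intro y hy
    obtain ⟨h, hh, hD⟩ := horb y hy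
    have hne : h • y ≠ x0 := fun e1 => hy (MulAction.injective h (e1.trans ((hst h).2 (hHN hh)).symm))
    have e2 := hone _ y1 hne hy1 hD rfl
    exact ⟨h⁻¹, inv_mem hh, by rw [← e2, inv_smul_smul]⟩
  have hHcard : Nat.card H + 1 = Fintype.card (G ⧸ N) := by
    have hbij : Function.Bijective (fun h : H => (⟨(h : G) • y1, fun e1 => hy1
        (MulAction.injective (h : G) (e1.trans ((hst _).2 (hHN h.2)).symm))⟩ : {y : G ⧸ N // y ≠ x0})) := by
      refine ⟨fun a b e1 => ?_, fun y => ?_⟩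
      · have e2 : (a : G) • y1 = (b : G) • y1 := congrArg Subtype.val e1
        have h1 := hmeet y1 hy1 ((b : G)⁻¹ * a) (mul_mem (inv_mem b.2) a.2)
          (by rw [mul_smul, e2, inv_smul_smul])
        exact Subtype.ext (inv_mul_eq_one.1 h1).symm
      · obtain ⟨h, hh, e1⟩ := htransH y y.2
        exact ⟨⟨h, hh⟩, Subtype.ext e1⟩
    rw [Nat.card_eq_of_bijective _ hbij, Nat.card_eq_fintype_card, Fintype.card_subtype_compl,
      Fintype.card_subtype_eq]
    have := Fintype.card_pos_iff.2 ⟨x0⟩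
    omega
  have htwo : ∀ a b : G ⧸ N, a ≠ b → ∃ g : G, g • a = x0 ∧ g • b = y1 := by
    intro a b hab
    obtain ⟨g, hg⟩ := Cfsg.Agent.Fusion.SEPairs.exists_smul_eq' a x0
    obtain ⟨h, hh, e1⟩ := htransH (g • b) fun e => hab (MulAction.injective g (hg.trans e.symm))
    refine ⟨h⁻¹ * g, ?_, ?_⟩
    · rw [mul_smul, hg, inv_smul_eq_iff, (hst h).2 (hHN hh)]
    · rw [mul_smul, ← e1, inv_smul_smul]
  haveI hfaith : FaithfulSMul G (G ⧸ N) := by
    refine ⟨fun {a b} hab => ?_⟩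
    have hk : (MulAction.toPermHom G (G ⧸ N)).ker = ⊥ := by
      rcases (MonoidHom.normal_ker (MulAction.toPermHom G (G ⧸ N))).eq_bot_or_eq_top with h | h
      · exact h
      · exact absurd (eq_top_iff.2 fun g _ => (hst g).1 (Equiv.Perm.ext_iff.1
          (MonoidHom.mem_ker.1 (h ▸ Subgroup.mem_top g)) x0)) hNtop
    exact (MonoidHom.ker_eq_bot_iff _).1 hk (Equiv.ext hab)
  have hZ : Cfsg.IsZassenhausGroup G (G ⧸ N) := by
    refine ⟨hfaith, ?_, ?_, ?_, ?_⟩
    · rw [MulAction.is_two_pretransitive_iff]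
      intro a b c d hab hcd
      obtain ⟨g, hga, hgb⟩ := htwo a b hab
      obtain ⟨g', hgc, hgd⟩ := htwo c d hcd
      exact ⟨g'⁻¹ * g, by rw [mul_smul, hga, inv_smul_eq_iff, hgc], by rw [mul_smul, hgb, inv_smul_eq_iff, hgd]⟩
    · intro g a b c hab hbc hac ha hb hc
      obtain ⟨k, hka, hkb⟩ := htwo a b hab
      set f := k * g * k⁻¹
      have hfa : f • x0 = x0 := by
        show (k * g * k⁻¹) • x0 = x0
        rw [mul_smul, mul_smul, ← hka, inv_smul_smul, ha]
      have hfb : f • y1 = y1 := by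
        show (k * g * k⁻¹) • y1 = y1
        rw [mul_smul, mul_smul, ← hkb, inv_smul_smul, hb]
      have hfc : f • (k • c) = k • c := by
        show (k * g * k⁻¹) • (k • c) = k • c
        rw [mul_smul, mul_smul, inv_smul_smul, hc]
      by_contra hg1
      have hf1 : f ≠ 1 := fun e1 => hg1 (conj_eq_one_iff.1 e1)
      have hkc : k • c ≠ x0 := fun e1 => hac (MulAction.injective k (hka.trans e1.symm))
      have := hone _ y1 hkc hy1 (hDsub _ hkc f ⟨hfa, hfb⟩ hf1 hfc) rfl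
      exact hbc (MulAction.injective k (hkb.trans this.symm))
    · exact ⟨d₁, hd₁1, x0, y1, Ne.symm hy1, hd₁.1, hd₁.2⟩
    · intro K hK ht
      rcases hK.eq_bot_or_eq_top with rfl | rfl
      · exfalso
        obtain ⟨⟨g, hg⟩, e1⟩ := ht.exists_smul_eq x0 y1
        rw [Subgroup.mem_bot] at hg
        subst hg
        exact hy1 (e1.symm.trans (one_smul G x0))
      · refine ⟨x0, fun e1 => ?_⟩
        have h1 : (⟨d₁, Subgroup.mem_top _⟩ : (⊤ : Subgroup G)) ∈ stabilizer (⊤ : Subgroup G) x0 := hd₁.1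
        exact hd₁1 (congrArg Subtype.val (Subgroup.mem_bot.1 (e1.le h1)))
  have hHle : H ≤ stabilizer G x0 := fun h hh => (hst h).2 (hHN hh)
  have honly : ∀ v ∈ H, v ≠ 1 → ∀ c : G ⧸ N, v • c = c → c = x0 := fun v hv hv1 c hc =>
    by_contra fun hne => hv1 (hmeet c hne v hv hc)
  have he : Odd (Nat.card D) := by
    rw [← Nat.not_even_iff_odd, even_iff_two_dvd]
    intro h2
    obtain ⟨⟨d, hd⟩, hdo⟩ := exists_prime_orderOf_dvd_card' 2 h2
    rw [Subgroup.orderOf_mk] at hdo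
    exact hy1 (Cfsg.Agent.Fusion.SEPairs.fixed_unique hse hdo hd.1 hd.2).symm
  have hpsl : ∀ (F : Type) (_ : Field F) (_ : Fintype F),
      Nonempty (G ≃* Matrix.ProjectiveSpecialLinearGroup (Fin 2) F) → PSLorSz G :=
    fun F iF iFF ⟨iso⟩ => Or.inl ⟨F, iF, iFF, four_le_card_field hna iso, ⟨iso⟩⟩
  rcases Cfsg.Agent.Lie.Feit.feit_inequality hZ (Ne.symm hy1) (h := Nat.card H) hHcard.symm rfl he hHle hHcard
      honly with hsmall | ⟨hH2, hHna, -⟩
  · change Nat.card H - 1 ≤ 2 * Nat.card D at hsmall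
    obtain ⟨k, hk⟩ := Cfsg.Agent.Lie.Feit.stab_dvd hZ.2.2.1 (Ne.symm hy1)
    have hD2 : 2 ≤ Nat.card D := (hDcard y1 hy1).symm ▸ hI2
    by_cases h2e : 2 * Nat.card D = Fintype.card (G ⧸ N) - 2
    · obtain ⟨F, iF, iFF, hiso⟩ := Cfsg.Agent.Lie.ZassenhausOddHalf.psl_of_half_odd hZ (Ne.symm hy1) he h2e
      exact hpsl F iF iFF hiso
    · have heq : Nat.card D = Fintype.card (G ⧸ N) - 2 := by
        rcases k with _ | _ | k
        · exfalso
          have hHbig : 2 ≤ Nat.card H := by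
            haveI : Nontrivial H := (Subgroup.nontrivial_iff_ne_bot H).2 (P.A_ne_bot hz1)
            exact Finite.one_lt_card
          omega
        · rw [hk]; simp [D]
        · exfalso
          have : Nat.card D * 2 ≤ Nat.card D * (k + 1 + 1) := Nat.mul_le_mul_left _ (by omega)
          change Fintype.card (G ⧸ N) - 2 = Nat.card D * (k + 1 + 1) at hk
          omega
      obtain ⟨F, iF, iFF, hiso⟩ := Cfsg.Agent.Lie.ZassenhausOddHalf.psl_of_sharp_odd hZ (Ne.symm hy1) he heq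
      exact hpsl F iF iFF hiso
  · obtain ⟨n, -, hn1, -, -, -, hcard, -⟩ :=
      Cfsg.Agent.Lie.ZassenhausSuzuki.suzuki_data hZ (Ne.symm hy1) H hHle hHcard honly hH2 hHna
    have hCIT : Cfsg.Agent.Solv.CITGroups.CIT G := by
      intro t ht
      obtain ⟨g, hg⟩ := isConj_iff.1 (Cfsg.Agent.Fusion.SEPairs.involutions_conj hse hz ht)
      refine (hH2.map (MulAut.conj g).toMonoidHom).to_le fun w hw => ?_
      refine ⟨g⁻¹ * w * g, hle _ ?_, by simp [mul_assoc]⟩
      have h1 : Commute w t := Subgroup.mem_centralizer_singleton_iff.1 hw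
      have h2 := h1.map (MulAut.conj g⁻¹).toMonoidHom
      have h3 : g⁻¹ * t * g = z := by rw [← hg]; group
      simpa [h3] using h2
    have h2 : 2 ∣ Nat.card G := hz ▸ orderOf_dvd_natCard z
    rcases Cfsg.Agent.Solv.CITGroups.cit_classification_iso hna hCIT h2 with
      ⟨F, iF, iFF, -, hiso⟩ | ⟨F, iF, iFF, hF, ⟨iso⟩⟩ | hs
    · exact hpsl F iF iFF hiso
    · exfalso
      rw [Nat.card_congr iso.toEquiv, Cfsg.Agent.Spor.PlaneAut.card_psl34 hF] at hcard
      have hn : n ≤ 3 := by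
        by_contra hbig
        have h16 : 2 ^ 4 ≤ 2 ^ n := Nat.pow_le_pow_right (by norm_num) (by omega)
        have h3 : (2 ^ 4) ^ 2 * ((2 ^ 4) ^ 2 + 1) * (2 ^ 4 - 1) ≤ (2 ^ n) ^ 2 * ((2 ^ n) ^ 2 + 1) * (2 ^ n - 1) := by
          gcongr
        norm_num at h3 hcard
        omega
      interval_cases n <;> norm_num at hcard
    · exact Or.inr hs

end Part

end Cfsg.Agent.Solv.Partition
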