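import Cfsg.Agent.Lib.Solv.Partition.Reduce

/-!
# Centralisers of involutions in a group with a partition
-/

set_option autoImplicit false
set_option linter.style.haveILetI false
set_option linter.unusedSectionVars false

namespace Cfsg.Agent.Solv.Partition

universe u

variable {G : Type u} [Group G] [Finite G]

namespace Part

variable (P : Part G)

theorem ne_one_of_orderOf_two {u : G} (hu : orderOf u = 2) : u ≠ 1 := fun e => by
  rw [e, orderOf_one] at hu; omega

theorem mul_self_eq_one {u : G} (hu : orderOf u = 2) : u * u = 1 := by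
  rw [← pow_two, ← hu, pow_orderOf_eq_one]

/-- Outside the component, the centraliser of an involution has only involutions. -/
theorem sq_of_commute {u w : G} (hu : orderOf u = 2) (hc : Commute w u) (hw : w ∉ P.A u) : orderOf w = 2 := by
  obtain ⟨-, e⟩ := P.commute_orders hc.symm (ne_one_of_orderOf_two hu) (fun e => hw (e ▸ one_mem _))
    (fun e => hw (e ▸ P.mem w))
  omega

/-- An element outside commuting with an involution inverts the centraliser inside the component. -/
theorem inverts {u w b : G} (hu : orderOf u = 2) (hc : Commute w u) (hw : w ∉ P.A u) (hb : b ∈ P.A u)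
    (hbc : Commute b u) : w * b * w⁻¹ = b⁻¹ := by
  have h1 := P.sq_of_commute hu (hc.mul_left hbc) fun h => hw (((P.A u).mul_mem_cancel_right hb).1 h)
  have h2 := mul_self_eq_one h1
  have h3 := mul_self_eq_one (P.sq_of_commute hu hc hw)
  calc w * b * w⁻¹ = (w * b * (w * b)) * b⁻¹ * (w * w)⁻¹ := by group
    _ = b⁻¹ := by rw [h2, h3]; group

/-- Either the centraliser of an involution has exponent two, or it is abelian-by-two. -/
theorem centralizer_cases {u : G} (hu : orderOf u = 2) :
    (∀ w, Commute w u → w ∈ P.A u) ∨ (∀ w, Commute w u → w * w = 1) ∨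
      ∃ c b, Commute c u ∧ c ∉ P.A u ∧ Commute b u ∧ b ∈ P.A u ∧ b * b ≠ 1 := by
  by_cases h1 : ∀ w, Commute w u → w ∈ P.A u
  · exact Or.inl h1
  right
  push Not at h1
  obtain ⟨c, hc, hcA⟩ := h1
  by_cases h2 : ∀ w, Commute w u → w * w = 1
  · exact Or.inl h2
  push Not at h2
  obtain ⟨b, hb, hb2⟩ := h2
  refine Or.inr ⟨c, b, hc, hcA, hb, ?_, hb2⟩
  by_contra hbA
  exact hb2 (mul_self_eq_one (P.sq_of_commute hu hb hbA))

/-- An involution commuting with the component meets it in the expected way. -/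
theorem mem_sylow_of_normalizes {u : G} (S : Sylow 2 G) (hS : (S : Subgroup G) ≤ P.A u)
    (hnil : Group.IsNilpotent (P.A u)) {w : G} (hw : orderOf w = 2)
    (hwN : w ∈ Subgroup.normalizer (P.A u : Set G)) : w ∈ (S : Subgroup G) := by
  haveI : Fact (Nat.Prime 2) := ⟨Nat.prime_two⟩
  have hall' : ∀ (p : ℕ) (_ : Fact p.Prime) (Q : Sylow p (P.A u)), (Q : Subgroup (P.A u)).Normal :=
    ((Group.isNilpotent_of_finite_tfae (G := P.A u)).out 0 3).1 hnil
  have hSn := hall' 2 inferInstance (S.subtype hS)
  have hconj : ∀ a ∈ (S : Subgroup G), w * a * w⁻¹ ∈ (S : Subgroup G) := by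
    intro a ha
    have hmem : w * a * w⁻¹ ∈ P.A u := (Subgroup.mem_normalizer_iff.1 hwN a).1 (hS ha)
    haveI := Sylow.unique_of_normal (S.subtype hS) hSn
    obtain ⟨k, hk⟩ := (IsPGroup.iff_orderOf.1 S.isPGroup') ⟨a, ha⟩
    rw [Subgroup.orderOf_mk] at hk
    have ho : orderOf (⟨w * a * w⁻¹, hmem⟩ : P.A u) = 2 ^ k := by
      rw [Subgroup.orderOf_mk, ← hk]
      exact orderOf_injective (MulAut.conj w).toMonoidHom (MulAut.conj w).injective a
    obtain ⟨Q, hQ⟩ := (IsPGroup.of_card (G := Subgroup.zpowers (⟨w * a * w⁻¹, hmem⟩ : P.A u)) (p := 2) (n := k)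
      (by rw [Nat.card_zpowers, ho])).exists_le_sylow
    have := hQ (Subgroup.mem_zpowers _)
    rw [Subsingleton.elim Q (S.subtype hS)] at this
    exact this
  have hN : Subgroup.zpowers w ≤ Subgroup.normalizer ((S : Subgroup G) : Set G) := by
    refine Subgroup.zpowers_le.2 (Subgroup.mem_normalizer_iff.2 fun a => ⟨hconj a, fun ha => ?_⟩)
    have h2 := hconj _ ha
    rwa [show w * (w * a * w⁻¹) * w⁻¹ = (w * w) * a * (w * w)⁻¹ by group, mul_self_eq_one hw, one_mul, inv_one,
      mul_one] at h2
  have hp : IsPGroup 2 (Subgroup.zpowers w) := IsPGroup.of_card (n := 1) (by rw [Nat.card_zpowers, hw]; rfl)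
  exact (S.is_maximal' (hp.to_sup_of_normal_right' S.isPGroup' hN) le_sup_right) ▸
    Subgroup.mem_sup_left (Subgroup.mem_zpowers w)

/-- If a Sylow 2-subgroup lies in the component of an involution, all involution centralisers there do. -/
theorem centralizer_le_of_sylow {u v : G} (S : Sylow 2 G) (hS : (S : Subgroup G) ≤ P.A u)
    (hnil : Group.IsNilpotent (P.A u)) (hv : orderOf v = 2) (hvA : v ∈ P.A u) {w : G} (hc : Commute w v) :
    w ∈ P.A u := by
  have hAv : P.A v = P.A u := P.eq hvA (ne_one_of_orderOf_two hv)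
  by_contra hw
  have h2 := P.sq_of_commute hv hc (hAv.symm ▸ hw)
  exact hw (hS (P.mem_sylow_of_normalizes S hS hnil h2
    (P.normalizes_of_commute hvA (ne_one_of_orderOf_two hv) hc)))

end Part

end Cfsg.Agent.Solv.Partition
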