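import Cfsg.Agent.Lib.Solv.Partition.Engine

/-!
# The group induced on a minimal normal `q`-subgroup
-/

set_option autoImplicit false
set_option linter.style.haveILetI false
set_option linter.unusedSectionVars false

namespace Cfsg.Agent.Solv.Partition

open Finset

universe u

variable {G : Type u} [Group G]

theorem mul_pow_conj (g v : G) : ∀ n : ℕ,
    (v * g) ^ n = ((List.range n).map fun i => g ^ i * v * (g ^ i)⁻¹).prod * g ^ n
  | 0 => by simp
  | n + 1 => by
    rw [pow_succ, mul_pow_conj g v n, List.range_succ, List.map_append, List.prod_append, pow_succ]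
    simp only [List.map_cons, List.map_nil, List.prod_cons, List.prod_nil, mul_one]
    group

variable [Finite G]

theorem q_free_power (g : G) (q : ℕ) [hq : Fact q.Prime] :
    ¬ q ∣ orderOf (g ^ q ^ (orderOf g).factorization q) := by
  rw [orderOf_pow_of_dvd (pow_ne_zero _ hq.out.ne_zero) (Nat.ordProj_dvd _ _)]
  exact Nat.not_dvd_ordCompl hq.out (orderOf_pos g).ne'

/-- The image of `G` on a minimal normal `q`-subgroup. -/
theorem linear_data (V : Subgroup G) [V.Normal] (hV1 : V ≠ ⊥) {q : ℕ} [hqf : Fact q.Prime]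
    (hab : IsMulCommutative V) (hexp : ∀ v ∈ V, v ^ q = 1)
    (hmin : ∀ K : Subgroup G, K.Normal → K ≤ V → K = ⊥ ∨ K = V)
    (hfpf : ∀ g : G, g ∉ Subgroup.centralizer (V : Set G) → ¬ q ∣ orderOf g →
      ∀ v ∈ V, Commute g v → v = 1)
    (hmix : ∀ g : G, g ∉ Subgroup.centralizer (V : Set G) → q ∣ orderOf g →
      ∀ r : ℕ, r.Prime → r ∣ orderOf g → r = q) :
    ¬ q ∣ (Subgroup.centralizer (V : Set G)).index ∨
      ∃ g v : G, g ∉ Subgroup.centralizer (V : Set G) ∧ g ^ q ∈ Subgroup.centralizer (V : Set G) ∧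
        v ∈ V ∧ (v * g) ^ q ≠ g ^ q ∧ (∃ k : ℕ, orderOf g = q ^ k) ∧
        (q = 2 → ∃ h : G, h ∉ Subgroup.centralizer (V : Set G) ∧ Odd (orderOf h) ∧
          g * h * g⁻¹ * h ∈ Subgroup.centralizer (V : Set G)) := by
  classical
  refine or_iff_not_imp_left.2 fun hdvd => ?_
  rw [not_not] at hdvd
  have hqp := hqf.out
  letI : CommGroup V :=
    { (inferInstance : Group V) with mul_comm := fun a b => hab.is_comm.comm a b }
  let φ : G →* MulAut V := MulAut.conjNormal
  have hker : φ.ker = Subgroup.centralizer (V : Set G) := by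
    ext g
    rw [MonoidHom.mem_ker, Subgroup.mem_centralizer_iff]
    constructor
    · intro h v hv
      have h1 : ((φ g ⟨v, hv⟩ : V) : G) = v := by rw [h]; rfl
      rw [MulAut.conjNormal_apply, mul_inv_eq_iff_eq_mul] at h1
      exact h1.symm
    · intro h
      refine MulEquiv.ext fun v => Subtype.ext ?_
      rw [MulAut.conjNormal_apply, MulAut.one_apply, mul_inv_eq_iff_eq_mul]
      exact (h v.1 v.2).symm
  let π := QuotientGroup.mk' φ.ker
  let ψ : G ⧸ φ.ker →* MulAut V := QuotientGroup.kerLift φ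
  have hψ : ∀ g : G, ψ (π g) = φ g := fun g => rfl
  haveI : Nontrivial V := (Subgroup.nontrivial_iff_ne_bot V).2 hV1
  have hmem : ∀ g : G, π g ≠ 1 → g ∉ Subgroup.centralizer (V : Set G) := fun g h hg =>
    h ((QuotientGroup.eq_one_iff g).2 (hker ▸ hg))
  have hfix : ∀ (g : G) (v : V), φ g v = v → Commute g (v : G) := fun g v h => by
    have h1 := congrArg (fun w : V => (w : G)) h
    simp only [φ, MulAut.conjNormal_apply] at h1
    exact mul_inv_eq_iff_eq_mul.1 h1
  obtain ⟨x, v, hx, hv, hh⟩ := exists_norm_ne_one ψ (QuotientGroup.kerLift_injective φ) (q := q)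
    (fun v => Subtype.ext (hexp v.1 v.2))
    (by
      intro z hz hzq w hw
      obtain ⟨g, rfl⟩ := QuotientGroup.mk'_surjective φ.ker z
      set a := (orderOf g).factorization q
      have hne : π (g ^ q ^ a) ≠ 1 := fun e => by
        rw [map_pow] at e
        exact hz (orderOf_eq_one_iff.1 (Nat.eq_one_of_dvd_coprimes
          (((hqp.coprime_iff_not_dvd).2 hzq).pow_left a) (orderOf_dvd_of_pow_eq_one e) dvd_rfl))
      refine Subtype.ext (hfpf _ (hmem _ hne) (q_free_power g q) w.1 w.2 ?_)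
      exact (hfix g w hw).pow_left _)
    (by
      intro z hz r hr hrz
      obtain ⟨g, rfl⟩ := QuotientGroup.mk'_surjective φ.ker z
      have hd := orderOf_map_dvd π g
      refine hmix g (hmem g fun e => ?_) (hz.trans hd) r hr (hrz.trans hd)
      rw [e, orderOf_one] at hz
      exact hqp.ne_one (Nat.dvd_one.1 hz))
    (by
      intro Q hQn hQ
      haveI := hQn
      have hVn : V.Normal := inferInstance
      let C : Subgroup G :=
        { carrier := {w | ∃ hw : w ∈ V, ∀ z ∈ Q, ψ z ⟨w, hw⟩ = ⟨w, hw⟩}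
          one_mem' := ⟨one_mem V, fun z _ => map_one (ψ z)⟩
          mul_mem' := fun {a b} ⟨ha, ha'⟩ ⟨hb, hb'⟩ => ⟨mul_mem ha hb, fun z hz => by
            show ψ z (⟨a, ha⟩ * ⟨b, hb⟩) = ⟨a, ha⟩ * ⟨b, hb⟩
            rw [map_mul, ha' z hz, hb' z hz]⟩
          inv_mem' := fun {a} ⟨ha, ha'⟩ => ⟨inv_mem ha, fun z hz => by
            show ψ z (⟨a, ha⟩ : V)⁻¹ = (⟨a, ha⟩ : V)⁻¹
            rw [map_inv, ha' z hz]⟩ }
      haveI : C.Normal := by
        refine ⟨fun w hw g => ?_⟩
        obtain ⟨hw, hw'⟩ := hw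
        refine ⟨hVn.conj_mem w hw g, fun z hz => ?_⟩
        have e : (⟨g * w * g⁻¹, hVn.conj_mem w hw g⟩ : V) = ψ (π g) ⟨w, hw⟩ :=
          Subtype.ext (by rw [hψ, MulAut.conjNormal_apply])
        rw [e, ← MulAut.mul_apply, ← map_mul, show z * π g = π g * ((π g)⁻¹ * z * (π g)⁻¹⁻¹) by group,
          map_mul, MulAut.mul_apply, hw' _ (hQn.conj_mem z hz (π g)⁻¹)]
      letI : MulAction Q V :=
        { smul := fun z w => ψ (z : G ⧸ φ.ker) w
          one_smul := fun w => by show ψ (1 : G ⧸ φ.ker) w = w; rw [map_one]; rfl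
          mul_smul := fun z z' w => by
            show ψ ((z : G ⧸ φ.ker) * z') w = ψ z (ψ z' w)
            rw [map_mul]; rfl }
      haveI hVq : IsPGroup q V := fun w => ⟨1, Subtype.ext (by simpa using hexp w.1 w.2)⟩
      have hone : (1 : V) ∈ MulAction.fixedPoints Q V := fun z => map_one (ψ (z : G ⧸ φ.ker))
      have hqV : q ∣ Nat.card V := by
        obtain ⟨k, hk⟩ := IsPGroup.iff_card.1 hVq
        have := Finite.one_lt_card (α := V)
        rw [hk] at this ⊢
        exact dvd_pow_self q (by rintro rfl; simp at this)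
      obtain ⟨w, hwf, hw1⟩ := hQ.exists_fixed_point_of_prime_dvd_card_of_fixed_point V hqV hone
      have hC : C ≠ ⊥ := fun e => by
        have h1 : (w : G) ∈ C := ⟨w.2, fun z hz => hwf ⟨z, hz⟩⟩
        rw [e, Subgroup.mem_bot] at h1
        exact hw1 (Subtype.ext h1.symm)
      have hCV : C = V := (hmin C inferInstance fun w hw => hw.1).resolve_left hC
      rw [eq_bot_iff]
      intro z hz
      rw [Subgroup.mem_bot]
      refine QuotientGroup.kerLift_injective φ ?_
      rw [map_one]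
      refine MulEquiv.ext fun w => ?_
      have h2 : (w : G) ∈ C := by rw [hCV]; exact w.2
      obtain ⟨_, h3⟩ := h2
      exact h3 z hz)
    (by
      show q ∣ φ.ker.index
      rw [hker]; exact hdvd)
  obtain ⟨g₀, rfl⟩ := QuotientGroup.mk'_surjective φ.ker x
  set k := orderOf g₀ / q ^ (orderOf g₀).factorization q
  have hk : k.Coprime q := ((hqp.coprime_iff_not_dvd).2 (Nat.not_dvd_ordCompl hqp (orderOf_pos g₀).ne')).symm
  obtain ⟨j, hj⟩ : ∃ j : ℕ, (π g₀ ^ k) ^ j = π g₀ :=
    exists_pow_eq_self_of_coprime (by rw [hx]; exact hk)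
  refine ⟨(g₀ ^ k) ^ j, v, ?_, ?_, v.2, ?_, ?_, ?_⟩
  · refine hmem _ ?_
    rw [map_pow, map_pow, hj]
    intro e
    rw [e, orderOf_one] at hx
    exact hqp.ne_one hx.symm
  · rw [← hker, ← QuotientGroup.eq_one_iff]
    show π (((g₀ ^ k) ^ j) ^ q) = 1
    rw [map_pow, map_pow, map_pow, hj, ← hx, pow_orderOf_eq_one]
  · intro e
    rw [mul_pow_conj, mul_eq_right] at e
    refine hv (Subtype.ext ?_)
    rw [Subgroup.coe_one, ← e, Finset.prod_eq_multiset_prod]
    simp only [Finset.range_val, Multiset.range, Multiset.map_coe, Multiset.prod_coe]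
    rw [SubmonoidClass.coe_list_prod, List.map_map]
    congr 1
    refine List.map_congr_left fun i _ => ?_
    show ((ψ (π g₀ ^ i) v : V) : G) = _
    rw [← hj, ← map_pow, ← map_pow, ← map_pow, hψ, MulAut.conjNormal_apply]
  · have h1 : orderOf (g₀ ^ k) ∣ q ^ (orderOf g₀).factorization q := by
      refine orderOf_dvd_of_pow_eq_one ?_
      rw [← pow_mul, Nat.div_mul_cancel (Nat.ordProj_dvd _ _), pow_orderOf_eq_one]
    obtain ⟨m, -, hm⟩ := (Nat.dvd_prime_pow hqp).1 ((orderOf_pow_dvd j).trans h1)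
    exact ⟨m, hm⟩
  · intro h2
    obtain ⟨h, hh1, hhodd, hinv⟩ := hh h2
    obtain ⟨h₀, rfl⟩ := QuotientGroup.mk'_surjective φ.ker h
    haveI : Fact (Nat.Prime 2) := ⟨Nat.prime_two⟩
    set a := (orderOf h₀).factorization 2
    refine ⟨h₀ ^ 2 ^ a, hmem _ fun e => ?_, Nat.not_even_iff_odd.1 fun he => q_free_power h₀ 2 he.two_dvd, ?_⟩
    · rw [map_pow] at e
      exact hh1 (orderOf_eq_one_iff.1 (Nat.eq_one_of_dvd_coprimes
        (((Nat.prime_two.coprime_iff_not_dvd).2 hhodd.not_two_dvd_nat).pow_left a)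
        (orderOf_dvd_of_pow_eq_one e) dvd_rfl))
    · rw [← hker, ← QuotientGroup.eq_one_iff]
      show π _ = 1
      rw [map_mul, map_mul, map_mul, map_inv, map_pow π h₀, map_pow π (g₀ ^ k), map_pow π g₀, hj, ← conj_pow, hinv, inv_pow,
        inv_mul_cancel]

end Cfsg.Agent.Solv.Partition
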