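import Cfsg.Agent.Lib.Solv.Partition.Reduce
import Cfsg.Agent.Lib.Solv.Partition.Linear

/-!
# A normal component
-/

set_option autoImplicit false
set_option linter.style.haveILetI false
set_option linter.unusedSectionVars false

namespace Cfsg.Agent.Solv.Partition

open scoped Pointwise

open Finset

universe u

variable {G : Type u} [Group G] [Finite G]

/-- A complement acting without fixed points is a Frobenius complement. -/
theorem frob_of_fpf (N : Subgroup G) [hN : N.Normal] (hN1 : N ≠ ⊥) (hN2 : N ≠ ⊤)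
    (hcop : (Nat.card N).Coprime N.index)
    (hfpf : ∀ a : G, a ∉ N → (orderOf a).Coprime (Nat.card N) → ∀ m ∈ N, Commute a m → m = 1) :
    Frob G := by
  obtain ⟨L, hL⟩ := Subgroup.exists_right_complement'_of_coprime hcop
  have hsplit : ∀ g : G, ∃ l ∈ L, ∃ m ∈ N, g = l * m := fun g => by
    obtain ⟨⟨l, m⟩, h⟩ := hL.symm.2 g
    exact ⟨l, l.2, m, m.2, h.symm⟩
  have hdis : ∀ a : G, a ∈ N → a ∈ L → a = 1 := fun a ha ha' =>
    Subgroup.mem_bot.1 (hL.disjoint.eq_bot ▸ (⟨ha, ha'⟩ : a ∈ N ⊓ L))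
  refine ⟨L, fun e => hN2 ?_, fun e => hN1 ?_, fun g hg => ?_⟩
  · rw [eq_top_iff]
    intro g _
    obtain ⟨l, hl, m, hm, rfl⟩ := hsplit g
    rw [e, Subgroup.mem_bot] at hl
    rwa [hl, one_mul]
  · rw [eq_bot_iff]
    intro a ha
    exact Subgroup.mem_bot.2 (hdis a ha (e ▸ Subgroup.mem_top a))
  · rw [eq_bot_iff]
    rintro a ⟨haL, hag⟩
    obtain ⟨l, hl, m, hm, rfl⟩ := hsplit g
    have ha' : l⁻¹ * a * l ∈ L := mul_mem (mul_mem (inv_mem hl) haL) hl
    obtain ⟨b, hb, e⟩ := hag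
    have e' : a = l * (m * b * m⁻¹) * l⁻¹ := by
      rw [← e]
      show l * m * b * (l * m)⁻¹ = _
      group
    have ham : l⁻¹ * a * l = m * b * m⁻¹ := by rw [e']; group
    have hcN : m⁻¹ * ((l⁻¹ * a * l) * m * (l⁻¹ * a * l)⁻¹) ∈ N :=
      mul_mem (inv_mem hm) (hN.conj_mem m hm _)
    have hcL : m⁻¹ * ((l⁻¹ * a * l) * m * (l⁻¹ * a * l)⁻¹) ∈ L := by
      have e2 : m⁻¹ * ((l⁻¹ * a * l) * m * (l⁻¹ * a * l)⁻¹) = b * (l⁻¹ * a * l)⁻¹ := by
        rw [ham]; group
      rw [e2]
      exact mul_mem hb (inv_mem ha')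
    have hc := inv_mul_eq_one.1 (hdis _ hcN hcL)
    have hcomm : Commute (l⁻¹ * a * l) m := mul_inv_eq_iff_eq_mul.1 hc.symm
    rw [Subgroup.mem_bot]
    by_contra ha1
    have hne : l⁻¹ * a * l ≠ 1 := fun e2 => ha1 (by
      calc a = l * (l⁻¹ * a * l) * l⁻¹ := by group
        _ = 1 := by rw [e2]; group)
    have hco : (orderOf (l⁻¹ * a * l)).Coprime (Nat.card N) :=
      (hcop.symm.coprime_dvd_left (by
        rw [hL.symm.index_eq_card]
        exact Subgroup.orderOf_dvd_natCard L ha'))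
    have hm1 := hfpf _ (fun h => hne (hdis _ h ha')) hco m hm hcomm
    exact hg (by rw [hm1, mul_one]; exact hl)

/-- A nilpotent subgroup has central elements of every prime divisor of its order. -/
theorem exists_central_prime (H : Subgroup G) [Group.IsNilpotent H] {r : ℕ} [hr : Fact r.Prime]
    (hd : r ∣ Nat.card H) : ∃ z ∈ H, orderOf z = r ∧ ∀ h ∈ H, Commute z h := by
  obtain ⟨P⟩ : Nonempty (Sylow r H) := inferInstance
  have hall' : ∀ (p : ℕ) (_ : Fact p.Prime) (P : Sylow p H), (P : Subgroup H).Normal :=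
    ((Group.isNilpotent_of_finite_tfae (G := H)).out 0 3).1 (inferInstance : Group.IsNilpotent H)
  have hPn : (P : Subgroup H).Normal := hall' r hr P
  have hP1 : (P : Subgroup H) ≠ ⊥ := fun e => by
    have := P.dvd_card_of_dvd_card hd
    rw [e, Subgroup.card_bot] at this
    exact hr.out.ne_one (Nat.dvd_one.1 this)
  haveI : Nontrivial (P : Subgroup H) := (Subgroup.nontrivial_iff_ne_bot _).2 hP1
  haveI := P.isPGroup'.center_nontrivial
  obtain ⟨k, hk⟩ := IsPGroup.iff_card.1 (P.isPGroup'.to_subgroup (Subgroup.center (P : Subgroup H)))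
  have hrd : r ∣ Nat.card (Subgroup.center (P : Subgroup H)) := by
    rw [hk]
    exact dvd_pow_self r (fun e => by
      rw [e, pow_zero] at hk
      exact Finite.one_lt_card.ne' hk)
  obtain ⟨c, hc⟩ := exists_prime_orderOf_dvd_card' r hrd
  refine ⟨(((c : (P : Subgroup H)) : H) : G), ((c : (P : Subgroup H)) : H).2, ?_, fun h hh => ?_⟩
  · rw [Subgroup.orderOf_coe, Subgroup.orderOf_coe, Subgroup.orderOf_coe]
    exact hc
  · have hall : ∀ w : H, (∃ k, orderOf w = r ^ k) → w ∈ (P : Subgroup H) := by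
      rintro w ⟨k, hk⟩
      obtain ⟨Q, hQ⟩ := (IsPGroup.of_card (G := Subgroup.zpowers w) (p := r) (n := k)
        (by rw [Nat.card_zpowers, hk])).exists_le_sylow
      haveI := Sylow.unique_of_normal P hPn
      rw [Subsingleton.elim Q P] at hQ
      exact hQ (Subgroup.mem_zpowers w)
    set c' : H := ((c : (P : Subgroup H)) : H)
    have hc' : orderOf c' = r := by rw [Subgroup.orderOf_coe, Subgroup.orderOf_coe]; exact hc
    suffices h1 : Commute c' ⟨h, hh⟩ from congrArg Subtype.val h1.eq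
    set w : H := ⟨h, hh⟩
    set a := (orderOf w).factorization r
    set o' := orderOf w / r ^ a
    have hcop : (r ^ a).Coprime o' :=
      ((hr.out.coprime_iff_not_dvd).2 (Nat.not_dvd_ordCompl hr.out (orderOf_pos w).ne')).pow_left a
    have h2 : Commute c' (w ^ o') := by
      have h3 : w ^ o' ∈ (P : Subgroup H) :=
        hall _ ⟨a, orderOf_pow_orderOf_div (orderOf_pos w).ne' (Nat.ordProj_dvd _ _)⟩
      exact congrArg Subtype.val (Subgroup.mem_center_iff.1 c.2 ⟨_, h3⟩).symm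
    have h4 : Commute c' (w ^ r ^ a) := by
      refine Cfsg.Agent.TypePBasic.commute_of_coprime ?_
      rw [hc', orderOf_pow_of_dvd (pow_ne_zero _ hr.out.ne_zero) (Nat.ordProj_dvd _ _),
        hr.out.coprime_iff_not_dvd]
      exact Nat.not_dvd_ordCompl hr.out (orderOf_pos w).ne'
    have h5 := (h2.zpow_right (Nat.gcdB (r ^ a) o')).mul_right (h4.zpow_right (Nat.gcdA (r ^ a) o'))
    rw [← zpow_natCast, ← zpow_natCast, ← zpow_mul, ← zpow_mul, ← zpow_add] at h5
    have e : ((o' : ℤ) * Nat.gcdB (r ^ a) o' + ((r ^ a : ℕ) : ℤ) * Nat.gcdA (r ^ a) o') = 1 := by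
      have := Nat.gcd_eq_gcd_ab (r ^ a) o'
      rw [hcop] at this
      push_cast at this ⊢
      omega
    rwa [e, zpow_one] at h5

namespace Part

variable (P : Part G)

/-- The data attached to a central minimal normal subgroup of a normal component. -/
theorem normal_index (hnil : ∀ x : G, x ≠ 1 → Group.IsNilpotent (P.A x)) {x : G} (hx : x ≠ 1)
    [hH : (P.A x).Normal] {r : ℕ} [hr : Fact r.Prime] (hd : r ∣ Nat.card (P.A x)) :
    ∃ M : Subgroup G, M.Normal ∧ P.A x ≤ M ∧ ¬ r ∣ M.index ∧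
      (∀ g ∈ M, g ∉ P.A x → orderOf g = r) ∧
      (∀ g : G, g ∉ P.A x → r ∣ orderOf g → orderOf g = r) ∧
      ∃ V : Subgroup G, V.Normal ∧ V ≠ ⊥ ∧ V ≤ P.A x ∧ (∀ v ∈ V, ∀ w ∈ V, Commute v w) ∧
        (∀ v ∈ V, v ^ r = 1) ∧ M = Subgroup.centralizer (V : Set G) ∧
        (∀ g : G, g ∉ P.A x → ∀ v ∈ V, v ≠ 1 → Commute g v → orderOf g = r) := by
  classical
  haveI := hnil x hx
  obtain ⟨z, hz, hzo, hzc⟩ := exists_central_prime (P.A x) hd
  let K : Subgroup G :=
    { carrier := {w | w ∈ P.A x ∧ (∀ h ∈ P.A x, Commute w h) ∧ w ^ r = 1}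
      one_mem' := ⟨one_mem _, fun h _ => Commute.one_left h, one_pow r⟩
      mul_mem' := fun {a b} ha hb => ⟨mul_mem ha.1 hb.1, fun h hh => (ha.2.1 h hh).mul_left (hb.2.1 h hh),
        by rw [(ha.2.1 b hb.1).mul_pow, ha.2.2, hb.2.2, one_mul]⟩
      inv_mem' := fun {a} ha => ⟨inv_mem ha.1, fun h hh => (ha.2.1 h hh).inv_left,
        by rw [inv_pow, ha.2.2, inv_one]⟩ }
  haveI : K.Normal := by
    refine ⟨fun w hw g => ?_⟩
    obtain ⟨h1, h2, h3⟩ := hw
    refine ⟨hH.conj_mem w h1 g, fun h hh => ?_, by rw [conj_pow, h3, mul_one, mul_inv_cancel]⟩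
    have h4 := (h2 (g⁻¹ * h * g) (by simpa using hH.conj_mem h hh g⁻¹)).map (MulAut.conj g).toMonoidHom
    simpa [mul_assoc] using h4
  have hK : K ≠ ⊥ := fun e => by
    have h1 : z ∈ K := ⟨hz, hzc, by rw [← hzo, pow_orderOf_eq_one]⟩
    rw [e, Subgroup.mem_bot] at h1
    rw [h1, orderOf_one] at hzo
    exact hr.out.ne_one hzo.symm
  obtain ⟨V, hVn, hV1, hVK, hVmin⟩ := Cfsg.Agent.Solv.exists_minimal_normal_le K hK
  haveI := hVn
  set M := Subgroup.centralizer (V : Set G)
  have hMn : M.Normal := inferInstance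
  have hHM : P.A x ≤ M := fun h hh => Subgroup.mem_centralizer_iff.2 fun v hv => ((hVK hv).2.1 h hh).eq
  have hVexp : ∀ v ∈ V, v ^ r = 1 := fun v hv => (hVK hv).2.2
  have key : ∀ g : G, g ∉ P.A x → ∀ v ∈ V, v ≠ 1 → Commute g v → orderOf g = r := by
    intro g hg v hv hv1 hgv
    have hvA : P.A v = P.A x := P.eq (hVK hv).1 hv1
    obtain ⟨-, e⟩ := P.commute_orders hgv.symm hv1 (fun e => hg (e ▸ one_mem _))
      (fun e => hg (by rw [← hvA, e]; exact P.mem g))
    rw [e, orderOf_eq_prime (hVexp v hv) hv1]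
  have hVp : IsPGroup r V := fun w => ⟨1, Subtype.ext (by simpa using hVexp w.1 w.2)⟩
  have hM : ∀ g ∈ M, g ∉ P.A x → orderOf g = r := by
    intro g hgM hg
    obtain ⟨v, hv, hv1⟩ := (Subgroup.nontrivial_iff_exists_ne_one V).1 ((Subgroup.nontrivial_iff_ne_bot V).2 hV1)
    exact key g hg v hv hv1 ((Subgroup.mem_centralizer_iff.1 hgM v hv).symm)
  have hdi : ∀ g : G, g ∉ P.A x → r ∣ orderOf g → orderOf g = r := by
    intro g hg hrg
    by_cases hall : ∀ s : ℕ, s.Prime → s ∣ orderOf g → s = r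
    · obtain ⟨v, hv, hv1, hc⟩ := exists_commute_of_pgroup V hVp hV1 g
        ⟨_, Nat.eq_prime_pow_of_unique_prime_dvd (orderOf_pos g).ne' (fun {d} hd hdd => hall d hd hdd)⟩
      exact key g hg v hv hv1 hc
    · push Not at hall
      obtain ⟨s, hs, hsd, hsr⟩ := hall
      obtain ⟨y, v, hyo, hyg, hv, hv1, hc⟩ := P.exists_fixed_of_mixed hnil V hVp hV1 hs hsr hrg hsd
      have hy : y ∉ P.A x := fun hy => by
        obtain ⟨n, rfl⟩ := mem_powers_iff_mem_zpowers.2 hyg
        change g ^ n ∈ P.A x at hy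
        change orderOf (g ^ n) = s at hyo
        rw [(P.pow_outside_iff hg n).1 hy, orderOf_one] at hyo
        exact hs.ne_one hyo.symm
      exact absurd (hyo.symm.trans (key y hy v hv hv1 hc)) hsr
  refine ⟨M, hMn, hHM, ?_, hM, hdi, V, hVn, hV1, fun v hv => (hVK hv).1,
    fun v hv w hw => (hVK hv).2.1 w (hVK hw).1, hVexp, rfl, key⟩
  rcases linear_data V hV1 ⟨⟨fun a b => Subtype.ext ((hVK a.2).2.1 b (hVK b.2).1).eq⟩⟩ hVexp hVmin
      (fun g hg hrg v hv hc => by_contra fun hv1 => hrg (by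
        rw [key g (fun h => hg (hHM h)) v hv hv1 hc]))
      (fun g hg hrg s hs hsd => by
        rw [hdi g (fun h => hg (hHM h)) hrg] at hsd
        exact (Nat.prime_dvd_prime_iff_eq hs hr.out).1 hsd) with h | ⟨g, v, hgM, hgq, hv, hne, ⟨k, hk⟩, -⟩
  · exact h
  · exfalso
    have hgA : g ∉ P.A x := fun h => hgM (hHM h)
    have hk0 : k ≠ 0 := by
      rintro rfl
      rw [pow_zero, orderOf_eq_one_iff] at hk
      exact hgA (hk ▸ one_mem _)
    have e1 : g ^ r = 1 := by
      rw [← hdi g hgA (by rw [hk]; exact dvd_pow_self r hk0), pow_orderOf_eq_one]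
    have hvg : v * g ∉ P.A x := fun h => hgA (((P.A x).mul_mem_cancel_left (hVK hv).1).1 h)
    have hπ : orderOf (QuotientGroup.mk' M (v * g)) = r := by
      have hvM : v ∈ M := hHM (hVK hv).1
      rw [map_mul, show QuotientGroup.mk' M v = 1 from (QuotientGroup.eq_one_iff v).2 hvM, one_mul]
      refine orderOf_eq_prime ?_ fun e => hgM ((QuotientGroup.eq_one_iff g).1 e)
      rw [← map_pow]
      exact (QuotientGroup.eq_one_iff _).2 hgq
    have h2 := hdi _ hvg (hπ ▸ orderOf_map_dvd _ _)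
    refine hne ?_
    rw [e1, ← h2, pow_orderOf_eq_one]

/-- A normal component gives the Hughes or the Frobenius alternative. -/
theorem of_normal_component (hnil : ∀ x : G, x ≠ 1 → Group.IsNilpotent (P.A x)) {x : G} (hx : x ≠ 1)
    [hH : (P.A x).Normal] : Hughes G ∨ Frob G := by
  classical
  set H := P.A x
  have hH1 : H ≠ ⊥ := P.A_ne_bot hx
  by_cases hfix : ∀ y : G, y ∉ H → ∀ h ∈ H, Commute y h → h = 1
  · refine Or.inr (frob_of_fpf H hH1 (P.ne_top x) ?_ fun a ha _ => hfix a ha)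
    refine Nat.coprime_of_dvd fun p hp hp1 hp2 => ?_
    haveI := Fact.mk hp
    rw [Subgroup.index_eq_card] at hp2
    obtain ⟨e, he⟩ := exists_prime_orderOf_dvd_card' p hp2
    obtain ⟨g, rfl⟩ := QuotientGroup.mk'_surjective H e
    set b := (orderOf g).factorization p
    set g' := g ^ (orderOf g / p ^ b)
    have hg' : g' ∉ H := fun h => by
      have h1 : (QuotientGroup.mk' H g) ^ (orderOf g / p ^ b) = 1 := by
        rw [← map_pow]; exact (QuotientGroup.eq_one_iff _).2 h
      have h2 := orderOf_dvd_of_pow_eq_one h1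
      rw [he] at h2
      exact Nat.not_dvd_ordCompl hp (orderOf_pos g).ne' h2
    obtain ⟨z, hz, hzo, -⟩ := @exists_central_prime G _ _ H (hnil x hx) p _ hp1
    haveI := hnil x hx
    let S : Sylow p H := Classical.arbitrary _
    have hall' : ∀ (p : ℕ) (_ : Fact p.Prime) (P : Sylow p H), (P : Subgroup H).Normal :=
      ((Group.isNilpotent_of_finite_tfae (G := H)).out 0 3).1 (hnil x hx)
    haveI hSn : (S : Subgroup H).Normal := hall' p inferInstance S
    haveI := Sylow.characteristic_of_normal S hSn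
    haveI : ((S : Subgroup H).map H.subtype).Normal := ConjAct.normal_of_characteristic_of_normal
    obtain ⟨v, hv, hv1, hc⟩ := exists_commute_of_pgroup ((S : Subgroup H).map H.subtype) (q := p)
      (S.isPGroup'.map _) (fun e => by
        have h1 := (Subgroup.map_eq_bot_iff_of_injective _ H.subtype_injective).1 e
        have h2 := S.dvd_card_of_dvd_card hp1
        rw [h1, Subgroup.card_bot] at h2
        exact hp.ne_one (Nat.dvd_one.1 h2)) g'
      ⟨b, orderOf_pow_orderOf_div (orderOf_pos g).ne' (Nat.ordProj_dvd _ _)⟩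
    exact hv1 (hfix g' hg' v (Subgroup.map_subtype_le _ hv) hc)
  push Not at hfix
  obtain ⟨y, hy, h, hh, hyh, hh1⟩ := hfix
  obtain ⟨hq, hyq⟩ := P.commute_orders hyh.symm hh1 (fun e => hy (e ▸ one_mem _))
    (fun e => hy (by rw [show H = P.A h from (P.eq hh hh1).symm, e]; exact P.mem y))
  set q := orderOf h
  haveI := Fact.mk hq
  have hqd : q ∣ Nat.card H := Subgroup.orderOf_dvd_natCard H hh
  by_cases hall : ∀ g : G, g ∉ H → g ^ q = 1
  · exact Or.inl (hughes_of (P.ne_top x) hq hall)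
  push Not at hall
  obtain ⟨g₁, hg₁, hg₁q⟩ := hall
  obtain ⟨M, hMn, hHM, hMi, hMo, hdi, V, hVn, hV1, hVH, hVc, hVexp, hMV, key⟩ := P.normal_index hnil hx hqd
  haveI := hMn
  have hin : ∀ {N : Subgroup G} (_ : N.Normal) {r : ℕ}, r.Prime → ¬ r ∣ N.index → ∀ g : G, g ^ r = 1 → g ∈ N := by
    intro N hNn r hr hNi g hg
    haveI := hNn
    refine (QuotientGroup.eq_one_iff g).1 ?_
    have h1 : orderOf (g : G ⧸ N) ∣ r :=
      orderOf_dvd_of_pow_eq_one (by rw [← QuotientGroup.mk_pow, hg, QuotientGroup.mk_one])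
    rcases (Nat.dvd_prime hr).1 h1 with h2 | h2
    · exact orderOf_eq_one_iff.1 h2
    · exact absurd (by rw [← h2, Subgroup.index_eq_card]; exact orderOf_dvd_natCard _) hNi
  have hyM : y ∈ M := hin hMn hq hMi y (by rw [← hyq, pow_orderOf_eq_one])
  have hg₁M : g₁ ∉ M := fun h => hg₁q (by rw [← hMo g₁ h hg₁, pow_orderOf_eq_one])
  have hnq : ∀ g : G, g ∉ M → ¬ q ∣ orderOf g := fun g hg hd => hg (hin hMn hq hMi g (by
    rw [← hdi g (fun h => hg (hHM h)) hd, pow_orderOf_eq_one]))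
  have hcl : ∀ a : G, a ∉ M → ∀ m ∈ M, m ∉ H → (a * m * a⁻¹ * m⁻¹ ∈ H) → False := by
    intro a ha m hm hmH hc
    have hπ : Commute (QuotientGroup.mk' H a) (QuotientGroup.mk' H m) := by
      have h1 := (QuotientGroup.eq_one_iff _).2 hc
      change QuotientGroup.mk' H (a * m * a⁻¹ * m⁻¹) = 1 at h1
      rw [map_mul, map_mul, map_mul, map_inv, map_inv] at h1
      exact mul_inv_eq_iff_eq_mul.1 (mul_inv_eq_one.1 h1)
    have h2 : orderOf (QuotientGroup.mk' H m) = q := by
      refine orderOf_eq_prime ?_ fun e => hmH ((QuotientGroup.eq_one_iff m).1 e)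
      rw [← map_pow, ← hMo m hm hmH, pow_orderOf_eq_one, map_one]
    have h3 : (orderOf (QuotientGroup.mk' H a)).Coprime q :=
      ((hq.coprime_iff_not_dvd).2 fun h => hnq a ha (h.trans (orderOf_map_dvd _ _))).symm
    have h4 := hπ.orderOf_mul_eq_mul_orderOf_of_coprime (by rwa [h2])
    rw [← map_mul, h2] at h4
    refine hnq (a * m) (fun h => ha (((M).mul_mem_cancel_right hm).1 h)) ?_
    exact (dvd_mul_left q _).trans (h4 ▸ orderOf_map_dvd _ _)
  have hHq : IsPGroup q H := by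
    by_contra hnp
    have hr' : ∃ r : ℕ, r.Prime ∧ r ∣ Nat.card H ∧ r ≠ q := by
      by_contra hno
      push Not at hno
      exact hnp (IsPGroup.of_card (Nat.eq_prime_pow_of_unique_prime_dvd Nat.card_pos.ne' fun {d} => hno d))
    obtain ⟨r, hr, hrd, hrq⟩ := hr'
    haveI := Fact.mk hr
    obtain ⟨M', hM'n, hHM', hM'i, hM'o, -, W, hWn, hW1, hWH, hWc, hWexp, hM'W, key'⟩ :=
      P.normal_index hnil hx hrd
    haveI := hM'n
    haveI := hWn
    have hMM : ∀ m ∈ M, m ∈ M' → m ∈ H := fun m hm hm' =>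
      by_contra fun hmH => hrq ((hM'o m hm' hmH).symm.trans (hMo m hm hmH))
    obtain ⟨s, hs, hsd⟩ := Nat.exists_prime_and_dvd (n := orderOf g₁) fun e =>
      hg₁q (by rw [orderOf_eq_one_iff.1 e, one_pow])
    set z := g₁ ^ (orderOf g₁ / s)
    have hzo : orderOf z = s := orderOf_pow_orderOf_div (orderOf_pos g₁).ne' hsd
    have hsq : s ≠ q := fun e => hnq g₁ hg₁M (e ▸ hsd)
    have hzH : z ∉ H := fun hz => hs.ne_one
      (hzo.symm.trans (orderOf_eq_one_iff.2 ((P.pow_outside_iff hg₁ _).1 hz)))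
    have hzM : z ∉ M := fun hz => hsq (hzo.symm.trans (hMo z hz hzH))
    by_cases hzf : ∃ w ∈ W, w ≠ 1 ∧ Commute z w
    · obtain ⟨w, hw, hw1, hc⟩ := hzf
      have hsr : s = r := hzo.symm.trans (key' z hzH w hw hw1 hc)
      have hzM' : z ∈ M' := hin hM'n hr hM'i z (by rw [← hsr, ← hzo, pow_orderOf_eq_one])
      refine hcl z hzM y hyM hy (hMM _ (mul_mem (hMn.conj_mem y hyM z) (inv_mem hyM)) ?_)
      rw [show z * y * z⁻¹ * y⁻¹ = z * (y * z⁻¹ * y⁻¹) by group]
      exact mul_mem hzM' (hM'n.conj_mem _ (inv_mem hzM') y)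
    push Not at hzf
    letI : CommGroup W :=
      { (inferInstance : Group W) with mul_comm := fun a b => Subtype.ext (hWc a a.2 b b.2).eq }
    let ψ : G ⧸ H →* MulAut W := QuotientGroup.lift H MulAut.conjNormal fun h hh => by
      refine MonoidHom.mem_ker.2 (MulEquiv.ext fun w => Subtype.ext ?_)
      rw [MulAut.conjNormal_apply, MulAut.one_apply, mul_inv_eq_iff_eq_mul]
      have h1 : h ∈ Subgroup.centralizer (W : Set G) := hM'W ▸ hHM' hh
      exact (Subgroup.mem_centralizer_iff.1 h1 w.1 w.2).symm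
    have hψ : ∀ (g : G) (w : W), ψ (QuotientGroup.mk' H g) w = w → Commute g (w : G) := fun g w h => by
      have h1 := congrArg (fun v : W => (v : G)) h
      change ((MulAut.conjNormal g w : W) : G) = (w : G) at h1
      rw [MulAut.conjNormal_apply] at h1
      exact mul_inv_eq_iff_eq_mul.1 h1
    set R := M.map (QuotientGroup.mk' H)
    haveI := Fintype.ofFinite R
    have hRq : IsPGroup q R := by
      rintro ⟨e, m, hm, rfl⟩
      refine ⟨1, Subtype.ext ?_⟩
      show (QuotientGroup.mk' H m) ^ q ^ 1 = 1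
      rw [pow_one, ← map_pow]
      refine (QuotientGroup.eq_one_iff _).2 ?_
      by_cases hmH : m ∈ H
      · exact pow_mem hmH q
      · rw [← hMo m hm hmH, pow_orderOf_eq_one]; exact one_mem _
    have hR1 : R ≠ ⊥ := fun e => hy ((QuotientGroup.eq_one_iff y).1 (Subgroup.mem_bot.1
      (e ▸ Subgroup.mem_map_of_mem (QuotientGroup.mk' H) hyM)))
    have hπz : orderOf (QuotientGroup.mk' H z) = s := by
      haveI := Fact.mk hs
      refine orderOf_eq_prime (by rw [← map_pow, ← hzo, pow_orderOf_eq_one, map_one]) ?_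
      exact fun e => hzH ((QuotientGroup.eq_one_iff z).1 e)
    obtain ⟨k, hk⟩ := IsPGroup.iff_card.1 hRq
    refine hW1 ((Subgroup.eq_bot_iff_forall W).2 fun w hw => ?_)
    have hpow := pow_card_eq_one_of_norm ψ R hR1 (QuotientGroup.mk' H z) hs.ne_zero
      (fun e he he1 v hv => by
        obtain ⟨m, hm, rfl⟩ := he
        by_contra hv1
        refine hrq ?_
        have hmH : m ∉ H := fun h => he1 ((QuotientGroup.eq_one_iff m).2 h)
        rw [← key' m hmH v v.2 (fun e => hv1 (Subtype.ext e)) (hψ m v hv), hMo m hm hmH])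
      (by
        haveI : R.Normal := hMn.map _ (QuotientGroup.mk'_surjective H)
        rw [Subgroup.normalizer_eq_top]
        exact Subgroup.mem_top _)
      (fun i hi0 his e he hc => by
        obtain ⟨m, hm, rfl⟩ := he
        by_contra he1
        have hmH : m ∉ H := fun h => he1 ((QuotientGroup.eq_one_iff m).2 h)
        have hni : ¬ s ∣ i := fun h => absurd (Nat.le_of_dvd hi0 h) (not_le.2 his)
        refine hcl (z ^ i) (fun h => ?_) m hm hmH ((QuotientGroup.eq_one_iff _).1 ?_)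
        · obtain ⟨j, hj⟩ := exists_pow_eq_self_of_coprime (x := z) (n := i)
            (by rw [hzo]; exact ((hs.coprime_iff_not_dvd).2 hni).symm)
          exact hzM (hj ▸ pow_mem h j)
        · show QuotientGroup.mk' H (z ^ i * m * (z ^ i)⁻¹ * m⁻¹) = 1
          rw [map_mul, map_mul, map_mul, map_inv, map_inv, map_pow, hc, mul_inv_cancel_right, mul_inv_cancel])
      (fun v => by
        by_contra hne
        set n := ∏ i ∈ range s, ψ ((QuotientGroup.mk' H z) ^ i) v
        refine hzf n n.2 (fun e => hne (Subtype.ext e)) (hψ z n ?_)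
        rw [phi_prod]
        simp_rw [← MulAut.mul_apply, ← map_mul, ← pow_succ']
        have h1 := Finset.prod_range_succ' (fun i => ψ ((QuotientGroup.mk' H z) ^ i) v) s
        have h2 : (QuotientGroup.mk' H z) ^ s = 1 := by rw [← hπz, pow_orderOf_eq_one]
        rw [Finset.prod_range_succ, pow_zero, h2] at h1
        exact (mul_right_cancel h1).symm) ⟨w, hw⟩
    have h5 : (⟨w, hw⟩ : W) = 1 := eq_one_of_coprime_pows (m := r) (n := Fintype.card R)
      (Subtype.ext (hWexp w hw)) hpow (by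
        rw [← Nat.card_eq_fintype_card, hk]
        exact Nat.Coprime.pow_right _ ((Nat.coprime_primes hr hq).2 hrq))
    exact congrArg Subtype.val h5
  have hMq : IsPGroup q M := by
    rintro ⟨m, hm⟩
    by_cases hmH : m ∈ H
    · obtain ⟨k, hk⟩ := hHq ⟨m, hmH⟩
      exact ⟨k, Subtype.ext (by simpa using congrArg Subtype.val hk)⟩
    · exact ⟨1, Subtype.ext (by rw [pow_one]; simp [← hMo m hm hmH, pow_orderOf_eq_one])⟩
  obtain ⟨k, hk⟩ := IsPGroup.iff_card.1 hMq
  refine Or.inr (frob_of_fpf M (fun e => hH1 (le_bot_iff.1 (e ▸ hHM)))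
    (fun e => hg₁M (e ▸ Subgroup.mem_top g₁)) ?_ fun a ha hco m hm hc => ?_)
  · rw [hk]
    exact ((hq.coprime_iff_not_dvd).2 hMi).pow_left k
  · by_contra hm1
    have haH : a ∉ H := fun h => ha (hHM h)
    by_cases hmH : m ∈ H
    · obtain ⟨hmp, hma⟩ := P.commute_orders hc.symm hm1 (fun e => ha (e ▸ one_mem _))
        (fun e => haH (by rw [show H = P.A m from (P.eq hmH hm1).symm, e]; exact P.mem a))
      refine hnq a ha ?_
      obtain ⟨j, hj⟩ := IsPGroup.iff_orderOf.1 hHq ⟨m, hmH⟩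
      rw [Subgroup.orderOf_mk] at hj
      rw [hma, hj]
      exact dvd_pow_self q (by rintro rfl; rw [pow_zero] at hj; exact hm1 (orderOf_eq_one_iff.1 hj))
    · refine hcl a ha m hm hmH ?_
      rw [hc.eq]
      simp

end Part

end Cfsg.Agent.Solv.Partition
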